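import Groth.Agent.Lib.FibDepth5.Chart
import Groth.Prelude.Def_FlatMod2
import Groth.Prelude.Def_CInt

/-!
The depth data of the fibres of a flat module, and of a flat morphism.
-/

universe u

open CategoryTheory AlgebraicGeometry TopologicalSpace Topology

set_option backward.isDefEq.respectTransparency false

namespace Groth.Agent.FibDepth5

open FibDim14

variable {X Y : Scheme.{u}} (f : X ⟶ Y) (F : X.Modules)

/-- The stalk at `x` of the restriction of `F` to the fibre through `x`. -/
noncomputable abbrev fibStalk (x : X) : Type u :=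
  (((Scheme.Modules.pullback (f.fiberι (f.base x))).obj F).presheaf.stalk (f.asFiber x) : Type u)

/-- Its support dimension. -/
noncomputable def fibDim (x : X) : WithBot ℕ∞ := Module.supportDim (CInt.fiberStalk f x) (fibStalk f F x)

/-- Its support. -/
def fibSupp : Set X := {x | Nontrivial (fibStalk f F x)}

/-- `(S_k)` for it. -/
def fibSk (k : ℕ) (x : X) : Prop := LocCoh.HasSk k (CInt.fiberStalk f x) (fibStalk f F x)

theorem finitePresentation_sections_poly [LocallyOfFinitePresentation f] {V : Y.Opens} (hV : IsAffineOpen V)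
    {U : X.Opens} (hU : IsAffineOpen U) (e : U ≤ f ⁻¹ᵁ V) {N : ℕ}
    (c : MvPolynomial (Fin N) Γ(Y, V) →+* Γ(X, U)) (hc : Function.Surjective c)
    (hct : c.comp (algebraMap Γ(Y, V) (MvPolynomial (Fin N) Γ(Y, V))) = (f.appLE V U e).hom) :
    letI := c.toAlgebra
    Module.FinitePresentation (MvPolynomial (Fin N) Γ(Y, V)) Γ(X, U) := by
  letI : Algebra Γ(Y, V) Γ(X, U) := (f.appLE V U e).hom.toAlgebra
  haveI : Algebra.FinitePresentation Γ(Y, V) Γ(X, U) := f.finitePresentation_appLE hV hU e
  letI := c.toAlgebra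
  haveI : IsScalarTower Γ(Y, V) (MvPolynomial (Fin N) Γ(Y, V)) Γ(X, U) :=
    IsScalarTower.of_algebraMap_eq' hct.symm
  exact Module.finitePresentation_of_surjective (Algebra.linearMap (MvPolynomial (Fin N) Γ(Y, V)) Γ(X, U)) hc
    (Algebra.FinitePresentation.ker_fG_of_surjective
      (IsScalarTower.toAlgHom Γ(Y, V) (MvPolynomial (Fin N) Γ(Y, V)) Γ(X, U)) hc)

theorem flat_sections [Coh.IsQCoh F] (hflat : FlatMod.IsFlatOver f F) {V : Y.Opens} (hV : IsAffineOpen V)
    {U : X.Opens} (hU : IsAffineOpen U) (e : U ≤ f ⁻¹ᵁ V) :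
    letI := FlatH4.secModuleOver f F V U e
    Module.Flat Γ(Y, V) Γ(F, U) := by
  letI := (f.appLE V U e).hom.toAlgebra
  letI := FlatH4.secModuleOver f F V U e
  haveI : IsScalarTower Γ(Y, V) Γ(X, U) Γ(F, U) := IsScalarTower.of_algebraMap_smul fun _ _ => rfl
  refine Module.flat_of_isLocalized_maximal Γ(X, U) Γ(F, U) (fun P _ => LocalizedModule P.primeCompl Γ(F, U))
    (fun P _ => LocalizedModule.mkLinearMap P.primeCompl Γ(F, U)) fun P _ => ?_
  have hmem : hU.fromSpec ⟨P, inferInstance⟩ ∈ U := hU.range_fromSpec.le ⟨_, rfl⟩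
  have hprime : hU.primeIdealOf ⟨_, hmem⟩ = ⟨P, inferInstance⟩ :=
    hU.fromSpec.isOpenEmbedding.injective (hU.fromSpec_primeIdealOf ⟨_, hmem⟩)
  have h := (FlatH4.isFlatOverAt_iff f F V hV U hU e hmem).1 (hflat _)
  have key : ∀ (a b : PrimeSpectrum Γ(X, U)), a = b →
      Module.Flat Γ(Y, V) (LocalizedModule a.asIdeal.primeCompl Γ(F, U)) →
      Module.Flat Γ(Y, V) (LocalizedModule b.asIdeal.primeCompl Γ(F, U)) := by
    rintro a _ rfl h'; exact h'
  exact key _ _ hprime h

/-- The data of a flat finitely presented module. -/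
theorem fibData_mod [LocallyOfFinitePresentation f] (hF : CohB1.IsFP F) (hflat : FlatMod.IsFlatOver f F) :
    FibData f (CInt.fiberDepth f F) (fibDim f F) (fibSupp f F) ∧
      ∀ k x, fibSk f F k x ↔ ∀ x', x' ⤳ x → f x' = f x →
        min (k : WithBot ℕ∞) (fibDim f F x') ≤ ((CInt.fiberDepth f F x' : ℕ∞) : WithBot ℕ∞) := by
  haveI := M1.isFP_isQCoh hF
  refine fibData_of_model f fun x => ?_
  obtain ⟨V, hV, U, hU, e, N, c, hx, hc, hct⟩ := exists_chart f x
  letI := c.toAlgebra
  letI : Module (MvPolynomial (Fin N) Γ(Y, V)) Γ(F, U) := Module.compHom _ c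
  haveI : IsScalarTower (MvPolynomial (Fin N) Γ(Y, V)) Γ(X, U) Γ(F, U) :=
    IsScalarTower.of_algebraMap_smul fun _ _ => rfl
  letI := FlatH4.secModuleOver f F V U e
  haveI : IsScalarTower Γ(Y, V) (MvPolynomial (Fin N) Γ(Y, V)) Γ(F, U) :=
    IsScalarTower.of_algebraMap_smul fun r z => by
      show c (algebraMap Γ(Y, V) _ r) • z = f.appLE V U e r • z
      rw [← RingHom.comp_apply, hct]
  haveI := finitePresentation_sections_poly f hV hU e c hc hct
  haveI := M1.finitePresentation_sections hF hU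
  haveI : Module.FinitePresentation (MvPolynomial (Fin N) Γ(Y, V)) Γ(F, U) :=
    Module.FinitePresentation.trans _ _ Γ(X, U)
  haveI := flat_sections f F hflat hV hU e
  refine ⟨U, Γ(Y, V), inferInstance, N, Γ(F, U), inferInstance, inferInstance, inferInstance, inferInstance,
    inferInstance, inferInstance, chartMap hU N, hx,
    { inducing := (isEmbedding_chartMap hU N hc).isInducing
      supp := ?_
      rd_eq := rd_chartMap f hV hU e N hc hct
      fib := fib_chartMap f hV hU e N hct
      depth_eq := fun u => (fibre_bridge f hV hU e _ hc hct u.2 F).1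
      dim_eq := fun u => (fibre_bridge f hV hU e _ hc hct u.2 F).2.1
      mem_T := fun u => (fibre_bridge f hV hU e _ hc hct u.2 F).2.2.1
      sk_eq := fun k u => (fibre_bridge f hV hU e _ hc hct u.2 F).2.2.2.1 k }⟩
  rw [Module.support_eq_zeroLocus, range_chartMap hU N hc]
  refine PrimeSpectrum.zeroLocus_anti_mono fun a ha => Module.mem_annihilator.2 fun z => ?_
  show c a • z = 0
  rw [show c a = 0 from ha, zero_smul]

/-- The data of a flat morphism. -/
theorem fibData_ring [LocallyOfFinitePresentation f] [Flat f] :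
    FibData f (fun x => LocCoh.depth (CInt.fiberStalk f x) (CInt.fiberStalk f x))
        (fun x => Module.supportDim (CInt.fiberStalk f x) (CInt.fiberStalk f x)) Set.univ ∧
      ∀ k x, LocCoh.HasSk k (CInt.fiberStalk f x) (CInt.fiberStalk f x) ↔ ∀ x', x' ⤳ x → f x' = f x →
        min (k : WithBot ℕ∞) (Module.supportDim (CInt.fiberStalk f x') (CInt.fiberStalk f x')) ≤
          ((LocCoh.depth (CInt.fiberStalk f x') (CInt.fiberStalk f x') : ℕ∞) : WithBot ℕ∞) := by
  refine fibData_of_model f
    (Sk := fun k x => LocCoh.HasSk k (CInt.fiberStalk f x) (CInt.fiberStalk f x)) fun x => ?_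
  obtain ⟨V, hV, U, hU, e, N, c, hx, hc, hct⟩ := exists_chart f x
  letI := c.toAlgebra
  letI : Algebra Γ(Y, V) Γ(X, U) := (f.appLE V U e).hom.toAlgebra
  haveI : IsScalarTower Γ(Y, V) (MvPolynomial (Fin N) Γ(Y, V)) Γ(X, U) :=
    IsScalarTower.of_algebraMap_eq' hct.symm
  haveI := finitePresentation_sections_poly f hV hU e c hc hct
  haveI : Module.Flat Γ(Y, V) Γ(X, U) :=
    (HasRingHomProperty.iff_appLE (P := @Flat)).1 ‹_› ⟨V, hV⟩ ⟨U, hU⟩ e
  have hsupp : Module.support (MvPolynomial (Fin N) Γ(Y, V)) Γ(X, U) = Set.range (chartMap hU N (V := V)) := by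
    rw [Module.support_eq_zeroLocus, range_chartMap hU N hc]
    congr 1
    ext a
    rw [SetLike.mem_coe, Module.mem_annihilator, SetLike.mem_coe, RingHom.mem_ker]
    refine ⟨fun h => ?_, fun h z => ?_⟩
    · simpa [Algebra.smul_def] using h 1
    · rw [Algebra.smul_def, h, zero_mul]
  exact ⟨U, Γ(Y, V), inferInstance, N, Γ(X, U), inferInstance, inferInstance, inferInstance, inferInstance,
    inferInstance, inferInstance, chartMap hU N, hx,
    { inducing := (isEmbedding_chartMap hU N hc).isInducing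
      supp := hsupp.le
      rd_eq := rd_chartMap f hV hU e N hc hct
      fib := fib_chartMap f hV hU e N hct
      depth_eq := fun u => (fibre_bridge_self f hV hU e _ hc hct u.2).1
      dim_eq := fun u => (fibre_bridge_self f hV hU e _ hc hct u.2).2.1
      mem_T := fun u => iff_of_true trivial (hsupp.ge ⟨u, rfl⟩)
      sk_eq := fun k u => (fibre_bridge_self f hV hU e _ hc hct u.2).2.2 k }⟩

end Groth.Agent.FibDepth5
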