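import Groth.Agent.Lib.FibDepth5.Data
import Groth.Agent.Lib.FlatH4.FlatLocusScheme
import Groth.Agent.Lib.SMT.CMBasic
import Groth.Agent.Lib.FibDim14.Comp
import Groth.Agent.Lib.CMEquiDim4

/-!
Openness of depth conditions on the fibres: morphisms flat at a point, proper morphisms.
-/

universe u

open CategoryTheory AlgebraicGeometry TopologicalSpace Topology

set_option backward.isDefEq.respectTransparency false

namespace Groth.Agent.FibDepth5

open FibDim14

theorem hasSk_iff_of_ringEquiv {R R' : Type u} [CommRing R] [CommRing R'] (e : R ≃+* R') (k : ℕ) :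
    LocCoh.HasSk k R R ↔ LocCoh.HasSk k R' R' := by
  letI : Algebra R R' := e.toRingHom.toAlgebra
  have hs : Function.Surjective (algebraMap R R') := e.surjective
  let l : R ≃ₗ[R] R' := LinearEquiv.ofBijective (Algebra.linearMap R R') e.bijective
  rw [← hasSk_of_surjective hs (G := R') k]
  exact ⟨hasSk_congr' l, hasSk_congr' l.symm⟩

theorem nonempty_fiberStalk_openImmersion {W X Y : Scheme.{u}} (j : W ⟶ X) [IsOpenImmersion j] (f : X ⟶ Y)
    (w : W) : Nonempty (CInt.fiberStalk (j ≫ f) w ≃+* CInt.fiberStalk f (j w)) := by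
  haveI : IsOpenImmersion (FibDim14.fibMap j f ((j ≫ f) w)) :=
    MorphismProperty.of_isPullback (CMEquiDim4.isPullback_fibMap j f ((j ≫ f) w)) ‹IsOpenImmersion j›
  have hpt : FibDim14.fibMap j f ((j ≫ f) w) ((j ≫ f).asFiber w) = f.asFiber (j w) := by
    refine (f.fiberι (f (j w))).isEmbedding.injective ?_
    rw [f.fiberι_asFiber]
    refine (FibDim14.fiberι_fibMap j f ((j ≫ f) w) _).trans ?_
    rw [(j ≫ f).fiberι_asFiber]
  have key : ∀ z, FibDim14.fibMap j f ((j ≫ f) w) ((j ≫ f).asFiber w) = z →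
      Nonempty (CInt.fiberStalk (j ≫ f) w ≃+* (f.fiber ((j ≫ f) w)).presheaf.stalk z) := by
    rintro _ rfl
    exact ⟨(asIso ((FibDim14.fibMap j f ((j ≫ f) w)).stalkMap _)).commRingCatIsoToRingEquiv.symm⟩
  exact key _ hpt

/-- An open condition on the fibres of flat morphisms is open jointly with flatness. -/
theorem isOpen_flatAt_and {X Y : Scheme.{u}} (f : X ⟶ Y) [LocallyOfFinitePresentation f]
    (Q : ∀ (R : Type u) [CommRing R] [IsLocalRing R], Prop)
    (hQ : ∀ (R R' : Type u) [CommRing R] [IsLocalRing R] [CommRing R'] [IsLocalRing R'], (R ≃+* R') →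
      Q R → Q R')
    (hopen : ∀ {W : Scheme.{u}} (g : W ⟶ Y) [Flat g] [LocallyOfFinitePresentation g],
      IsOpen {w : W | Q (CInt.fiberStalk g w)}) :
    IsOpen {x : X | (f.stalkMap x).hom.Flat ∧ Q (CInt.fiberStalk f x)} := by
  let U : X.Opens := ⟨{x | (f.stalkMap x).hom.Flat}, FlatH4.isOpen_flatLocus f⟩
  haveI : Flat (U.ι ≫ f) := by
    refine (Flat.iff_flat_stalkMap _).2 fun w => ?_
    rw [Scheme.Hom.stalkMap_comp, CommRingCat.hom_comp]
    exact RingHom.Flat.comp w.2 (Flat.stalkMap U.ι w)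
  refine (congrArg IsOpen (Set.ext fun x => ?_)).mp (U.ι.isOpenEmbedding.isOpenMap _ (hopen (U.ι ≫ f)))
  constructor
  · rintro ⟨w, hw, rfl⟩
    obtain ⟨e⟩ := nonempty_fiberStalk_openImmersion U.ι f w
    exact ⟨w.2, hQ _ _ e hw⟩
  · rintro ⟨hx, hxQ⟩
    obtain ⟨e⟩ := nonempty_fiberStalk_openImmersion U.ι f ⟨x, hx⟩
    exact ⟨⟨x, hx⟩, hQ _ _ e.symm hxQ, rfl⟩

theorem forall_fiber_iff {X Y : Scheme.{u}} (f : X ⟶ Y) (Q : ∀ y : Y, f.fiber y → Prop) (y : Y) :
    (∀ z, Q y z) ↔ ∀ x, f x = y → Q (f x) (f.asFiber x) := by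
  constructor
  · rintro h x rfl
    exact h _
  · intro h z
    have hz : f (f.fiberι y z) = y := (Scheme.Hom.range_fiberι f y).le ⟨z, rfl⟩
    generalize hx : f.fiberι y z = x at hz
    subst hz
    rw [show z = f.asFiber x from (f.fiberι _).isEmbedding.injective (hx.trans (f.fiberι_asFiber x).symm)]
    exact h x rfl

/-- For a proper morphism, an open condition holds on all of a fibre over an open set of the base. -/
theorem isOpen_forall_fiber {X Y : Scheme.{u}} (f : X ⟶ Y) [IsProper f] (Q : ∀ y : Y, f.fiber y → Prop)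
    (hQ : IsOpen {x : X | Q (f x) (f.asFiber x)}) : IsOpen {y : Y | ∀ z, Q y z} := by
  refine (congrArg IsOpen (Set.ext fun y => ?_)).mp (f.isClosedMap _ hQ.isClosed_compl).isOpen_compl
  rw [Set.mem_setOf_eq, forall_fiber_iff]
  refine ⟨fun h x hx => ?_, fun h => ?_⟩
  · by_contra hn
    exact h ⟨x, hn, hx⟩
  · rintro ⟨x, hx, rfl⟩
    exact hx (h x rfl)

variable {X Y : Scheme.{u}} (f : X ⟶ Y) [LocallyOfFinitePresentation f]

theorem isOpen_fibre_hasSk [Flat f] (k : ℕ) :
    IsOpen {x : X | LocCoh.HasSk k (CInt.fiberStalk f x) (CInt.fiberStalk f x)} := by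
  obtain ⟨h, hsk⟩ := fibData_ring f
  simp only [hsk]
  exact h.isOpen_sk k

theorem isOpen_fibre_coprof [Flat f] (n : ℕ) :
    IsOpen {x : X | ringKrullDim (CInt.fiberStalk f x) ≤
      ((LocCoh.depth (CInt.fiberStalk f x) (CInt.fiberStalk f x) : ℕ∞) : WithBot ℕ∞) + n} := by
  simp only [← Module.supportDim_self_eq_ringKrullDim]
  exact (fibData_ring f).1.isOpen_coprof n

theorem coprof_zero_iff (F : X.Modules) (hF : CohB1.IsFP F) (hflat : FlatMod.IsFlatOver f F) (x : X) :
    fibDim f F x ≤ ((CInt.fiberDepth f F x : ℕ∞) : WithBot ℕ∞) + (0 : ℕ) ↔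
      Subsingleton (fibStalk f F x) ∨ LocCoh.IsCohenMacaulayModule (CInt.fiberStalk f x) (fibStalk f F x) := by
  obtain ⟨h, -⟩ := fibData_mod f F hF hflat
  rw [Nat.cast_zero, add_zero]
  by_cases hx : x ∈ fibSupp f F
  · obtain ⟨d, hd, hle⟩ := h.le_S x hx
    refine ⟨fun h' => Or.inr (le_antisymm h' ?_), fun h' => ?_⟩
    · have e : LocCoh.depth (CInt.fiberStalk f x) (fibStalk f F x) = d := hd
      rw [e]
      exact hle
    · rcases h' with h' | h'
      · exact absurd h' (not_subsingleton_iff_nontrivial.2 hx)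
      · exact le_of_eq h'
  · refine iff_of_true ?_ (Or.inl (not_nontrivial_iff_subsingleton.1 hx))
    rw [(h.top_D x hx).2]
    exact bot_le

end Groth.Agent.FibDepth5
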