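import Groth.Agent.Lib.FibDepth5.GeomRkOpenApps

/-!
Openness of geometric reducedness on the fibres.
-/

universe u

open CategoryTheory CategoryTheory.Limits AlgebraicGeometry TopologicalSpace Topology IsLocalRing

set_option backward.isDefEq.respectTransparency false

namespace Groth.Agent.FibDepth5

open FibDim14

/-- Geometric reducedness is geometric `(R_0)` plus `(S_1)`. -/
theorem geomReduced_iff {k : Type u} [Field k] {Z : Scheme.{u}} (p : Z ⟶ Spec (CommRingCat.of k))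
    [LocallyOfFinitePresentation p] (z : Z) :
    FBase.IsGeomReducedAt p z ↔
      (∀ w, w ⤳ z → ringKrullDim (Z.presheaf.stalk w) ≤ ((0 : ℕ) : WithBot ℕ∞) → w ∈ p.smoothLocus) ∧
        LocCoh.HasSk 1 (Z.presheaf.stalk z) (Z.presheaf.stalk z) := by
  have hN : ∀ (K : Type u) [Field K] [Algebra k K] (z' : ↥(FBase.bc p K)),
      _root_.IsReduced ((FBase.bc p K).presheaf.stalk z') ↔
        LocCoh.HasRk 0 ((FBase.bc p K).presheaf.stalk z') ∧
          LocCoh.HasSk 1 ((FBase.bc p K).presheaf.stalk z') ((FBase.bc p K).presheaf.stalk z') := by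
    intro K _ _ z'
    haveI : LocallyOfFiniteType (FBase.bcStr p K) := MorphismProperty.pullback_snd _ _ inferInstance
    haveI : IsLocallyNoetherian (FBase.bc p K) := LocallyOfFiniteType.isLocallyNoetherian (FBase.bcStr p K)
    exact SerreCrit.isReduced_iff
  rw [← geomRk_iff p z 0]
  constructor
  · intro h
    refine ⟨fun K _ _ z' hz' => ((hN K z').1 (h K z' hz')).1, ?_⟩
    obtain ⟨z', hz', -⟩ := DimF18.exists_over
      (show IsPullback (FBase.bcπ p k) (FBase.bcStr p k) p _ from IsPullback.of_hasPullback _ _) z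
    have := (hasSk_stalk_bc_iff p k 1 z').1 ((hN k z').1 (h k z' hz')).2
    rwa [show (FBase.bcπ p k).base z' = z from hz'] at this
  · rintro ⟨h1, h2⟩ K _ _ z' hz'
    refine (hN K z').2 ⟨h1 K z' hz', (hasSk_stalk_bc_iff p K 1 z').2 ?_⟩
    rw [hz']
    exact h2

variable {X Y : Scheme.{u}} (f : X ⟶ Y) [LocallyOfFinitePresentation f]

theorem fibreDimAt_le_rd_iff (η : X) :
    FlatMor.fibreDimAt f η ≤ ((rd f η + 0 : ℕ) : WithBot ℕ∞) ↔ IsMaxFib f η := by
  rw [← supportDim_fiberStalk_eq_zero_iff, Module.supportDim_self_eq_ringKrullDim]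
  obtain ⟨b, hb, hb'⟩ := exists_fibre_stalk_dim f η
  rw [hb, hb', Nat.cast_le, Nat.cast_inj]
  omega

/-- Geometric reducedness of the fibre, on the total space. -/
theorem geomReduced_fibre_iff (x : X) :
    FBase.IsGeomReducedAt (f.fiberToSpecResidueField (f x)) (f.asFiber x) ↔
      (∀ y, y ⤳ x → f y = f x → IsMaxFib f y → y ∉ fibSing f) ∧
        LocCoh.HasSk 1 (CInt.fiberStalk f x) (CInt.fiberStalk f x) := by
  refine (geomReduced_iff (k := Y.residueField (f x)) (f.fiberToSpecResidueField (f x)) (f.asFiber x)).trans ?_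
  refine and_congr ?_ Iff.rfl
  refine (geomRk_iff (k := Y.residueField (f x)) (f.fiberToSpecResidueField (f x)) (f.asFiber x) 0).symm.trans
    ((geomRk_fibre_iff f 0 x).trans ?_)
  simp only [fibreDimAt_le_rd_iff]

theorem isOpen_hasSk_one_smooth_max [Flat f] :
    IsOpen {x : X | LocCoh.HasSk 1 (CInt.fiberStalk f x) (CInt.fiberStalk f x) ∧
      ∀ η, η ⤳ x → f η = f x → IsMaxFib f η → η ∈ f.smoothLocus} := by
  obtain ⟨h, hsk⟩ := fibData_ring f
  let C : ℕ → Set X := fun r => upSet f ((f.smoothLocus : Set X)ᶜ ∩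
    {y | LocCoh.depth (CInt.fiberStalk f y) (CInt.fiberStalk f y) + (rd f y : ℕ∞) ≤ (r : ℕ∞)}) r
  have hC : IsClosed (⋃ r, C r) := isClosed_iUnion_of_bounded (f := f) _
    (fun r => isClosed_upSet f (f.smoothLocus.2.isClosed_compl.inter (h.closed_E r)) r)
    (fun r x hx => le_fibreDimAt_of_mem_upSet hx)
  refine (congrArg IsOpen (Set.ext fun x => ?_)).mp ((isOpen_fibre_hasSk f 1).inter hC.isOpen_compl)
  refine and_congr_right fun hS1 => ?_
  constructor
  · intro hx η hη he hmax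
    by_contra hns
    refine hx (Set.mem_iUnion.2 ⟨rd f η, η, hη, he, ⟨hns, ?_⟩, le_rfl⟩)
    exact h.assoc_iff.1 (h.assoc_of_S_eq_zero trivial ((supportDim_fiberStalk_eq_zero_iff f η).2 hmax))
  · intro hx hxC
    obtain ⟨r, η, hη, he, ⟨hns, hE⟩, hr⟩ := Set.mem_iUnion.1 hxC
    obtain ⟨ha, -⟩ := h.assoc_of_mem_E hE hr
    refine hns (hx η hη he ?_)
    have h1 := (hsk 1 x).1 hS1 η hη he
    obtain ⟨b, δ, hb, -⟩ := h.dim_rd η trivial
    rw [show LocCoh.depth (CInt.fiberStalk f η) (CInt.fiberStalk f η) = 0 from ha, hb] at h1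
    have hb0 : b = 0 := by
      rcases min_le_iff.1 h1 with h1 | h1
      · exact absurd (show (1 : ℕ) ≤ 0 from by exact_mod_cast h1) (by omega)
      · exact Nat.le_zero.1 (by exact_mod_cast h1)
    subst hb0
    exact (supportDim_fiberStalk_eq_zero_iff f η).1 hb

theorem not_mem_fibSing_iff_of_flat {y : X} (hy : (f.stalkMap y).hom.Flat) :
    y ∉ fibSing f ↔ y ∈ f.smoothLocus := by
  have h1 := FibreLocus.mem_fibSet_iff_of_field f (𝟙 Y)
    FibreLocus.isPtLocal_smoothPt _ (Y.fromSpecResidueField (f y))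
    (qY := Y.fromSpecResidueField (f y)) (gK := 𝟙 _) IsPullback.of_id_fst.flip
    (IsPullback.of_hasPullback f (Y.fromSpecResidueField (f y))) (f.asFiber y)
  rw [show pullback.fst f (Y.fromSpecResidueField (f y)) (f.asFiber y) = y from f.fiberι_asFiber y] at h1
  rw [← SmoothPt12.smoothPt_iff_mem, SmoothPt12.smoothPt_iff_flat_and_fibSet]
  exact not_not.trans
    ((h1.trans (Descend.smooth_nhd_iff_mem_smoothLocus (f.fiberToSpecResidueField (f y)) _)).symm.trans
      ⟨fun h => ⟨hy, h⟩, fun h => h.2⟩)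

/-- **Openness** of the locus of flatness and geometric reducedness of the fibre. -/
theorem isOpen_flat_geomReduced :
    IsOpen {x : X | (f.stalkMap x).hom.Flat ∧ FBase.IsGeomReducedAt (f.fiberToSpecResidueField (f x)) (f.asFiber x)} := by
  let U : X.Opens := ⟨{x | (f.stalkMap x).hom.Flat}, FlatH4.isOpen_flatLocus f⟩
  haveI : Flat (U.ι ≫ f) := by
    refine (Flat.iff_flat_stalkMap _).2 fun w => ?_
    rw [Scheme.Hom.stalkMap_comp, CommRingCat.hom_comp]
    exact RingHom.Flat.comp w.2 (Flat.stalkMap U.ι w)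
  have hsm : ∀ w : U, w ∈ (U.ι ≫ f).smoothLocus ↔ U.ι w ∈ f.smoothLocus := fun w => by
    rw [← Scheme.Hom.preimage_smoothLocus_eq]
    rfl
  have hmax : ∀ w : U, IsMaxFib (U.ι ≫ f) w ↔ IsMaxFib f (U.ι w) := fun w => by
    constructor
    · intro h y hy he
      have hyU : y ∈ U := hy.mem_open U.2 w.2
      exact congrArg Subtype.val (h ⟨y, hyU⟩ ((subtype_specializes_iff _ _).2 hy) he)
    · intro h y hy he
      exact Subtype.ext (h y.1 ((subtype_specializes_iff _ _).1 hy) he)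
  refine (congrArg IsOpen (Set.ext fun x => ?_)).mp
    (U.ι.isOpenEmbedding.isOpenMap _ (isOpen_hasSk_one_smooth_max (U.ι ≫ f)))
  rw [Set.mem_setOf_eq, geomReduced_fibre_iff]
  constructor
  · rintro ⟨w, ⟨hS, hw⟩, rfl⟩
    obtain ⟨e⟩ := nonempty_fiberStalk_openImmersion U.ι f w
    refine ⟨w.2, fun η hη he hm => ?_, (hasSk_iff_of_ringEquiv e 1).1 hS⟩
    have hηU : η ∈ U := hη.mem_open U.2 w.2
    refine (not_mem_fibSing_iff_of_flat f (y := η) hηU).2 ?_
    exact (hsm ⟨η, hηU⟩).1 (hw ⟨η, hηU⟩ ((subtype_specializes_iff _ _).2 hη) he ((hmax ⟨η, hηU⟩).2 hm))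
  · rintro ⟨hx, hm, hS⟩
    obtain ⟨e⟩ := nonempty_fiberStalk_openImmersion U.ι f ⟨x, hx⟩
    refine ⟨⟨x, hx⟩, ⟨(hasSk_iff_of_ringEquiv e 1).2 hS, fun η hη he hηm => (hsm η).2 ?_⟩, rfl⟩
    exact (not_mem_fibSing_iff_of_flat f η.2).1
      (hm η.1 ((subtype_specializes_iff _ _).1 hη) he ((hmax η).1 hηm))

end Groth.Agent.FibDepth5
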