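import Groth.Agent.Lib.FibDepth5.ConstrRing
import Groth.Agent.Lib.FlatDepth.CMTensor

/-!
Serre's conditions are invariant under extensions of the ground field.
-/

universe u

open scoped TensorProduct

namespace Groth.Agent.FibDepth5

theorem hasSk_localization_iff_skAt {R : Type u} [CommRing R] [IsNoetherianRing R] (n : ℕ) (p : Ideal R)
    [p.IsPrime] :
    LocCoh.HasSk n (Localization.AtPrime p) (Localization.AtPrime p) ↔ FlatDepth.SkAt n R p := by
  rw [← FlatDepth.hasSkAt_self_iff]
  let l : LocalizedModule p.primeCompl R ≃ₗ[Localization.AtPrime p] Localization.AtPrime p :=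
    (IsLocalizedModule.iso p.primeCompl (Algebra.linearMap R (Localization.AtPrime p))).extendScalarsOfIsLocalization
      p.primeCompl _
  exact ⟨hasSk_congr' l.symm, hasSk_congr' l⟩

/-- `(S_n)` is invariant under extensions of the ground field. -/
theorem hasSk_tensor_field_iff (n : ℕ) {k : Type u} [Field k] (S : Type u) [CommRing S] [Algebra k S]
    [IsNoetherianRing S] (K : Type u) [Field K] [Algebra k K] [IsNoetherianRing (S ⊗[k] K)]
    (q : Ideal (S ⊗[k] K)) [q.IsPrime] :
    LocCoh.HasSk n (Localization.AtPrime q) (Localization.AtPrime q) ↔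
      LocCoh.HasSk n (Localization.AtPrime (q.comap (algebraMap S (S ⊗[k] K))))
        (Localization.AtPrime (q.comap (algebraMap S (S ⊗[k] K)))) := by
  rw [hasSk_localization_iff_skAt, hasSk_localization_iff_skAt]
  exact ⟨fun h => FlatDepth.skAt_base q h,
    fun h => FlatDepth.skAt_of_fibres q h fun q' _ _ => FlatDepth.skIneq_fibLoc_field (k := k) S K n q'⟩

end Groth.Agent.FibDepth5
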