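import Groth.Agent.Lib.FibDepth5.GeomRkConstr
import Groth.Agent.Lib.FibDepth5.SkField
import Groth.Agent.Lib.SerreCrit.Basic

/-!
Geometric normality of schemes over a field.
-/

universe u

open CategoryTheory CategoryTheory.Limits AlgebraicGeometry TopologicalSpace Topology IsLocalRing

set_option backward.isDefEq.respectTransparency false

namespace Groth.Agent.FibDepth5

theorem normal_local_iff (L : Type u) [CommRing L] [IsLocalRing L] [IsNoetherianRing L] :
    IsDomain L ∧ IsIntegrallyClosed L ↔ LocCoh.HasRk 1 L ∧ LocCoh.HasSk 2 L L := by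
  rw [← SerreCrit.normal_iff]
  constructor
  · rintro ⟨_, _⟩ p _
    have hp : p.primeCompl ≤ nonZeroDivisors L := Ideal.primeCompl_le_nonZeroDivisors p
    exact ⟨IsLocalization.isDomain_localization hp, isIntegrallyClosed_of_isLocalization (Localization.AtPrime p) p.primeCompl hp⟩
  · intro h
    obtain ⟨h1, h2⟩ := h (maximalIdeal L)
    let e : L ≃+* Localization.AtPrime (maximalIdeal L) :=
      (IsLocalization.atUnits L (maximalIdeal L).primeCompl
        (fun x hx => not_not.1 fun hne => hx ((IsLocalRing.mem_maximalIdeal _).2 hne))).toRingEquiv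
    haveI := e.toMulEquiv.isDomain
    exact ⟨‹_›, IsIntegrallyClosed.of_equiv e.symm⟩

theorem hasSk_stalk_bc_iff {k : Type u} [Field k] {Z : Scheme.{u}} (p : Z ⟶ Spec (CommRingCat.of k))
    [LocallyOfFiniteType p] (K : Type u) [Field K] [Algebra k K] (n : ℕ) (z' : ↥(FBase.bc p K)) :
    LocCoh.HasSk n ((FBase.bc p K).presheaf.stalk z') ((FBase.bc p K).presheaf.stalk z') ↔
      LocCoh.HasSk n (Z.presheaf.stalk ((FBase.bcπ p K).base z')) (Z.presheaf.stalk ((FBase.bcπ p K).base z')) :=
  Ring.qq_stalk_field_bc_iff (Q := fun R _ _ => LocCoh.HasSk n R R)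
    (fun _ _ _ _ _ _ e => (hasSk_iff_of_ringEquiv e n).1)
    (fun S _ _ _ K _ _ _ q _ => hasSk_tensor_field_iff n S K q)
    (algebraMap k K) (t := p) (t' := FBase.bcStr p K) (IsPullback.of_hasPullback _ _) z'

/-- Geometric normality is `(R_1)` geometrically plus `(S_2)`. -/
theorem geomNormal_iff {k : Type u} [Field k] {Z : Scheme.{u}} (p : Z ⟶ Spec (CommRingCat.of k))
    [LocallyOfFinitePresentation p] (z : Z) :
    (∀ (K : Type u) [Field K] [Algebra k K] (z' : ↥(FBase.bc p K)), (FBase.bcπ p K).base z' = z →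
        IsDomain ((FBase.bc p K).presheaf.stalk z') ∧ IsIntegrallyClosed ((FBase.bc p K).presheaf.stalk z')) ↔
      (∀ w, w ⤳ z → ringKrullDim (Z.presheaf.stalk w) ≤ ((1 : ℕ) : WithBot ℕ∞) → w ∈ p.smoothLocus) ∧
        LocCoh.HasSk 2 (Z.presheaf.stalk z) (Z.presheaf.stalk z) := by
  have hN : ∀ (K : Type u) [Field K] [Algebra k K] (z' : ↥(FBase.bc p K)),
      IsDomain ((FBase.bc p K).presheaf.stalk z') ∧ IsIntegrallyClosed ((FBase.bc p K).presheaf.stalk z') ↔
        LocCoh.HasRk 1 ((FBase.bc p K).presheaf.stalk z') ∧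
          LocCoh.HasSk 2 ((FBase.bc p K).presheaf.stalk z') ((FBase.bc p K).presheaf.stalk z') := by
    intro K _ _ z'
    haveI : LocallyOfFiniteType (FBase.bcStr p K) := MorphismProperty.pullback_snd _ _ inferInstance
    haveI : IsLocallyNoetherian (FBase.bc p K) := LocallyOfFiniteType.isLocallyNoetherian (FBase.bcStr p K)
    exact normal_local_iff _
  rw [← geomRk_iff p z 1]
  constructor
  · intro h
    refine ⟨fun K _ _ z' hz' => ((hN K z').1 (h K z' hz')).1, ?_⟩
    obtain ⟨z', hz', -⟩ := DimF18.exists_over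
      (show IsPullback (FBase.bcπ p k) (FBase.bcStr p k) p _ from IsPullback.of_hasPullback _ _) z
    have := (hasSk_stalk_bc_iff p k 2 z').1 ((hN k z').1 (h k z' hz')).2
    rwa [show (FBase.bcπ p k).base z' = z from hz'] at this
  · rintro ⟨h1, h2⟩ K _ _ z' hz'
    refine (hN K z').2 ⟨h1 K z' hz', (hasSk_stalk_bc_iff p K 2 z').2 ?_⟩
    rw [hz']
    exact h2

variable {X Y : Scheme.{u}} (f : X ⟶ Y) [LocallyOfFinitePresentation f]

theorem geomNormal_fibre_iff (x : X) :
    (∀ (K : Type u) [Field K] [Algebra (IsLocalRing.ResidueField (Y.presheaf.stalk (f.base x))) K]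
        (x' : ↥(FBase.bc (f.fiberToSpecResidueField (f.base x)) K)),
        (FBase.bcπ (f.fiberToSpecResidueField (f.base x)) K).base x' = f.asFiber x →
          IsDomain ((FBase.bc (f.fiberToSpecResidueField (f.base x)) K).presheaf.stalk x') ∧
            IsIntegrallyClosed ((FBase.bc (f.fiberToSpecResidueField (f.base x)) K).presheaf.stalk x')) ↔
      (∀ y, y ⤳ x → f y = f x → FlatMor.fibreDimAt f y ≤ ((FibDim14.rd f y + 1 : ℕ) : WithBot ℕ∞) → y ∉ fibSing f) ∧
        LocCoh.HasSk 2 (CInt.fiberStalk f x) (CInt.fiberStalk f x) := by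
  refine (geomNormal_iff (k := Y.residueField (f x)) (f.fiberToSpecResidueField (f x)) (f.asFiber x)).trans ?_
  rw [← geomRk_fibre_iff f 1 x]
  exact and_congr (geomRk_iff (k := Y.residueField (f x)) (f.fiberToSpecResidueField (f x)) (f.asFiber x) 1).symm
    Iff.rfl

theorem isLocallyConstructible_geomNormal :
    IsLocallyConstructible {x : X |
      (∀ y, y ⤳ x → f y = f x → FlatMor.fibreDimAt f y ≤ ((FibDim14.rd f y + 1 : ℕ) : WithBot ℕ∞) → y ∉ fibSing f) ∧
        LocCoh.HasSk 2 (CInt.fiberStalk f x) (CInt.fiberStalk f x)} :=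
  (isLocallyConstructible_geomRk f 1).inter
    (Ring.isLocallyConstructible_setOf_qq_fibre
      (Q := fun R _ _ => LocCoh.HasSk 2 R R)
      (fun _ _ _ _ _ _ e => (hasSk_iff_of_ringEquiv e 2).1)
      (fun S _ _ _ K _ _ _ q _ => hasSk_tensor_field_iff 2 S K q)
      (fun g _ _ => isOpen_fibre_hasSk g 2) f)

end Groth.Agent.FibDepth5
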