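import Groth.Agent.Lib.FibDepth5.Bridge
import Groth.Agent.Lib.FlatDepth.SkLocal
import Groth.Agent.Lib.Depth.SkOps

/-!
Serre's conditions of the fibre of a module, at the generizations in the fibre.
-/

universe u

open IsLocalRing

namespace Groth.Agent.FibDepth5

variable {A P : Type u} [CommRing A] [CommRing P] [Algebra A P] {M : Type u} [AddCommGroup M] [Module P M]

/-- The fibre module at `q` is the localization of the reduction of the module modulo the prime below. -/
theorem nonempty_fibLocMod_equiv (q : Ideal P) [q.IsPrime] {p : Ideal A}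
    (hp : q.comap (algebraMap A P) = p) :
    Nonempty (EGA4.FibLocMod A P q M ≃ₗ[Localization.AtPrime q]
      LocalizedModule q.primeCompl (M ⧸ (p.map (algebraMap A P) • ⊤ : Submodule P M))) := by
  subst hp
  refine ⟨(Submodule.quotEquivOfEq _ _ ?_).trans (localizedQuotientEquiv q.primeCompl _)⟩
  rw [Submodule.localized, Submodule.localized'_smul, Submodule.localized'_top,
    Submodule.localized'_eq_span, IsScalarTower.algebraMap_eq A P (Localization.AtPrime q), ← Ideal.map_map]
  rfl

theorem invariants_red [Module.Finite P M] (q : Ideal P) [q.IsPrime] {p : Ideal A}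
    (hp : q.comap (algebraMap A P) = p) :
    haveI := isLocalRing_fibLocRing (A := A) q;
    LocCoh.depth (Localization.AtPrime q)
        (LocalizedModule q.primeCompl (M ⧸ (p.map (algebraMap A P) • ⊤ : Submodule P M))) =
      LocCoh.depth (EGA4.FibLocRing A P q) (EGA4.FibLocMod A P q M) ∧
    Module.supportDim (Localization.AtPrime q)
        (LocalizedModule q.primeCompl (M ⧸ (p.map (algebraMap A P) • ⊤ : Submodule P M))) =
      Module.supportDim (EGA4.FibLocRing A P q) (EGA4.FibLocMod A P q M) := by
  obtain ⟨e⟩ := nonempty_fibLocMod_equiv (M := M) q hp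
  haveI := isLocalRing_fibLocRing (A := A) q
  haveI : Module.Finite (EGA4.FibLocRing A P q) (EGA4.FibLocMod A P q M) :=
    Module.Finite.of_restrictScalars_finite (Localization.AtPrime q) _ _
  constructor
  · rw [← FlatDepth.depth_eq_of_surjective (EGA4.FibLocMod A P q M) (A := Localization.AtPrime q)
      (B := EGA4.FibLocRing A P q) Ideal.Quotient.mk_surjective]
    exact (DepthLib.idealDepth_congr e).symm
  · rw [← FlatDepth.supportDim_eq_of_surjective (EGA4.FibLocMod A P q M) (A := Localization.AtPrime q)
      (B := EGA4.FibLocRing A P q) Ideal.Quotient.mk_surjective]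
    exact (Module.supportDim_eq_of_equiv e).symm

/-- `(S_k)` for the fibre at `q` concerns the generizations of `q` in the fibre. -/
theorem hasSk_fibLocMod_iff [Module.Finite P M] (k : ℕ) (q : Ideal P) [q.IsPrime] :
    LocCoh.HasSk k (Localization.AtPrime q) (EGA4.FibLocMod A P q M) ↔
      ∀ (q' : Ideal P) [q'.IsPrime], q' ≤ q → q'.comap (algebraMap A P) = q.comap (algebraMap A P) →
        min (k : WithBot ℕ∞)
            (Module.supportDim (EGA4.FibLocRing A P q') (EGA4.FibLocMod A P q' M)) ≤
          ((haveI := isLocalRing_fibLocRing (A := A) q';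
            LocCoh.depth (EGA4.FibLocRing A P q') (EGA4.FibLocMod A P q' M) : ℕ∞) : WithBot ℕ∞) := by
  obtain ⟨e⟩ := nonempty_fibLocMod_equiv (A := A) (M := M) q rfl
  let Mb := M ⧸ ((q.comap (algebraMap A P)).map (algebraMap A P) • ⊤ : Submodule P M)
  have h0 : LocCoh.HasSk k (Localization.AtPrime q) (EGA4.FibLocMod A P q M) ↔ EGA4.HasSkAt k P Mb q :=
    ⟨hasSk_congr' e, hasSk_congr' e.symm⟩
  rw [h0, FlatDepth.hasSkAt_iff]
  constructor
  · intro h q' _ hle hq'
    obtain ⟨h1, h2⟩ := invariants_red (M := M) q' hq'
    rw [← h1, ← h2]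
    exact h q' hle
  · intro h q' _ hle
    by_cases hq' : q'.comap (algebraMap A P) = q.comap (algebraMap A P)
    · obtain ⟨h1, h2⟩ := invariants_red (M := M) q' hq'
      rw [h1, h2]
      exact h q' hle hq'
    · haveI : Subsingleton (LocalizedModule q'.primeCompl Mb) := by
        have hle' : q'.comap (algebraMap A P) ≤ q.comap (algebraMap A P) := Ideal.comap_mono hle
        obtain ⟨a, ha, ha'⟩ := SetLike.not_le_iff_exists.1 fun h' => hq' (le_antisymm hle' h')
        refine LocalizedModule.subsingleton_iff.2 fun m => ⟨algebraMap A P a, ha', ?_⟩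
        obtain ⟨m, rfl⟩ := Submodule.mkQ_surjective _ m
        rw [← map_smul, Submodule.mkQ_apply, Submodule.Quotient.mk_eq_zero]
        exact Submodule.smul_mem_smul (Ideal.mem_map_of_mem _ ha) Submodule.mem_top
      rw [Module.supportDim_eq_bot_of_subsingleton]
      exact (min_le_right _ _).trans bot_le

end Groth.Agent.FibDepth5
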