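import Groth.Agent.Lib.FlatDepth.Fibre
import Groth.Agent.Lib.Depth.SkOps
import Groth.Agent.Lib.Depth.More
import Groth.Prelude.Def_EGA4b
import Groth.Prelude.Def_CAlg
import Mathlib

/-!
Depth and dimension of the fibre of a module, computed in a ring mapping onto the local ring.
-/

universe u

open TensorProduct IsLocalRing

namespace Groth.Agent.FibDepth5

theorem surjective_and_ker_of_isBaseChange {S R : Type u} [CommRing S] [CommRing R] [Algebra S R]
    (hR : Function.Surjective (algebraMap S R)) {F G : Type u} [AddCommGroup F] [Module S F]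
    [AddCommGroup G] [Module S G] [Module R G] [IsScalarTower S R G] {h : F →ₗ[S] G}
    (hb : IsBaseChange R h) :
    Function.Surjective h ∧ LinearMap.ker h = RingHom.ker (algebraMap S R) • (⊤ : Submodule S F) := by
  let I := RingHom.ker (algebraMap S R)
  let ε : (S ⧸ I) ≃ₐ[S] R := Ideal.quotientKerAlgEquivOfSurjective (f := Algebra.ofId S R) hR
  have key : ∀ x, h x = hb.equiv (TensorProduct.congr ε.toLinearEquiv (LinearEquiv.refl S F) (1 ⊗ₜ x)) := fun x => by
    rw [TensorProduct.congr_tmul, AlgEquiv.toLinearEquiv_apply, map_one, LinearEquiv.refl_apply,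
      IsBaseChange.equiv_tmul, one_smul]
  refine ⟨fun y => ?_, Submodule.ext fun x => ?_⟩
  · obtain ⟨z, rfl⟩ := hb.equiv.surjective y
    obtain ⟨x, hx⟩ := TensorProduct.mk_surjective S F R hR z
    refine ⟨x, ?_⟩
    rw [← hx, TensorProduct.mk_apply, IsBaseChange.equiv_tmul, one_smul]
  · rw [LinearMap.mem_ker, key, LinearEquiv.map_eq_zero_iff, LinearEquiv.map_eq_zero_iff,
      ← LinearMap.ker_tensorProductMk]
    rfl

theorem isLocalizedModule_of_surjective {P B : Type u} [CommRing P] [CommRing B] [Algebra P B]
    (hc : Function.Surjective (algebraMap P B)) (q : Ideal B) [q.IsPrime] {M F : Type u} [AddCommGroup M]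
    [Module B M] [Module P M] [IsScalarTower P B M] [AddCommGroup F] [Module B F] [Module P F]
    [IsScalarTower P B F] (g : M →ₗ[B] F) [IsLocalizedModule q.primeCompl g] :
    IsLocalizedModule (q.comap (algebraMap P B)).primeCompl (g.restrictScalars P) where
  map_units r := by
    have h := IsLocalizedModule.map_units g (⟨algebraMap P B r.1, r.2⟩ : q.primeCompl)
    rw [Module.End.isUnit_iff] at h ⊢
    refine (congrArg Function.Bijective (funext fun x => ?_)).mp h
    exact algebraMap_smul B r.1 x
  surj y := by
    obtain ⟨⟨m, ⟨b, hb⟩⟩, h⟩ := IsLocalizedModule.surj q.primeCompl g y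
    obtain ⟨b, rfl⟩ := hc b
    refine ⟨⟨m, ⟨b, hb⟩⟩, ?_⟩
    rw [Submonoid.smul_def] at h ⊢
    rwa [← algebraMap_smul B]
  exists_of_eq {m₁ m₂} h := by
    obtain ⟨⟨b, hb⟩, e⟩ := IsLocalizedModule.exists_of_eq (S := q.primeCompl) (f := g) h
    obtain ⟨b, rfl⟩ := hc b
    refine ⟨⟨b, hb⟩, ?_⟩
    change algebraMap P B b • m₁ = algebraMap P B b • m₂ at e
    show b • m₁ = b • m₂
    rwa [← algebraMap_smul B b m₁, ← algebraMap_smul B b m₂]

theorem hasSk_congr' {A : Type u} [CommRing A] {M N : Type u} [AddCommGroup M] [Module A M] [AddCommGroup N]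
    [Module A N] {k : ℕ} (e : M ≃ₗ[A] N) (h : LocCoh.HasSk k A M) : LocCoh.HasSk k A N := by
  intro p _
  have e' : LocalizedModule p.primeCompl M ≃ₗ[Localization.AtPrime p] LocalizedModule p.primeCompl N :=
    IsLocalizedModule.mapEquiv p.primeCompl (LocalizedModule.mkLinearMap p.primeCompl M)
      (LocalizedModule.mkLinearMap p.primeCompl N) (Localization.AtPrime p) e
  rw [LocCoh.depth, ← DepthLib.idealDepth_congr e', ← Module.supportDim_eq_of_equiv e']
  exact h p

theorem hasSk_of_surjective {L R : Type u} [CommRing L] [CommRing R] [Algebra L R]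
    (hs : Function.Surjective (algebraMap L R)) {G : Type u} [AddCommGroup G] [Module L G] [Module R G]
    [IsScalarTower L R G] [Module.Finite R G] (k : ℕ) :
    LocCoh.HasSk k L G ↔ LocCoh.HasSk k R G := by
  have key : ∀ (p : Ideal R) [p.IsPrime],
      LocCoh.depth (Localization.AtPrime (p.comap (algebraMap L R)))
          (LocalizedModule (p.comap (algebraMap L R)).primeCompl G) =
        LocCoh.depth (Localization.AtPrime p) (LocalizedModule p.primeCompl G) ∧
      Module.supportDim (Localization.AtPrime (p.comap (algebraMap L R)))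
          (LocalizedModule (p.comap (algebraMap L R)).primeCompl G) =
        Module.supportDim (Localization.AtPrime p) (LocalizedModule p.primeCompl G) := by
    intro p _
    let Q := p.comap (algebraMap L R)
    let LQ := Localization.AtPrime Q
    let Rp := Localization.AtPrime p
    let Gp := LocalizedModule p.primeCompl G
    letI : Algebra LQ Rp := (Localization.localRingHom Q p (algebraMap L R) rfl).toAlgebra
    have hsurj : Function.Surjective (algebraMap LQ Rp) := fun x => by
      obtain ⟨a, ⟨b, hb⟩, rfl⟩ := IsLocalization.exists_mk'_eq p.primeCompl x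
      obtain ⟨a, rfl⟩ := hs a
      obtain ⟨b, rfl⟩ := hs b
      refine ⟨IsLocalization.mk' LQ a (⟨b, hb⟩ : Q.primeCompl), ?_⟩
      exact Localization.localRingHom_mk' _ _ _ rfl a _
    letI : Module LQ Gp := Module.compHom Gp (algebraMap LQ Rp)
    haveI : IsScalarTower LQ Rp Gp := IsScalarTower.of_algebraMap_smul fun _ _ => rfl
    haveI : IsScalarTower L LQ Gp := IsScalarTower.of_algebraMap_smul fun a z => by
      change Localization.localRingHom Q p (algebraMap L R) rfl (algebraMap L LQ a) • z = a • z
      rw [Localization.localRingHom_to_map, algebraMap_smul, algebraMap_smul]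
    let g : G →ₗ[L] Gp := (LocalizedModule.mkLinearMap p.primeCompl G).restrictScalars L
    haveI : IsLocalizedModule Q.primeCompl g :=
      isLocalizedModule_of_surjective hs p (LocalizedModule.mkLinearMap p.primeCompl G)
    let ψ : LocalizedModule Q.primeCompl G ≃ₗ[LQ] Gp :=
      (IsLocalizedModule.iso Q.primeCompl g).extendScalarsOfIsLocalization Q.primeCompl LQ
    constructor
    · rw [← FlatDepth.depth_eq_of_surjective Gp hsurj]
      exact DepthLib.idealDepth_congr ψ
    · rw [← FlatDepth.supportDim_eq_of_surjective Gp hsurj]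
      exact Module.supportDim_eq_of_equiv ψ
  constructor
  · intro h p _
    obtain ⟨h1, h2⟩ := key p
    rw [← h1, ← h2]
    exact h _
  · intro h Q _
    by_cases hQ : RingHom.ker (algebraMap L R) ≤ Q
    · haveI : (Q.map (algebraMap L R)).IsPrime := Ideal.map_isPrime_of_surjective hs hQ
      have e : (Q.map (algebraMap L R)).comap (algebraMap L R) = Q := by
        rw [Ideal.comap_map_of_surjective _ hs]
        exact sup_eq_left.2 hQ
      obtain ⟨h1, h2⟩ := key (Q.map (algebraMap L R))
      have h3 := h (Q.map (algebraMap L R))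
      rw [← h1, ← h2] at h3
      have aux : ∀ (a b : Ideal L) [a.IsPrime] [b.IsPrime], a = b →
          min (k : WithBot ℕ∞) (Module.supportDim (Localization.AtPrime a) (LocalizedModule a.primeCompl G)) ≤
            ((LocCoh.depth (Localization.AtPrime a) (LocalizedModule a.primeCompl G) : ℕ∞) : WithBot ℕ∞) →
          min (k : WithBot ℕ∞) (Module.supportDim (Localization.AtPrime b) (LocalizedModule b.primeCompl G)) ≤
            ((LocCoh.depth (Localization.AtPrime b) (LocalizedModule b.primeCompl G) : ℕ∞) : WithBot ℕ∞) := by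
        intro a b _ _ e h; subst e; exact h
      exact aux _ _ e h3
    · haveI : Subsingleton (LocalizedModule Q.primeCompl G) := by
        obtain ⟨a, ha, haQ⟩ := SetLike.not_le_iff_exists.1 hQ
        refine LocalizedModule.subsingleton_iff.2 fun m => ⟨a, haQ, ?_⟩
        rw [← algebraMap_smul R, RingHom.mem_ker.1 ha, zero_smul]
      rw [Module.supportDim_eq_bot_of_subsingleton]
      exact (min_le_right _ _).trans bot_le

theorem isEquidimModule_of_surjective {L R : Type u} [CommRing L] [CommRing R] [Algebra L R]
    (hs : Function.Surjective (algebraMap L R)) {G : Type u} [AddCommGroup G] [Module L G] [Module R G]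
    [IsScalarTower L R G] [Module.Finite R G] :
    EGA4.IsEquidimModule L G ↔ EGA4.IsEquidimModule R G := by
  have hann : Module.annihilator L G = (Module.annihilator R G).comap (algebraMap L R) := by
    ext a
    rw [Ideal.mem_comap, Module.mem_annihilator, Module.mem_annihilator]
    simp only [algebraMap_smul]
  have hdim : ∀ p : Ideal R, ringKrullDim (L ⧸ p.comap (algebraMap L R)) = ringKrullDim (R ⧸ p) := fun p =>
    ringKrullDim_eq_of_ringEquiv (RingEquiv.ofBijective (Ideal.quotientMap p (algebraMap L R) le_rfl)
      ⟨Ideal.quotientMap_injective, Ideal.quotientMap_surjective hs⟩)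
  unfold EGA4.IsEquidimModule
  rw [hann, Ideal.comap_minimalPrimes_eq_of_surjective hs, Set.forall_mem_image,
    FlatDepth.supportDim_eq_of_surjective G hs]
  simp only [hdim]

theorem isEquidimModule_congr {L : Type u} [CommRing L] {G G' : Type u} [AddCommGroup G] [Module L G]
    [AddCommGroup G'] [Module L G'] (e : G ≃ₗ[L] G') :
    EGA4.IsEquidimModule L G ↔ EGA4.IsEquidimModule L G' := by
  unfold EGA4.IsEquidimModule
  rw [e.annihilator_eq, Module.supportDim_eq_of_equiv e]

variable {A P : Type u} [CommRing A] [CommRing P] [Algebra A P]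

theorem nontrivial_fibLocMod_iff (q : Ideal P) [q.IsPrime] (M : Type u) [AddCommGroup M] [Module P M]
    [Module.Finite P M] :
    Nontrivial (EGA4.FibLocMod A P q M) ↔ (⟨q, ‹_›⟩ : PrimeSpectrum P) ∈ Module.support P M := by
  rw [Module.mem_support_iff]
  let L := Localization.AtPrime q
  let N := LocalizedModule q.primeCompl M
  have hle : (q.comap (algebraMap A P)).map (algebraMap A L) ≤ maximalIdeal L := by
    rw [IsScalarTower.algebraMap_eq A P L, ← Ideal.map_map, ← Localization.AtPrime.map_eq_maximalIdeal]
    exact Ideal.map_mono Ideal.map_comap_le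
  constructor
  · intro h
    by_contra hn
    rw [not_nontrivial_iff_subsingleton] at hn
    exact false_of_nontrivial_of_subsingleton (EGA4.FibLocMod A P q M)
  · intro h
    refine Submodule.Quotient.nontrivial_iff.2 fun htop => ?_
    exact DepthLib.smul_top_ne_top (M := N) (maximalIdeal.isMaximal L).ne_top
      (top_le_iff.1 (htop.ge.trans (Submodule.smul_mono hle le_rfl)))

variable (q : Ideal P) [q.IsPrime]

theorem isLocalRing_fibLocRing : IsLocalRing (EGA4.FibLocRing A P q) := by
  haveI : Nontrivial (EGA4.FibLocRing A P q) := Ideal.Quotient.nontrivial_iff.2 fun htop => by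
    refine (maximalIdeal.isMaximal (Localization.AtPrime q)).ne_top (top_le_iff.1 (htop.ge.trans ?_))
    rw [IsScalarTower.algebraMap_eq A P (Localization.AtPrime q), ← Ideal.map_map,
      ← Localization.AtPrime.map_eq_maximalIdeal]
    exact Ideal.map_mono Ideal.map_comap_le
  exact IsLocalRing.of_surjective' (Ideal.Quotient.mk _) Ideal.Quotient.mk_surjective

/-- The fibre of a module at `q`, seen in a local ring `S` onto which the local ring at `q` maps. -/
theorem bridge {S R : Type u} [CommRing S] [CommRing R] [IsLocalRing R] [Algebra P S] [Algebra A S]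
    [IsScalarTower A P S] [Algebra S R] (hu : ∀ y : q.primeCompl, IsUnit (algebraMap P S y))
    (hsj : ∀ s : S, ∃ a : P, ∃ b : q.primeCompl, algebraMap P S b * s = algebraMap P S a)
    (hR : Function.Surjective (algebraMap S R)) {M : Type u} [AddCommGroup M] [Module P M]
    [Module.Finite P M] {F : Type u} [AddCommGroup F] [Module P F] [Module S F] [IsScalarTower P S F]
    (g : M →ₗ[P] F) [IsLocalizedModule q.primeCompl g] {G : Type u} [AddCommGroup G] [Module R G]
    [Module S G] [IsScalarTower S R G] (h : F →ₗ[S] G) (hh : Function.Surjective h)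
    (hk : LinearMap.ker h = ((q.comap (algebraMap A P)).map (algebraMap A S)) • (⊤ : Submodule S F)) :
    LocCoh.depth R G = (haveI := isLocalRing_fibLocRing (A := A) q
      LocCoh.depth (EGA4.FibLocRing A P q) (EGA4.FibLocMod A P q M)) ∧
      Module.supportDim R G = Module.supportDim (EGA4.FibLocRing A P q) (EGA4.FibLocMod A P q M) ∧
      (Nontrivial G ↔ (⟨q, ‹_›⟩ : PrimeSpectrum P) ∈ Module.support P M) ∧
      (∀ k : ℕ, LocCoh.HasSk k R G ↔ LocCoh.HasSk k (Localization.AtPrime q) (EGA4.FibLocMod A P q M)) ∧
      (EGA4.IsEquidimModule R G ↔ EGA4.IsEquidimModule (Localization.AtPrime q) (EGA4.FibLocMod A P q M)) := by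
  let L := Localization.AtPrime q
  letI : Algebra L S := (IsLocalization.lift (M := q.primeCompl) (S := L) hu).toAlgebra
  haveI : IsScalarTower P L S := IsScalarTower.of_algebraMap_eq fun x => (IsLocalization.lift_eq hu x).symm
  haveI : IsScalarTower A L S := IsScalarTower.of_algebraMap_eq fun a => by
    rw [IsScalarTower.algebraMap_apply A P L, ← IsScalarTower.algebraMap_apply P L S,
      ← IsScalarTower.algebraMap_apply A P S]
  have hLS : Function.Surjective (algebraMap L S) := fun s => by
    obtain ⟨a, b, e⟩ := hsj s
    refine ⟨IsLocalization.mk' L a b, (hu b).mul_left_cancel ?_⟩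
    rw [e, IsScalarTower.algebraMap_apply P L S b.1, ← map_mul, IsLocalization.mk'_spec',
      ← IsScalarTower.algebraMap_apply P L S]
  letI : Module L F := Module.compHom F (algebraMap L S)
  haveI : IsScalarTower L S F := IsScalarTower.of_algebraMap_smul fun _ _ => rfl
  haveI : IsScalarTower P L F := IsScalarTower.of_algebraMap_smul fun r x => by
    rw [← algebraMap_smul S (algebraMap P L r), ← IsScalarTower.algebraMap_apply, algebraMap_smul]
  letI : Module L G := Module.compHom G (algebraMap L S)
  haveI : IsScalarTower L S G := IsScalarTower.of_algebraMap_smul fun _ _ => rfl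
  letI : Algebra L R := ((algebraMap S R).comp (algebraMap L S)).toAlgebra
  haveI : IsScalarTower L S R := IsScalarTower.of_algebraMap_eq fun _ => rfl
  haveI : IsScalarTower L R G := IsScalarTower.of_algebraMap_smul fun r x => by
    rw [IsScalarTower.algebraMap_apply L S R, algebraMap_smul, algebraMap_smul]
  let ψ : LocalizedModule q.primeCompl M ≃ₗ[L] F :=
    (IsLocalizedModule.iso q.primeCompl g).extendScalarsOfIsLocalization q.primeCompl L
  let θ : LocalizedModule q.primeCompl M →ₗ[L] G := (h.restrictScalars L).comp ψ.toLinearMap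
  have hθ : Function.Surjective θ := hh.comp ψ.surjective
  have hker : LinearMap.ker θ = (q.comap (algebraMap A P)).map (algebraMap A L) •
      (⊤ : Submodule L (LocalizedModule q.primeCompl M)) := by
    rw [LinearMap.ker_comp, LinearMap.ker_restrictScalars, hk, IsScalarTower.algebraMap_eq A L S,
      ← Ideal.map_map, Ideal.smul_restrictScalars, Submodule.restrictScalars_top,
      Submodule.comap_equiv_eq_map_symm, Submodule.map_smul'', Submodule.map_top]
    congr 1
    exact LinearMap.range_eq_top.2 ψ.symm.surjective
  let e : EGA4.FibLocMod A P q M ≃ₗ[L] G :=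
    (Submodule.quotEquivOfEq _ _ hker.symm).trans (θ.quotKerEquivOfSurjective hθ)
  have hLR : Function.Surjective (algebraMap L R) := hR.comp hLS
  haveI : Module.Finite L G := Module.Finite.equiv e
  haveI := isLocalRing_fibLocRing (A := A) q
  haveI : Module.Finite R G := Module.Finite.of_restrictScalars_finite L R G
  haveI : Module.Finite (EGA4.FibLocRing A P q) (EGA4.FibLocMod A P q M) :=
    Module.Finite.of_restrictScalars_finite L _ _
  refine ⟨?_, ?_, ?_, fun k => (hasSk_of_surjective hLR k).symm.trans
    ⟨hasSk_congr' e.symm, hasSk_congr' e⟩,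
    (isEquidimModule_of_surjective hLR).symm.trans (isEquidimModule_congr e).symm⟩
  · rw [← FlatDepth.depth_eq_of_surjective G hLR,
      ← FlatDepth.depth_eq_of_surjective (EGA4.FibLocMod A P q M)
        (A := L) (B := EGA4.FibLocRing A P q) Ideal.Quotient.mk_surjective]
    exact (DepthLib.idealDepth_congr e).symm
  · rw [← FlatDepth.supportDim_eq_of_surjective G hLR,
      ← FlatDepth.supportDim_eq_of_surjective (EGA4.FibLocMod A P q M)
        (A := L) (B := EGA4.FibLocRing A P q) Ideal.Quotient.mk_surjective]
    exact (Module.supportDim_eq_of_equiv e).symm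
  · exact e.toEquiv.nontrivial_congr.symm.trans (nontrivial_fibLocMod_iff q M)

end Groth.Agent.FibDepth5
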