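import Groth.Agent.Lib.RegLoc.PD
import Groth.Agent.Lib.FlatSyz.ProjDim
import Groth.Agent.Lib.Depth.More
import Groth.Agent.Lib.Depth.CM
import Groth.Prelude.Def_EGA4b
import Mathlib

/-!
Projective dimension: open sublevel sets, and invariance under passage to the closed fibre of a flat module.
-/

universe u

open CategoryTheory TensorProduct IsLocalRing

namespace Groth.Agent.FibDepth5

open RegLoc

theorem isOpen_pd_localized {A : Type u} [CommRing A] [IsNoetherianRing A] (n : ℕ) :
    ∀ (M : Type u) [AddCommGroup M] [Module A M] [Module.Finite A M],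
      IsOpen {p : PrimeSpectrum A | PD (Localization.AtPrime p.asIdeal) (LocalizedModule p.asIdeal.primeCompl M) n} := by
  induction n with
  | zero =>
    intro M _ _ _
    haveI : Module.FinitePresentation A M := Module.finitePresentation_of_finite A M
    refine (congrArg IsOpen (Set.ext fun p => ?_)).mp (Module.isOpen_freeLocus (R := A) (M := M))
    show Module.Free _ _ ↔ _
    rw [Set.mem_setOf_eq, pd_zero_iff]
    exact ⟨fun _ => inferInstance, fun _ => Module.free_of_flat_of_isLocalRing⟩
  | succ n ih =>
    intro M _ _ _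
    obtain ⟨k, π, hπ⟩ := Module.Finite.exists_fin' A M
    haveI : Module.Finite A π.ker := Module.Finite.iff_fg.2 (IsNoetherian.noetherian _)
    refine (congrArg IsOpen (Set.ext fun p => ?_)).mp (ih π.ker)
    rw [Set.mem_setOf_eq, Set.mem_setOf_eq]
    haveI : Module.Projective (Localization.AtPrime p.asIdeal) (LocalizedModule p.asIdeal.primeCompl (Fin k → A)) :=
      Module.projective_of_isLocalizedModule p.asIdeal.primeCompl
        (LocalizedModule.mkLinearMap p.asIdeal.primeCompl (Fin k → A))
    rw [pd_succ_iff _ (LocalizedModule.map_surjective p.asIdeal.primeCompl π hπ)]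
    have hex : Function.Exact (LocalizedModule.map p.asIdeal.primeCompl π.ker.subtype)
        (LocalizedModule.map p.asIdeal.primeCompl π) :=
      LocalizedModule.map_exact p.asIdeal.primeCompl π.ker.subtype π (LinearMap.exact_subtype_ker_map π)
    exact pd_congr ((LinearEquiv.ofInjective _ (LocalizedModule.map_injective _ _ π.ker.injective_subtype)).trans
      (LinearEquiv.ofEq _ _ (LinearMap.exact_iff.1 hex).symm))

theorem projectiveDimension_eq_of_pd {C : Type*} [Category C] [Abelian C] {D : Type*} [Category D] [Abelian D]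
    {X : C} {Y : D} (h : ∀ i : ℕ, HasProjectiveDimensionLT X i ↔ HasProjectiveDimensionLT Y i) :
    projectiveDimension X = projectiveDimension Y := by
  simp only [projectiveDimension, h]

section Fibre

variable {A B : Type u} [CommRing A] [CommRing B] [IsNoetherianRing A] [IsNoetherianRing B]
  [IsLocalRing A] [IsLocalRing B] [Algebra A B] [IsLocalHom (algebraMap A B)] [Module.Flat A B]

/-- The map on closed fibres. -/
noncomputable def fibModMap {K F : Type u} [AddCommGroup K] [Module B K] [AddCommGroup F] [Module B F]
    (i : K →ₗ[B] F) : EGA4.FibMod A B K →ₗ[EGA4.FibRing A B] EGA4.FibMod A B F :=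
  LinearMap.extendScalarsOfSurjective Ideal.Quotient.mk_surjective
    (Submodule.mapQ _ _ i (Submodule.map_le_iff_le_comap.1
      ((Submodule.map_smul'' _ _ _).le.trans (Submodule.smul_mono le_rfl le_top))))

omit [IsNoetherianRing A] [IsNoetherianRing B] [IsLocalRing B] [IsLocalHom (algebraMap A B)] [Module.Flat A B] in
theorem fibMod_tower {K : Type u} [AddCommGroup K] [Module A K] [Module B K] [IsScalarTower A B K] :
    (maximalIdeal A • ⊤ : Submodule A K) =
      ((maximalIdeal A).map (algebraMap A B) • ⊤ : Submodule B K).restrictScalars A := by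
  rw [Ideal.smul_restrictScalars, Submodule.restrictScalars_top]

omit [IsNoetherianRing A] [IsNoetherianRing B] [IsLocalRing B] [IsLocalHom (algebraMap A B)] [Module.Flat A B] in
theorem fibModMap_exact {K F N : Type u} [AddCommGroup K] [Module A K] [Module B K] [IsScalarTower A B K]
    [AddCommGroup F] [Module A F] [Module B F] [IsScalarTower A B F]
    [AddCommGroup N] [Module A N] [Module B N] [IsScalarTower A B N] [Module.Flat A N]
    (i : K →ₗ[B] F) (π : F →ₗ[B] N) (hi : Function.Injective i) (hex : Function.Exact i π)
    (hπ : Function.Surjective π) :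
    Function.Injective (fibModMap (A := A) i) ∧ Function.Exact (fibModMap (A := A) i) (fibModMap (A := A) π) ∧
      Function.Surjective (fibModMap (A := A) π) := by
  refine ⟨?_, ?_, fun y => ?_⟩
  · have h := FlatSyz.lTensor_subtype_injective_of_flat_quotient (i.restrictScalars A) hi
      (π.restrictScalars A) hex hπ (A ⧸ maximalIdeal A)
    rw [injective_iff_map_eq_zero]
    intro x hx
    obtain ⟨x, rfl⟩ := Submodule.mkQ_surjective _ x
    refine (Submodule.Quotient.mk_eq_zero _).2 ?_
    have hx' : i x ∈ (maximalIdeal A).map (algebraMap A B) • (⊤ : Submodule B F) :=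
      (Submodule.Quotient.mk_eq_zero _).1 hx
    rw [← Submodule.restrictScalars_mem A, ← fibMod_tower] at hx'
    show x ∈ (maximalIdeal A).map (algebraMap A B) • (⊤ : Submodule B K)
    rw [← Submodule.restrictScalars_mem A, ← fibMod_tower]
    rw [← Submodule.Quotient.mk_eq_zero, ← TensorProduct.quotTensorEquivQuotSMul_mk_one_tmul,
      LinearEquiv.map_eq_zero_iff] at hx' ⊢
    apply h
    rw [map_zero, LinearMap.lTensor_tmul]
    exact hx'
  · intro y
    obtain ⟨y, rfl⟩ := Submodule.mkQ_surjective _ y
    refine ⟨fun hy => ?_, ?_⟩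
    · have hy' : π y ∈ (maximalIdeal A).map (algebraMap A B) • (⊤ : Submodule B N) :=
        (Submodule.Quotient.mk_eq_zero _).1 hy
      rw [← LinearMap.range_eq_top.2 hπ, LinearMap.range_eq_map, ← Submodule.map_smul'', Submodule.mem_map] at hy'
      obtain ⟨z, hz, hzy⟩ := hy'
      obtain ⟨x, hx⟩ := (hex (y - z)).1 (by rw [map_sub, hzy, sub_self])
      refine ⟨Submodule.Quotient.mk x, ?_⟩
      show Submodule.Quotient.mk (i x) = Submodule.Quotient.mk y
      rw [hx]
      exact ((Submodule.Quotient.eq _).2 (by simpa using hz)).symm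
    · rintro ⟨x, hx⟩
      obtain ⟨x, rfl⟩ := Submodule.mkQ_surjective _ x
      rw [← hx]
      show Submodule.Quotient.mk (π (i x)) = (0 : EGA4.FibMod A B N)
      rw [hex.apply_apply_eq_zero, Submodule.Quotient.mk_zero]
  · obtain ⟨y, rfl⟩ := Submodule.mkQ_surjective _ y
    obtain ⟨x, rfl⟩ := hπ y
    exact ⟨Submodule.Quotient.mk x, rfl⟩

omit [IsNoetherianRing A] [IsNoetherianRing B] [Module.Flat A B] in
theorem subsingleton_fibMod_iff (N : Type u) [AddCommGroup N] [Module B N] [Module.Finite B N] :
    Subsingleton (EGA4.FibMod A B N) ↔ Subsingleton N := by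
  refine ⟨fun h => ?_, fun h => inferInstance⟩
  by_contra hn
  rw [not_subsingleton_iff_nontrivial] at hn
  haveI := hn
  have hle : (maximalIdeal A).map (algebraMap A B) ≤ maximalIdeal B :=
    ((IsLocalRing.local_hom_TFAE _).out 0 2).1 ‹_›
  rw [Submodule.Quotient.subsingleton_iff] at h
  exact DepthLib.smul_top_ne_top (M := N) (maximalIdeal.isMaximal B).ne_top
    (top_le_iff.1 (h.ge.trans (Submodule.smul_mono hle le_rfl)))

omit [IsNoetherianRing A] [IsNoetherianRing B] [IsLocalRing B] [IsLocalHom (algebraMap A B)] [Module.Flat A B] in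
theorem projective_fibMod (N : Type u) [AddCommGroup N] [Module B N] [Module.Projective B N] :
    Module.Projective (EGA4.FibRing A B) (EGA4.FibMod A B N) :=
  Module.Projective.of_equiv (LinearEquiv.extendScalarsOfSurjective
    (R := B) (S := EGA4.FibRing A B) Ideal.Quotient.mk_surjective
    (TensorProduct.quotTensorEquivQuotSMul N (EGA4.mB A B)))

omit [IsNoetherianRing A] in
/-- Flat modules with free closed fibre are free, and conversely. -/
theorem pd_fibre_iff (j : ℕ) : ∀ (N : Type u) [AddCommGroup N] [Module B N] [Module A N] [IsScalarTower A B N]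
    [Module.Finite B N] [Module.Flat A N], PD B N j ↔ PD (EGA4.FibRing A B) (EGA4.FibMod A B N) j := by
  classical
  induction j with
  | zero =>
    intro N _ _ _ _ _ _
    rw [pd_zero_iff, pd_zero_iff]
    refine ⟨fun _ => projective_fibMod N, fun hp => ?_⟩
    -- lift a basis of the closed fibre
    haveI : Module.Finite (EGA4.FibRing A B) (EGA4.FibMod A B N) := Module.Finite.of_restrictScalars_finite B _ _
    haveI : IsLocalRing (EGA4.FibRing A B) := IsLocalRing.of_surjective' (Ideal.Quotient.mk _) Ideal.Quotient.mk_surjective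
    haveI : Module.Free (EGA4.FibRing A B) (EGA4.FibMod A B N) := Module.free_of_flat_of_isLocalRing
    let b := Module.Free.chooseBasis (EGA4.FibRing A B) (EGA4.FibMod A B N)
    choose v hv using fun i => Submodule.mkQ_surjective _ (b i)
    let π : (Module.Free.ChooseBasisIndex (EGA4.FibRing A B) (EGA4.FibMod A B N) → B) →ₗ[B] N :=
      Fintype.linearCombination B v
    have hbar : ∀ x, fibModMap (A := A) π (Submodule.Quotient.mk x) =
        ∑ i, (Ideal.Quotient.mk (EGA4.mB A B) (x i)) • b i := by
      intro x
      show Submodule.Quotient.mk (π x) = _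
      rw [Fintype.linearCombination_apply, ← Submodule.mkQ_apply, map_sum]
      refine Finset.sum_congr rfl fun i _ => ?_
      rw [map_smul, hv]
      rfl
    have hsurj : Function.Surjective π := by
      rw [← LinearMap.range_eq_top]
      refine top_le_iff.1 (Submodule.le_of_le_smul_of_le_jacobson_bot (I := maximalIdeal B) Module.Finite.fg_top
        (IsLocalRing.maximalIdeal_le_jacobson _) fun n _ => ?_)
      obtain ⟨c, hc⟩ : ∃ c : Module.Free.ChooseBasisIndex (EGA4.FibRing A B) (EGA4.FibMod A B N) → B,
          ∀ i, Ideal.Quotient.mk _ (c i) = b.repr (Submodule.Quotient.mk n) i :=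
        ⟨fun i => (Ideal.Quotient.mk_surjective (b.repr (Submodule.Quotient.mk n) i)).choose,
          fun i => (Ideal.Quotient.mk_surjective (b.repr (Submodule.Quotient.mk n) i)).choose_spec⟩
      have h1 : (Submodule.Quotient.mk (π c) : EGA4.FibMod A B N) = Submodule.Quotient.mk n := by
        refine (hbar c).trans ?_
        simp only [hc]
        exact b.sum_repr _
      have hle : (maximalIdeal A).map (algebraMap A B) ≤ maximalIdeal B :=
        ((IsLocalRing.local_hom_TFAE _).out 0 2).1 ‹_›
      exact Submodule.mem_sup.2 ⟨π c, ⟨c, rfl⟩, n - π c,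
        Submodule.smul_mono hle le_rfl ((Submodule.Quotient.eq _).1 h1.symm), by abel⟩
    haveI : Module.Flat A (Module.Free.ChooseBasisIndex (EGA4.FibRing A B) (EGA4.FibMod A B N) → B) :=
      Module.Flat.of_linearEquiv ((Finsupp.linearEquivFunOnFinite A B _).symm.trans (finsuppLequivDFinsupp A))
    haveI : Module.Finite B π.ker := Module.Finite.iff_fg.2 (IsNoetherian.noetherian _)
    obtain ⟨hinj, hex, -⟩ := fibModMap_exact (A := A) π.ker.subtype π π.ker.injective_subtype
      (LinearMap.exact_subtype_ker_map π) hsurj
    have hinjπ : Function.Injective (fibModMap (A := A) π) := by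
      rw [injective_iff_map_eq_zero]
      intro x hx
      obtain ⟨x, rfl⟩ := Submodule.mkQ_surjective _ x
      rw [Submodule.mkQ_apply, hbar] at hx
      have h0 : ∀ i, x i ∈ EGA4.mB A B := fun i =>
        Ideal.Quotient.eq_zero_iff_mem.1 (Fintype.linearIndependent_iff.1 b.linearIndependent _ hx i)
      refine (Submodule.Quotient.mk_eq_zero _).2 ?_
      rw [pi_eq_sum_univ' x]
      exact Submodule.sum_mem _ fun i _ => Submodule.smul_mem_smul (h0 i) Submodule.mem_top
    haveI : Subsingleton (EGA4.FibMod A B π.ker) := subsingleton_of_forall_eq 0 fun y =>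
      hinj (hinjπ (by rw [hex.apply_apply_eq_zero, map_zero, map_zero]))
    haveI := (subsingleton_fibMod_iff (A := A) π.ker).1 ‹_›
    exact Module.Projective.of_equiv (LinearEquiv.ofBijective π
      ⟨LinearMap.ker_eq_bot.1 (Submodule.eq_bot_of_subsingleton), hsurj⟩)
  | succ j ih =>
    intro N _ _ _ _ _ _
    obtain ⟨k, π, hπ⟩ := Module.Finite.exists_fin' B N
    haveI : Module.Finite B π.ker := Module.Finite.iff_fg.2 (IsNoetherian.noetherian _)
    haveI : Module.Flat A (Fin k → B) :=
      Module.Flat.of_linearEquiv ((Finsupp.linearEquivFunOnFinite A B (Fin k)).symm.trans (finsuppLequivDFinsupp A))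
    haveI : Module.Flat A π.ker :=
      FlatSyz.flat_of_exact (π.ker.subtype.restrictScalars A) π.ker.injective_subtype
        (π.restrictScalars A) (LinearMap.exact_subtype_ker_map π) hπ
    obtain ⟨hinj, hex, hsurj⟩ := fibModMap_exact (A := A) π.ker.subtype π π.ker.injective_subtype
      (LinearMap.exact_subtype_ker_map π) hπ
    haveI := projective_fibMod (A := A) (B := B) (Fin k → B)
    rw [pd_succ_iff π hπ, pd_succ_iff _ hsurj, ih π.ker]
    exact pd_congr ((LinearEquiv.ofInjective _ hinj).trans (LinearEquiv.ofEq _ _ (LinearMap.exact_iff.1 hex).symm))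

omit [IsNoetherianRing A] in
theorem projectiveDimension_eq_fibre (N : Type u) [AddCommGroup N] [Module B N] [Module A N]
    [IsScalarTower A B N] [Module.Finite B N] [Module.Flat A N] :
    projectiveDimension (ModuleCat.of B N) =
      projectiveDimension (ModuleCat.of (EGA4.FibRing A B) (EGA4.FibMod A B N)) := by
  refine projectiveDimension_eq_of_pd fun i => ?_
  cases i with
  | zero =>
    rw [hasProjectiveDimensionLT_zero_iff_isZero, hasProjectiveDimensionLT_zero_iff_isZero,
      ModuleCat.isZero_iff_subsingleton, ModuleCat.isZero_iff_subsingleton]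
    exact (subsingleton_fibMod_iff (A := A) N).symm
  | succ i => exact pd_fibre_iff i N

end Fibre

end Groth.Agent.FibDepth5
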