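import Groth.Agent.Lib.FibDepth5.GeomRkOpen
import Groth.Agent.Lib.FibDepth5.Apps

/-!
Openness of geometric `(R_k)` and geometric normality on the fibres: finite extensions version.
-/

universe u

open CategoryTheory CategoryTheory.Limits AlgebraicGeometry TopologicalSpace Topology IsLocalRing

set_option backward.isDefEq.respectTransparency false

namespace Groth.Agent.FibDepth5

open FibDim14

variable {X Y : Scheme.{u}} (f : X ⟶ Y) [LocallyOfFinitePresentation f]

theorem isEquidim_of_isDomain (R : Type u) [CommRing R] [IsDomain R] : EGA4.IsEquidim R := by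
  intro p hp
  rw [IsDomain.minimalPrimes_eq_singleton_bot, Set.mem_singleton_iff] at hp
  subst hp
  exact ringKrullDim_eq_of_ringEquiv (RingEquiv.quotientBot R)

/-- The geometric `(R_n)` over a finite extension, on the total space. -/
theorem geomRkFin_fibre_iff (n : ℕ) (x : X) :
    (∀ (K : Type u) [Field K] [Algebra (IsLocalRing.ResidueField (Y.presheaf.stalk (f.base x))) K],
        Module.Finite (IsLocalRing.ResidueField (Y.presheaf.stalk (f.base x))) K →
        ∀ x' : ↥(FBase.bc (f.fiberToSpecResidueField (f.base x)) K),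
        (FBase.bcπ (f.fiberToSpecResidueField (f.base x)) K).base x' = f.asFiber x →
          LocCoh.HasRk n ((FBase.bc (f.fiberToSpecResidueField (f.base x)) K).presheaf.stalk x')) ↔
      ∀ y, y ⤳ x → f y = f x → FlatMor.fibreDimAt f y ≤ ((rd f y + n : ℕ) : WithBot ℕ∞) → y ∉ fibSing f := by
  rw [← geomRk_fibre_iff f n x]
  exact (geomRk_iff_finite (k := Y.residueField (f x)) (f.fiberToSpecResidueField (f x)) (f.asFiber x) n).trans
    (geomRk_iff (k := Y.residueField (f x)) (f.fiberToSpecResidueField (f x)) (f.asFiber x) n).symm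

/-- Geometric normality over a finite extension, on the total space. -/
theorem geomNormalFin_fibre_iff (x : X) :
    (∀ (K : Type u) [Field K] [Algebra (IsLocalRing.ResidueField (Y.presheaf.stalk (f.base x))) K],
        Module.Finite (IsLocalRing.ResidueField (Y.presheaf.stalk (f.base x))) K →
        ∀ x' : ↥(FBase.bc (f.fiberToSpecResidueField (f.base x)) K),
        (FBase.bcπ (f.fiberToSpecResidueField (f.base x)) K).base x' = f.asFiber x →
          IsDomain ((FBase.bc (f.fiberToSpecResidueField (f.base x)) K).presheaf.stalk x') ∧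
            IsIntegrallyClosed ((FBase.bc (f.fiberToSpecResidueField (f.base x)) K).presheaf.stalk x')) ↔
      (∀ y, y ⤳ x → f y = f x → FlatMor.fibreDimAt f y ≤ ((rd f y + 1 : ℕ) : WithBot ℕ∞) → y ∉ fibSing f) ∧
        LocCoh.HasSk 2 (CInt.fiberStalk f x) (CInt.fiberStalk f x) := by
  rw [← geomNormal_fibre_iff f x]
  exact (geomNormal_iff_finite (k := Y.residueField (f x)) (f.fiberToSpecResidueField (f x)) (f.asFiber x)).trans
    (geomNormal_iff (k := Y.residueField (f x)) (f.fiberToSpecResidueField (f x)) (f.asFiber x)).symm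

/-- Geometrically `(R_1)` and `(S_2)` stalks are domains. -/
theorem isEquidim_fiberStalk_of_normal (x : X)
    (h : (∀ y, y ⤳ x → f y = f x → FlatMor.fibreDimAt f y ≤ ((rd f y + 1 : ℕ) : WithBot ℕ∞) → y ∉ fibSing f) ∧
        LocCoh.HasSk 2 (CInt.fiberStalk f x) (CInt.fiberStalk f x)) :
    EGA4.IsEquidim (CInt.fiberStalk f x) := by
  obtain ⟨hR, hS⟩ := h
  have hR1 : LocCoh.HasRk 1 ((f.fiber (f x)).presheaf.stalk (f.asFiber x)) := by
    refine (hasRk_stalk_iff _ _ 1).2 fun z hz hd => ?_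
    obtain ⟨h1, h2⟩ := fiberι_mem f hz
    exact isRegular_of_mem_smoothLocus (k := Y.residueField (f x)) (f.fiberToSpecResidueField (f x)) z
      ((fibre_dim_smooth_iff f 1 (f x) z).2 (hR _ h1 h2) hd)
  haveI : IsLocallyNoetherian (f.fiber (f x)) :=
    LocallyOfFiniteType.isLocallyNoetherian (f.fiberToSpecResidueField (f x))
  haveI := ((normal_local_iff ((f.fiber (f x)).presheaf.stalk (f.asFiber x))).2 ⟨hR1, hS⟩).1
  exact isEquidim_of_isDomain _

theorem isOpen_flat_geomNormal :
    IsOpen {x : X | (f.stalkMap x).hom.Flat ∧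
      (∀ y, y ⤳ x → f y = f x → FlatMor.fibreDimAt f y ≤ ((rd f y + 1 : ℕ) : WithBot ℕ∞) → y ∉ fibSing f) ∧
        LocCoh.HasSk 2 (CInt.fiberStalk f x) (CInt.fiberStalk f x)} := by
  refine (congrArg IsOpen (Set.ext fun x => ?_)).mp (isOpen_flat_geomRk f 1 2 one_le_two)
  exact ⟨fun ⟨⟨a, _, c⟩, d⟩ => ⟨a, d, c⟩, fun ⟨a, d, c⟩ => ⟨⟨a, isEquidim_fiberStalk_of_normal f x ⟨d, c⟩, c⟩, d⟩⟩

theorem isOpen_geomRk_noEmbedded [Flat f] (k : ℕ) :
    IsOpen {x : X | (∀ (K : Type u) [Field K] [Algebra (IsLocalRing.ResidueField (Y.presheaf.stalk (f.base x))) K],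
        Module.Finite (IsLocalRing.ResidueField (Y.presheaf.stalk (f.base x))) K →
        ∀ x' : ↥(FBase.bc (f.fiberToSpecResidueField (f.base x)) K),
          (FBase.bcπ (f.fiberToSpecResidueField (f.base x)) K).base x' = f.asFiber x →
          LocCoh.HasRk k ((FBase.bc (f.fiberToSpecResidueField (f.base x)) K).presheaf.stalk x')) ∧
      EGA4.IsEquidim ↑((f.fiber (f.base x)).presheaf.stalk (f.asFiber x)) ∧ (∀ p ∈ associatedPrimes ↑((f.fiber (f.base x)).presheaf.stalk (f.asFiber x)) ↑((f.fiber (f.base x)).presheaf.stalk (f.asFiber x)), p ∈ minimalPrimes ↑((f.fiber (f.base x)).presheaf.stalk (f.asFiber x)))} := by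
  refine (congrArg IsOpen (Set.ext fun x => ?_)).mp (isOpen_flat_geomRk f k 1 le_rfl)
  haveI : IsLocallyNoetherian (f.fiber (f x)) :=
    LocallyOfFiniteType.isLocallyNoetherian (f.fiberToSpecResidueField (f x))
  rw [Set.mem_setOf_eq, Set.mem_setOf_eq, geomRkFin_fibre_iff f k x,
    ← hasSk_one_iff_ass ((f.fiber (f x)).presheaf.stalk (f.asFiber x))]
  exact ⟨fun ⟨⟨_, b, c⟩, d⟩ => ⟨d, b, c⟩, fun ⟨d, b, c⟩ => ⟨⟨Flat.stalkMap f x, b, c⟩, d⟩⟩

end Groth.Agent.FibDepth5
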