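import Groth.Agent.Lib.FibDepth5.Apps
import Groth.Agent.Lib.Depth3.Zero
import Groth.Agent.Lib.VarDim.Top
import Groth.Agent.Lib.VarDim.Scheme
import Groth.Prelude.Def_FDesc

/-!
Associated points of the fibres.
-/

universe u

open CategoryTheory AlgebraicGeometry TopologicalSpace Topology

set_option backward.isDefEq.respectTransparency false

namespace Groth.Agent.FibDepth5

open FibDim14

variable {X Y : Scheme.{u}} (f : X ⟶ Y) (F : X.Modules) [LocallyOfFiniteType f]

theorem fib_pt_rec {P : ∀ y : Y, f.fiber y → Prop} {Q : X → Prop}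
    (h : ∀ x, P (f x) (f.asFiber x) ↔ Q x) (y : Y) (z : f.fiber y) : P y z ↔ Q (f.fiberι y z) := by
  have hz : f (f.fiberι y z) = y := (Scheme.Hom.range_fiberι f y).le ⟨z, rfl⟩
  generalize hx : f.fiberι y z = x at hz ⊢
  subst hz
  rw [show z = f.asFiber x from (f.fiberι _).isEmbedding.injective (hx.trans (f.fiberι_asFiber x).symm)]
  exact h x

theorem topologicalKrullDim_closure_eq_rd (y : Y) (z : f.fiber y) :
    topologicalKrullDim (closure ({z} : Set (f.fiber y))) = (rd f (f.fiberι y z) : WithBot ℕ∞) := by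
  rw [VarDim.topologicalKrullDim_closure_singleton, VarDim.height_eq_sdim (toPt f y) z, rd_fiberι]
  rfl

theorem mem_ass_iff (hF : CohB1.IsFP F) (y : Y) (z : f.fiber y) :
    z ∈ AssSch.Ass ((Scheme.Modules.pullback (f.fiberι y)).obj F) ↔
      CInt.fiberDepth f F (f.fiberι y z) = 0 := by
  refine fib_pt_rec f (P := fun y z => z ∈ AssSch.Ass ((Scheme.Modules.pullback (f.fiberι y)).obj F))
    (Q := fun x => CInt.fiberDepth f F x = 0) (fun x => ?_) y z
  let R : Type u := CInt.fiberStalk f x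
  let G : Type u := fibStalk f F x
  haveI : IsLocallyNoetherian (f.fiber (f x)) := LocallyOfFiniteType.isLocallyNoetherian (toPt f (f x))
  haveI : IsNoetherianRing R := inferInstanceAs (IsNoetherianRing ((f.fiber (f x)).presheaf.stalk (f.asFiber x)))
  haveI : Module.Finite R G := by
    let x' := f.fiberι (f x) (f.asFiber x)
    let S : Type u := X.presheaf.stalk x'
    haveI : Module.Finite S (F.presheaf.stalk x') := M1.finite_stalk (M1.isFP_isQCoh hF) (M1.isFP_isFT hF) x'
    letI : Algebra S R := ((f.fiberι (f x)).stalkMap (f.asFiber x)).hom.toAlgebra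
    obtain ⟨hs, -⟩ := surjective_and_ker_of_isBaseChange (S := S) (R := R)
      ((f.fiberι (f x)).stalkMap_surjective (f.asFiber x))
      (M2.isBaseChange_stalkUnit (f.fiberι (f x)) (f.asFiber x) F)
    haveI : Module.Finite S G := Module.Finite.of_surjective _ hs
    exact Module.Finite.of_restrictScalars_finite S R G
  exact (Depth3.depth_eq_zero_iff (A := R) (M := G)).symm

variable [LocallyOfFinitePresentation f] (hF : CohB1.IsFP F) (hflat : FlatMod.IsFlatOver f F)

include hF hflat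

theorem assDims_iff (Φ : Set ℕ) (x : X) :
    (∀ z ∈ AssSch.Ass ((Scheme.Modules.pullback (f.fiberι (f.base x))).obj F), f.asFiber x ∈ closure {z} →
      ∃ n ∈ Φ, topologicalKrullDim ↥(closure ({z} : Set ↥(f.fiber (f.base x)))) = (n : WithBot ℕ∞)) ↔
    x ∉ {x : X | ∃ x', x' ⤳ x ∧ f x' = f x ∧ (fibData_mod f F hF hflat).1.Assoc x' ∧ rd f x' ∉ Φ} := by
  constructor
  · rintro h ⟨x', hx', he, ha, hr⟩
    obtain ⟨z, rfl, hz⟩ := exists_fiber_pt f hx' he
    obtain ⟨n, hn, hd⟩ := h z ((mem_ass_iff f F hF _ z).2 ha) (specializes_iff_mem_closure.1 hz)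
    rw [topologicalKrullDim_closure_eq_rd] at hd
    exact hr ((Nat.cast_inj (R := WithBot ℕ∞)).1 hd ▸ hn)
  · intro h z hz hzx
    obtain ⟨h1, h2⟩ := fiberι_mem f (specializes_iff_mem_closure.2 hzx)
    refine ⟨rd f (f.fiberι _ z), ?_, topologicalKrullDim_closure_eq_rd f _ z⟩
    by_contra hn
    exact h ⟨_, h1, h2, (mem_ass_iff f F hF _ z).1 hz, hn⟩

theorem isOpen_assDims_through (Φ : Set ℕ) :
    IsOpen {x : X | ∀ z ∈ AssSch.Ass ((Scheme.Modules.pullback (f.fiberι (f.base x))).obj F),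
      f.asFiber x ∈ closure {z} →
      ∃ n ∈ Φ, topologicalKrullDim ↥(closure ({z} : Set ↥(f.fiber (f.base x)))) = (n : WithBot ℕ∞)} :=
  (congrArg IsOpen (Set.ext fun x => (assDims_iff f F hF hflat Φ x).symm)).mp
    ((fibData_mod f F hF hflat).1.isClosed_assDims Φ).isOpen_compl

theorem notEmbedded_iff (x : X) :
    (∀ z ∈ AssSch.Ass ((Scheme.Modules.pullback (f.fiberι (f.base x))).obj F), f.asFiber x ∈ closure {z} →
      ∀ z' ∈ AssSch.Ass ((Scheme.Modules.pullback (f.fiberι (f.base x))).obj F), z ∈ closure {z'} → z' = z) ↔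
    x ∉ {x : X | ∃ z z', z ⤳ x ∧ f z = f x ∧ (fibData_mod f F hF hflat).1.Assoc z ∧ z' ⤳ z ∧ f z' = f z ∧
      (fibData_mod f F hF hflat).1.Assoc z' ∧ z' ≠ z} := by
  constructor
  · rintro h ⟨w, w', hw, he, ha, hw', he', ha', hne⟩
    obtain ⟨z, rfl, hz⟩ := exists_fiber_pt f hw he
    obtain ⟨z', rfl, -⟩ := exists_fiber_pt f (hw'.trans hw) (he'.trans he)
    refine hne (congrArg (f.fiberι (f x)) (h z ((mem_ass_iff f F hF _ z).2 ha)
      (specializes_iff_mem_closure.1 hz) z' ((mem_ass_iff f F hF _ z').2 ha') ?_))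
    exact specializes_iff_mem_closure.1 ((f.fiberι (f x)).isEmbedding.isInducing.specializes_iff.1 hw')
  · intro h z hz hzx z' hz' hzz'
    by_contra hne
    obtain ⟨h1, h2⟩ := fiberι_mem f (specializes_iff_mem_closure.2 hzx)
    have h3 := (fiberι_mem f ((specializes_iff_mem_closure.2 hzz').trans (specializes_iff_mem_closure.2 hzx))).2
    exact h ⟨_, _, h1, h2, (mem_ass_iff f F hF _ z).1 hz,
      (specializes_iff_mem_closure.2 hzz').map (f.fiberι _).continuous, h3.trans h2.symm,
      (mem_ass_iff f F hF _ z').1 hz', fun e => hne ((f.fiberι _).isEmbedding.injective e)⟩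

theorem isOpen_notEmbedded :
    IsOpen {x : X | ∀ z ∈ AssSch.Ass ((Scheme.Modules.pullback (f.fiberι (f.base x))).obj F),
      f.asFiber x ∈ closure {z} →
      ∀ z' ∈ AssSch.Ass ((Scheme.Modules.pullback (f.fiberι (f.base x))).obj F), z ∈ closure {z'} → z' = z} :=
  (congrArg IsOpen (Set.ext fun x => (notEmbedded_iff f F hF hflat x).symm)).mp
    (fibData_mod f F hF hflat).1.isClosed_embedded.isOpen_compl

theorem le_rectifiedDepth_iff (n : ℕ) (x : X) :
    (n : WithBot ℕ∞) ≤ ((CInt.fiberDepth f F x : ℕ∞) : WithBot ℕ∞) +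
        topologicalKrullDim ↥(closure ({f.asFiber x} : Set ↥(f.fiber (f.base x)))) ↔
      (n : ℕ∞) ≤ CInt.fiberDepth f F x + (rd f x : ℕ∞) := by
  rw [topologicalKrullDim_closure_eq_rd f (f.base x) (f.asFiber x), f.fiberι_asFiber]
  exact ⟨fun h => WithBot.coe_le_coe.1 (by push_cast at h ⊢; exact h),
    fun h => by have := WithBot.coe_le_coe.2 h; push_cast at this ⊢; exact this⟩

theorem isOpen_le_rectifiedDepth (n : ℕ) :
    IsOpen {x : X | (n : WithBot ℕ∞) ≤ ((CInt.fiberDepth f F x : ℕ∞) : WithBot ℕ∞) +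
        topologicalKrullDim ↥(closure ({f.asFiber x} : Set ↥(f.fiber (f.base x))))} := by
  simp only [le_rectifiedDepth_iff f F hF hflat]
  cases n with
  | zero => simp
  | succ n =>
    refine (congrArg IsOpen (Set.ext fun x => ?_)).mp ((fibData_mod f F hF hflat).1.closed_E n).isOpen_compl
    rw [Set.mem_compl_iff, Set.mem_setOf_eq, Set.mem_setOf_eq, not_le, Nat.cast_succ,
      ← ENat.add_one_le_iff (ENat.coe_ne_top n)]

end Groth.Agent.FibDepth5
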