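import Mathlib

/-!
The support of a flat finitely presented module maps openly to the base.
-/

universe u

open Topology TensorProduct

namespace Groth.Agent.FibDepth5

theorem isConstructible_support (P : Type u) [CommRing P] (M : Type u) [AddCommGroup M] [Module P M]
    [Module.FinitePresentation P M] : IsConstructible (Module.support P M) := by
  classical
  obtain ⟨k, π, hπ⟩ := Module.Finite.exists_fin' P M
  obtain ⟨m, g, hg⟩ := Submodule.fg_iff_exists_fin_generating_family.1
    (Module.FinitePresentation.fg_ker π hπ)
  let d : (Fin k → Fin m) → P := fun e => Matrix.det (Matrix.of fun i => g (e i))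
  have key : (Module.support P M)ᶜ = ⋃ e, (PrimeSpectrum.basicOpen (d e) : Set (PrimeSpectrum P)) := by
    ext q
    simp only [Set.mem_compl_iff, Set.mem_iUnion, SetLike.mem_coe, PrimeSpectrum.mem_basicOpen]
    constructor
    · intro hq
      rw [Module.notMem_support_iff'] at hq
      choose r hr hr0 using fun i : Fin k => hq (π (Pi.single i 1))
      let G : Matrix (Fin k) (Fin k) P := Matrix.of fun i => r i • (Pi.single i 1 : Fin k → P)
      have hmem : ∀ i, r i • (Pi.single i 1 : Fin k → P) ∈ Submodule.span P (Set.range g) := fun i => by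
        rw [hg, LinearMap.mem_ker, map_smul, hr0]
      choose c hc using fun i => Submodule.mem_span_range_iff_exists_fun P |>.1 (hmem i)
      by_contra hne
      push_neg at hne
      have hdet : Matrix.det G ∈ q.asIdeal := by
        have hG : G = Matrix.of fun i => ∑ l, c i l • g l := by
          funext i
          exact (hc i).symm
        rw [hG]
        change Matrix.detRowAlternating (fun i => ∑ l, c i l • g l) ∈ q.asIdeal
        rw [← AlternatingMap.coe_multilinearMap, MultilinearMap.map_sum]
        refine Ideal.sum_mem _ fun e _ => ?_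
        rw [MultilinearMap.map_smul_univ]
        exact Ideal.mul_mem_left _ _ (hne e)
      have hdiag : G = Matrix.diagonal r := by
        ext i j
        by_cases h : j = i
        · subst h; simp [G]
        · simp [G, h, Ne.symm h]
      rw [hdiag, Matrix.det_diagonal, Ideal.IsPrime.prod_mem_iff] at hdet
      obtain ⟨i, -, hi⟩ := hdet
      exact hr i hi
    · rintro ⟨e, he⟩ hq
      rw [Module.mem_support_iff_exists_annihilator] at hq
      obtain ⟨x, hx⟩ := hq
      obtain ⟨v, rfl⟩ := hπ x
      refine he (hx ((Submodule.mem_annihilator_span_singleton _ _).2 ?_))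
      let G : Matrix (Fin k) (Fin k) P := Matrix.of fun i => g (e i)
      have h2 : d e • v ∈ Submodule.span P (Set.range g) := by
        have h4 : d e • v = ∑ i, Matrix.vecMul v G.adjugate i • g (e i) := by
          have h3 : Matrix.vecMul (Matrix.vecMul v G.adjugate) G = d e • v := by
            rw [Matrix.vecMul_vecMul, Matrix.adjugate_mul, Matrix.vecMul_smul, Matrix.vecMul_one]
          rw [← h3, Matrix.vecMul_eq_sum]
          rfl
        rw [h4]
        exact Submodule.sum_mem _ fun i _ => Submodule.smul_mem _ _ (Submodule.subset_span ⟨_, rfl⟩)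
      rw [hg, LinearMap.mem_ker, map_smul] at h2
      exact h2
  rw [← compl_compl (Module.support P M), key, Set.compl_iUnion]
  exact IsConstructible.iInter fun e => PrimeSpectrum.isConstructible_basicOpen.compl

variable {A P : Type u} [CommRing A] [CommRing P] [Algebra A P]
variable (M : Type u) [AddCommGroup M] [Module A M] [Module P M] [IsScalarTower A P M] [Module.Flat A M]

/-- Going down for the support of a flat module. -/
theorem exists_support_le_of_flat [Module.Finite P M] (q : PrimeSpectrum P) (hq : q ∈ Module.support P M)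
    (p' : Ideal A) [p'.IsPrime] (hp : p' ≤ q.asIdeal.comap (algebraMap A P)) :
    ∃ q' : PrimeSpectrum P, q' ≤ q ∧ q' ∈ Module.support P M ∧ q'.asIdeal.comap (algebraMap A P) = p' := by
  let N := M ⧸ (p'.map (algebraMap A P) • ⊤ : Submodule P M)
  have hN : q ∈ Module.support P N := by
    rw [Module.support_quotient]
    refine ⟨hq, ?_⟩
    rw [PrimeSpectrum.mem_zeroLocus, SetLike.coe_subset_coe, Ideal.map_le_iff_le_comap]
    exact hp
  rw [Module.mem_support_iff_exists_annihilator] at hN
  obtain ⟨x, hx⟩ := hN
  have hres : (p' • ⊤ : Submodule A M) = (p'.map (algebraMap A P) • ⊤ : Submodule P M).restrictScalars A := by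
    rw [Ideal.smul_restrictScalars, Submodule.restrictScalars_top]
  have hinj : ∀ a ∉ p', ∀ y : N, algebraMap A P a • y = 0 → y = 0 := by
    intro a ha y hy
    obtain ⟨y, rfl⟩ := Submodule.mkQ_surjective _ y
    have hi : Function.Injective (LinearMap.lsmul A (A ⧸ p') a) := by
      refine (injective_iff_map_eq_zero _).2 fun z hz => ?_
      obtain ⟨z, rfl⟩ := Ideal.Quotient.mk_surjective z
      rw [LinearMap.lsmul_apply, ← Ideal.Quotient.mkₐ_eq_mk A, ← map_smul, Ideal.Quotient.mkₐ_eq_mk,
        Ideal.Quotient.eq_zero_iff_mem, smul_eq_mul] at hz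
      rw [Ideal.Quotient.eq_zero_iff_mem]
      exact ((‹p'.IsPrime›).mem_or_mem hz).resolve_left ha
    have hi' := Module.Flat.rTensor_preserves_injective_linearMap (M := M) _ hi
    rw [← map_smul, algebraMap_smul, Submodule.mkQ_apply, Submodule.Quotient.mk_eq_zero,
      ← Submodule.restrictScalars_mem A, ← hres, ← Submodule.Quotient.mk_eq_zero] at hy
    rw [Submodule.mkQ_apply, Submodule.Quotient.mk_eq_zero, ← Submodule.restrictScalars_mem A, ← hres,
      ← Submodule.Quotient.mk_eq_zero]
    rw [← TensorProduct.quotTensorEquivQuotSMul_mk_one_tmul, LinearEquiv.map_eq_zero_iff] at hy ⊢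
    apply hi'
    rw [map_zero, LinearMap.rTensor_tmul, LinearMap.lsmul_apply, TensorProduct.smul_tmul]
    exact hy
  let S : Submonoid P := q.asIdeal.primeCompl ⊔ p'.primeCompl.map (algebraMap A P).toMonoidHom
  have hdis : Disjoint ((Submodule.span P {x}).annihilator : Set P) (S : Set P) := by
    refine Set.disjoint_left.2 fun s hs hsS => ?_
    obtain ⟨s₁, hs₁, _, ⟨a, ha, rfl⟩, rfl⟩ := Submonoid.mem_sup.1 hsS
    rw [SetLike.mem_coe, Submodule.mem_annihilator_span_singleton, mul_comm, mul_smul] at hs
    refine hs₁ (hx ((Submodule.mem_annihilator_span_singleton _ _).2 ?_))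
    exact hinj a ha _ hs
  obtain ⟨Q, hQ, hle, hQS⟩ := Ideal.exists_le_prime_disjoint _ S hdis
  refine ⟨⟨Q, hQ⟩, ?_, ?_, ?_⟩
  · intro t ht
    by_contra h
    exact Set.disjoint_left.1 hQS ht (Submonoid.mem_sup_left h)
  · have hmem : (⟨Q, hQ⟩ : PrimeSpectrum P) ∈ Module.support P N :=
      Module.mem_support_iff_exists_annihilator.2 ⟨x, hle⟩
    rw [Module.support_quotient] at hmem
    exact hmem.1
  · refine le_antisymm (fun a ha => ?_) ?_
    · by_contra h
      exact Set.disjoint_left.1 hQS ha (Submonoid.mem_sup_right ⟨a, h, rfl⟩)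
    · have hmem : (⟨Q, hQ⟩ : PrimeSpectrum P) ∈ Module.support P N :=
        Module.mem_support_iff_exists_annihilator.2 ⟨x, hle⟩
      rw [Module.support_quotient, Set.mem_inter_iff, PrimeSpectrum.mem_zeroLocus, SetLike.coe_subset_coe,
        Ideal.map_le_iff_le_comap] at hmem
      exact hmem.2

/-- The support of a flat finitely presented module maps openly to the base. -/
theorem isOpen_image_support_inter [Algebra.FinitePresentation A P] [Module.FinitePresentation P M]
    (r : P) :
    IsOpen (PrimeSpectrum.comap (algebraMap A P) ''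
      (Module.support P M ∩ (PrimeSpectrum.basicOpen r : Set (PrimeSpectrum P)))) := by
  refine PrimeSpectrum.isOpen_of_stableUnderGeneralization_of_isConstructible ?_
    (PrimeSpectrum.isConstructible_comap_image (RingHom.finitePresentation_algebraMap.2 inferInstance)
      ((isConstructible_support P M).inter PrimeSpectrum.isConstructible_basicOpen))
  rintro x y hyx ⟨q, ⟨hq, hqr⟩, rfl⟩
  obtain ⟨q', hle, hq', he⟩ := exists_support_le_of_flat M q hq y.asIdeal
    ((PrimeSpectrum.le_iff_specializes y _).2 hyx)
  exact ⟨q', ⟨hq', fun hr => hqr (hle hr)⟩, PrimeSpectrum.ext he⟩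

end Groth.Agent.FibDepth5
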