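import Groth.Agent.Lib.FibDepth5.BadSet
import Groth.Agent.Lib.FibDepth5.Data
import Groth.Agent.Lib.FibDepth5.Ass
import Groth.Agent.Lib.FibDepth5.SuppOpen

/-!
Local constructibility of the level sets of the rectified depth of the fibres, without flatness.
-/

universe u

open CategoryTheory AlgebraicGeometry TopologicalSpace Topology

attribute [local instance] MvPolynomial.algebraMvPolynomial

set_option backward.isDefEq.respectTransparency false

namespace Groth.Agent.FibDepth5

open FibDim14

variable {X Y : Scheme.{u}} (f : X ⟶ Y) [LocallyOfFinitePresentation f] (F : X.Modules)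

/-- Locally constructible: depth plus residual degree at most `m`, and infinite depth. -/
theorem exists_chart_constructible (hF : CohB1.IsFP F) (x : X) :
    ∃ U : X.Opens, x ∈ U ∧
      (∀ m : ℕ, IsConstructible {u : U | CInt.fiberDepth f F u.1 + (rd f u.1 : ℕ∞) ≤ (m : ℕ∞)}) ∧
      IsConstructible {u : U | CInt.fiberDepth f F u.1 = ⊤} := by
  haveI := M1.isFP_isQCoh hF
  obtain ⟨V, hV, U, hU, e, N, c, hx, hc, hct⟩ := exists_chart f x
  letI := c.toAlgebra
  letI : Module (MvPolynomial (Fin N) Γ(Y, V)) Γ(F, U) := Module.compHom _ c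
  haveI : IsScalarTower (MvPolynomial (Fin N) Γ(Y, V)) Γ(X, U) Γ(F, U) :=
    IsScalarTower.of_algebraMap_smul fun _ _ => rfl
  haveI := finitePresentation_sections_poly f hV hU e c hc hct
  haveI := M1.finitePresentation_sections hF hU
  haveI : Module.FinitePresentation (MvPolynomial (Fin N) Γ(Y, V)) Γ(F, U) :=
    Module.FinitePresentation.trans _ _ Γ(X, U)
  have hpre : ∀ T : Set (PrimeSpectrum (MvPolynomial (Fin N) Γ(Y, V))), IsConstructible T →
      IsConstructible (chartMap hU N (V := V) ⁻¹' T) := by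
    intro T hT
    obtain ⟨D, hD⟩ := PrimeSpectrum.exists_constructibleSetData_iff.mpr hT
    have h1 : IsConstructible
        (PrimeSpectrum.comap (algebraMap (MvPolynomial (Fin N) Γ(Y, V)) Γ(X, U)) ⁻¹' T) := by
      rw [← hD, ← PrimeSpectrum.ConstructibleSetData.toSet_map]
      exact PrimeSpectrum.ConstructibleSetData.isConstructible_toSet _
    exact IsConstructible.preimage_of_isOpenEmbedding (f := fun u : U => hU.primeIdealOf u)
      hU.isoSpec.hom.isOpenEmbedding h1
  refine ⟨U, hx, fun m => ?_, ?_⟩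
  · refine (congrArg IsConstructible (Set.ext fun u => ?_)).mp
      (hpre _ (isConstructible_badSet (N := N) Γ(Y, V) Γ(F, U) m))
    rw [Set.mem_preimage, ← depth_rd_le_iff_mem_badSet, Set.mem_setOf_eq,
      (fibre_bridge f hV hU e _ hc hct u.2 F).1, ← rd_chartMap f hV hU e N hc hct u]
    rfl
  · refine (congrArg IsConstructible (Set.ext fun u => ?_)).mp
      (hpre _ (isConstructible_support (MvPolynomial (Fin N) Γ(Y, V)) Γ(F, U)).compl)
    rw [Set.mem_preimage, Set.mem_compl_iff, ← depth_eq_top_iff, Set.mem_setOf_eq,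
      (fibre_bridge f hV hU e _ hc hct u.2 F).1]
    rfl

/-- **Local constructibility** of the level sets of the rectified depth. -/
theorem isLocallyConstructible_rectifiedDepth_eq (hF : CohB1.IsFP F) (n : ℕ∞) :
    IsLocallyConstructible {x : X | CInt.fiberDepth f F x + (rd f x : ℕ∞) = n} := by
  intro x
  obtain ⟨U, hx, hle, htop⟩ := exists_chart_constructible f F hF x
  refine ⟨U, U.2.mem_nhds hx, U.2, ?_⟩
  induction n using ENat.recTopCoe with
  | top =>
    refine (congrArg IsConstructible (Set.ext fun u => ?_)).mp htop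
    show CInt.fiberDepth f F u.1 = ⊤ ↔ CInt.fiberDepth f F u.1 + (rd f u.1 : ℕ∞) = ⊤
    induction CInt.fiberDepth f F u.1 using ENat.recTopCoe with
    | top => simp
    | coe d => rw [← ENat.coe_add]; exact iff_of_false (ENat.natCast_ne_top _) (ENat.natCast_ne_top _)
  | coe n =>
    cases n with
    | zero =>
      refine (congrArg IsConstructible (Set.ext fun u => ?_)).mp (hle 0)
      show CInt.fiberDepth f F u.1 + (rd f u.1 : ℕ∞) ≤ ((0 : ℕ) : ℕ∞) ↔ CInt.fiberDepth f F u.1 + (rd f u.1 : ℕ∞) = ((0 : ℕ) : ℕ∞)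
      rw [Nat.cast_zero, nonpos_iff_eq_zero]
    | succ n =>
      refine (congrArg IsConstructible (Set.ext fun u => ?_)).mp ((hle (n + 1)).sdiff (hle n))
      show CInt.fiberDepth f F u.1 + (rd f u.1 : ℕ∞) ≤ ((n + 1 : ℕ) : ℕ∞) ∧ ¬ CInt.fiberDepth f F u.1 + (rd f u.1 : ℕ∞) ≤ (n : ℕ∞) ↔
        CInt.fiberDepth f F u.1 + (rd f u.1 : ℕ∞) = ((n + 1 : ℕ) : ℕ∞)
      induction CInt.fiberDepth f F u.1 using ENat.recTopCoe with
      | top =>
        rw [top_add]
        exact iff_of_false (fun h => ENat.natCast_ne_top _ (top_le_iff.1 h.1)) fun h => ENat.natCast_ne_top _ h.symm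
      | coe d =>
        rw [← ENat.coe_add, Nat.cast_le, Nat.cast_le, Nat.cast_inj]
        omega

end Groth.Agent.FibDepth5
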