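import Groth.Agent.Lib.FibDepth5.Sk
import Groth.Agent.Lib.FibDim14.Comp
import Groth.Agent.Lib.CMEquiDim4

/-!
The dimension of the support of the fibre at a point, through residual degrees.
-/

universe u

open CategoryTheory AlgebraicGeometry Order Topology

namespace Groth.Agent.FibDepth5

open FibDim14

/-- The support dimension of a localization, as a dimension of a set of primes. -/
theorem supportDim_localizedModule_eq {P : Type u} [CommRing P] (N : Type u) [AddCommGroup N] [Module P N]
    [Module.Finite P N] (q : PrimeSpectrum P) :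
    Module.supportDim (Localization.AtPrime q.asIdeal) (LocalizedModule q.asIdeal.primeCompl N) =
      Order.krullDim {p : PrimeSpectrum P // p ∈ Module.support P N ∧ p ≤ q} := by
  let L := Localization.AtPrime q.asIdeal
  let NL := LocalizedModule q.asIdeal.primeCompl N
  have hmem : ∀ Q : PrimeSpectrum L, Q ∈ Module.support L NL ↔
      PrimeSpectrum.comap (algebraMap P L) Q ∈ Module.support P N := by
    intro Q
    have h := (FlatDepth.invariants_localization_localization (M := N) q.asIdeal.primeCompl Q.asIdeal).2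
    rw [Module.mem_support_iff, Module.mem_support_iff,
      ← Module.supportDim_ne_bot_iff_nontrivial (Localization.AtPrime Q.asIdeal),
      ← Module.supportDim_ne_bot_iff_nontrivial
        (Localization.AtPrime (PrimeSpectrum.comap (algebraMap P L) Q).asIdeal), h]
    rfl
  have hle : ∀ Q : PrimeSpectrum L, PrimeSpectrum.comap (algebraMap P L) Q ≤ q := fun Q a ha => by
    by_contra hn
    exact Q.2.ne_top (Ideal.eq_top_of_isUnit_mem _ ha
      (IsLocalization.map_units L (⟨a, hn⟩ : q.asIdeal.primeCompl)))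
  let F : Module.support L NL → {p : PrimeSpectrum P // p ∈ Module.support P N ∧ p ≤ q} := fun Q =>
    ⟨PrimeSpectrum.comap (algebraMap P L) Q.1, (hmem _).1 Q.2, hle _⟩
  have hbij : Function.Bijective F := by
    refine ⟨fun a b h => Subtype.ext (PrimeSpectrum.localization_comap_injective L q.asIdeal.primeCompl
      (congrArg Subtype.val h)), fun ⟨p, hp, hpq⟩ => ?_⟩
    obtain ⟨Q, hQ⟩ : p ∈ Set.range (PrimeSpectrum.comap (algebraMap P L)) := by
      rw [PrimeSpectrum.localization_comap_range L q.asIdeal.primeCompl]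
      exact Set.disjoint_left.2 fun a ha ha' => ha (hpq ha')
    exact ⟨⟨Q, (hmem Q).2 (by rw [hQ]; exact hp)⟩, Subtype.ext hQ⟩
  refine Order.krullDim_eq_of_orderIso ({ Equiv.ofBijective F hbij with map_rel_iff' := ?_ } :
    Module.support L NL ≃o {p : PrimeSpectrum P // p ∈ Module.support P N ∧ p ≤ q})
  intro a b
  change PrimeSpectrum.comap (algebraMap P L) a.1 ≤ PrimeSpectrum.comap (algebraMap P L) b.1 ↔ a.1 ≤ b.1
  refine ⟨fun h => ?_, fun h x hx => h hx⟩
  show a.1.asIdeal ≤ b.1.asIdeal
  rw [← IsLocalization.map_comap q.asIdeal.primeCompl L a.1.asIdeal,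
    ← IsLocalization.map_comap q.asIdeal.primeCompl L b.1.asIdeal]
  exact Ideal.map_mono h

variable {A P : Type u} [CommRing A] [CommRing P] [Algebra A P] [Algebra.FiniteType A P]

/-- The structure morphism. -/
noncomputable abbrev algProj (A P : Type u) [CommRing A] [CommRing P] [Algebra A P] :
    Spec (CommRingCat.of P) ⟶ Spec (CommRingCat.of A) :=
  Spec.map (CommRingCat.ofHom (algebraMap A P))

instance locallyOfFiniteType_algProj : LocallyOfFiniteType (algProj A P) := by
  rw [HasRingHomProperty.Spec_iff (P := @LocallyOfFiniteType)]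
  exact RingHom.finiteType_algebraMap.2 inferInstance

/-- Residual degree plus the dimension of the support of the fibre is the largest residual degree of a
generization in the fibre inside the support. -/
theorem exists_supportDim_add_rd (M : Type u) [AddCommGroup M] [Module P M] [Module.Finite P M]
    (q : PrimeSpectrum P) (hq : q ∈ Module.support P M) :
    ∃ b δ : ℕ, Module.supportDim (EGA4.FibLocRing A P q.asIdeal) (EGA4.FibLocMod A P q.asIdeal M) = b ∧
      b + rd (algProj A P) q = δ ∧
      (∀ q' : PrimeSpectrum P, q' ≤ q → q' ∈ Module.support P M →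
        q'.asIdeal.comap (algebraMap A P) = q.asIdeal.comap (algebraMap A P) → rd (algProj A P) q' ≤ δ) ∧
      ∃ q' : PrimeSpectrum P, q' ≤ q ∧ q' ∈ Module.support P M ∧
        q'.asIdeal.comap (algebraMap A P) = q.asIdeal.comap (algebraMap A P) ∧ rd (algProj A P) q' = δ := by
  let p := q.asIdeal.comap (algebraMap A P)
  let J := Module.annihilator P M
  let a : Spec (CommRingCat.of (P ⧸ J)) ⟶ Spec (CommRingCat.of P) :=
    Spec.map (CommRingCat.ofHom (Ideal.Quotient.mk J))
  let π := algProj A P
  let g := a ≫ π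
  haveI : IsClosedImmersion a := IsClosedImmersion.spec_of_surjective _ Ideal.Quotient.mk_surjective
  have hra : Set.range a = Module.support P M := by
    rw [Module.support_eq_zeroLocus]
    refine (range_comap_of_surjective _ (Ideal.Quotient.mk J) Ideal.Quotient.mk_surjective).trans ?_
    rw [Ideal.mk_ker]
  obtain ⟨t, rfl⟩ : q ∈ Set.range a := hra.ge hq
  have hfib : ∀ t' : Spec (CommRingCat.of (P ⧸ J)),
      g t' = g t ↔ (a t').asIdeal.comap (algebraMap A P) = (a t).asIdeal.comap (algebraMap A P) :=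
    fun t' => ⟨fun h => congrArg PrimeSpectrum.asIdeal h, fun h => PrimeSpectrum.ext h⟩
  have hrd : ∀ t', rd g t' = rd π (a t') := fun t' => by
    rw [rd_comp, rd_of_surjectiveOnStalks (f := a), add_zero]
  haveI : IsLocallyNoetherian (g.fiber (g t)) := LocallyOfFiniteType.isLocallyNoetherian (toPt g (g t))
  obtain ⟨b, hb⟩ := ENat.ne_top_iff_exists.1 (DimF18.coheight_ne_top (g.asFiber t))
  let N := M ⧸ (p.map (algebraMap A P) • ⊤ : Submodule P M)
  have hN : ∀ q' : PrimeSpectrum P, q' ≤ a t → (q' ∈ Module.support P N ↔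
      q' ∈ Module.support P M ∧ q'.asIdeal.comap (algebraMap A P) = p) := by
    intro q' hle
    rw [Module.support_quotient, Set.mem_inter_iff, PrimeSpectrum.mem_zeroLocus, SetLike.coe_subset_coe,
      Ideal.map_le_iff_le_comap]
    exact and_congr_right fun _ => ⟨fun h => le_antisymm (Ideal.comap_mono hle) h, fun h => h.ge⟩
  let Φ : Set.Ici (g.asFiber t) → {p' : PrimeSpectrum P // p' ∈ Module.support P N ∧ p' ≤ a t}ᵒᵈ :=
    fun w => OrderDual.toDual ⟨a (g.fiberι _ w.1),
      (hN _ ((PrimeSpectrum.le_iff_specializes _ _).2 ((fiberι_mem g w.2).1.map a.continuous))).2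
        ⟨hra.le ⟨_, rfl⟩, (hfib _).1 (fiberι_mem g w.2).2⟩,
      (PrimeSpectrum.le_iff_specializes _ _).2 ((fiberι_mem g w.2).1.map a.continuous)⟩
  have hrel : ∀ v w, Φ v ≤ Φ w ↔ v ≤ w := by
    intro v w
    change (show PrimeSpectrum P from a (g.fiberι _ w.1)) ≤ (show PrimeSpectrum P from a (g.fiberι _ v.1)) ↔ w.1 ⤳ v.1
    rw [PrimeSpectrum.le_iff_specializes]
    exact (a.isEmbedding.comp (g.fiberι (g t)).isEmbedding).isInducing.specializes_iff
  have hbij : Function.Bijective Φ := by
    refine ⟨fun v w h => Subtype.ext (Specializes.antisymm ((hrel w v).1 h.ge) ((hrel v w).1 h.le)).eq, fun ⟨q', hq', hle⟩ => ?_⟩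
    obtain ⟨hq'M, hq'p⟩ := (hN q' hle).1 hq'
    obtain ⟨t', rfl⟩ := hra.ge hq'M
    obtain ⟨w, hw, hwt⟩ := exists_fiber_pt g
      (a.isEmbedding.isInducing.specializes_iff.1 ((PrimeSpectrum.le_iff_specializes _ _).1 hle))
      ((hfib t').2 hq'p)
    exact ⟨⟨w, hwt⟩, congrArg OrderDual.toDual (Subtype.ext (congrArg a hw))⟩
  have hdim : Module.supportDim (EGA4.FibLocRing A P (a t).asIdeal) (EGA4.FibLocMod A P (a t).asIdeal M) = b := by
    rw [← (invariants_red (M := M) (a t).asIdeal (p := p) rfl).2, supportDim_localizedModule_eq,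
      ← Order.krullDim_orderDual, ← Order.krullDim_eq_of_orderIso
        ({ Equiv.ofBijective Φ hbij with map_rel_iff' := fun {v w} => hrel v w } : _ ≃o _),
      ← Order.coheight_eq_krullDim_Ici, ← hb]
    rfl
  obtain ⟨η, hη, hηe, hd, hall⟩ := exists_fibreDimAt_eq g t
  have hloc := DimF18.localDim_eq (toPt g (g t)) (x := g.asFiber t) hb.symm
  rw [← rd_fiberι, g.fiberι_asFiber] at hloc
  have hsum : ((rd g η : ℕ) : WithBot ℕ∞) = ((rd g t + b : ℕ) : WithBot ℕ∞) := hd.symm.trans hloc
  have hsum' : rd g η = rd g t + b := by exact_mod_cast hsum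
  refine ⟨b, rd g η, hdim, by rw [hsum', hrd]; exact add_comm _ _, fun q' hle hq'M hq'p => ?_,
    a η, (PrimeSpectrum.le_iff_specializes _ _).2 (hη.map a.continuous), hra.le ⟨η, rfl⟩,
    (hfib η).1 hηe, (hrd η).symm⟩
  obtain ⟨t', rfl⟩ := hra.ge hq'M
  rw [← hrd]
  exact hall t' (a.isEmbedding.isInducing.specializes_iff.1 ((PrimeSpectrum.le_iff_specializes _ _).1 hle))
    ((hfib t').2 hq'p)

end Groth.Agent.FibDepth5
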