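import Groth.Agent.Lib.FibDepth5.Bridge
import Groth.Agent.Lib.EGA43Top.FibreStalk
import Groth.Agent.Lib.TensorMod.PullStalk
import Groth.Agent.Lib.ModM1.Stalk
import Groth.Prelude.Def_CInt

/-!
Depth and dimension of the stalks of the fibre, in affine charts.
-/

universe u

open CategoryTheory AlgebraicGeometry IsLocalRing

set_option backward.isDefEq.respectTransparency false

namespace Groth.Agent.FibDepth5

variable {X Y : Scheme.{u}} (f : X ⟶ Y) {V : Y.Opens} (hV : IsAffineOpen V) {U : X.Opens}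
  (hU : IsAffineOpen U) (e : U ≤ f ⁻¹ᵁ V) (P : Type u) [CommRing P] [Algebra Γ(Y, V) P]
  [Algebra P Γ(X, U)]

/-- The prime of `P` at a point of the chart. -/
noncomputable abbrev chartPrime {x : X} (hx : x ∈ U) : PrimeSpectrum P :=
  PrimeSpectrum.comap (algebraMap P Γ(X, U)) (hU.primeIdealOf ⟨x, hx⟩)

variable (hc : Function.Surjective (algebraMap P Γ(X, U)))
  (hct : (algebraMap P Γ(X, U)).comp (algebraMap Γ(Y, V) P) = (f.appLE V U e).hom)

include hV hc hct in
theorem fibre_bridge_aux {y : Y} (z : f.fiber y) (hx : f.fiberι y z ∈ U) :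
    (∀ (F : X.Modules) [Coh.IsQCoh F] [Module P Γ(F, U)] [IsScalarTower P Γ(X, U) Γ(F, U)]
      [Module.Finite P Γ(F, U)],
      haveI := isLocalRing_fibLocRing (A := Γ(Y, V)) (chartPrime hU P hx).asIdeal;
      LocCoh.depth ((f.fiber y).presheaf.stalk z)
          (((Scheme.Modules.pullback (f.fiberι y)).obj F).presheaf.stalk z) =
        LocCoh.depth (EGA4.FibLocRing Γ(Y, V) P (chartPrime hU P hx).asIdeal)
          (EGA4.FibLocMod Γ(Y, V) P (chartPrime hU P hx).asIdeal Γ(F, U)) ∧
      Module.supportDim ((f.fiber y).presheaf.stalk z)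
          (((Scheme.Modules.pullback (f.fiberι y)).obj F).presheaf.stalk z) =
        Module.supportDim (EGA4.FibLocRing Γ(Y, V) P (chartPrime hU P hx).asIdeal)
          (EGA4.FibLocMod Γ(Y, V) P (chartPrime hU P hx).asIdeal Γ(F, U)) ∧
      (Nontrivial (((Scheme.Modules.pullback (f.fiberι y)).obj F).presheaf.stalk z) ↔
        chartPrime hU P hx ∈ Module.support P Γ(F, U)) ∧
      (∀ k : ℕ, LocCoh.HasSk k ((f.fiber y).presheaf.stalk z) (((Scheme.Modules.pullback (f.fiberι y)).obj F).presheaf.stalk z) ↔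
        LocCoh.HasSk k (Localization.AtPrime (chartPrime hU P hx).asIdeal)
          (EGA4.FibLocMod Γ(Y, V) P (chartPrime hU P hx).asIdeal Γ(F, U))) ∧
      (EGA4.IsEquidimModule ((f.fiber y).presheaf.stalk z) (((Scheme.Modules.pullback (f.fiberι y)).obj F).presheaf.stalk z) ↔
        EGA4.IsEquidimModule (Localization.AtPrime (chartPrime hU P hx).asIdeal)
          (EGA4.FibLocMod Γ(Y, V) P (chartPrime hU P hx).asIdeal Γ(F, U)))) ∧
    (haveI := isLocalRing_fibLocRing (A := Γ(Y, V)) (chartPrime hU P hx).asIdeal;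
      LocCoh.depth ((f.fiber y).presheaf.stalk z) ((f.fiber y).presheaf.stalk z) =
        LocCoh.depth (EGA4.FibLocRing Γ(Y, V) P (chartPrime hU P hx).asIdeal)
          (EGA4.FibLocMod Γ(Y, V) P (chartPrime hU P hx).asIdeal Γ(X, U)) ∧
      Module.supportDim ((f.fiber y).presheaf.stalk z) ((f.fiber y).presheaf.stalk z) =
        Module.supportDim (EGA4.FibLocRing Γ(Y, V) P (chartPrime hU P hx).asIdeal)
          (EGA4.FibLocMod Γ(Y, V) P (chartPrime hU P hx).asIdeal Γ(X, U)) ∧
      ∀ k : ℕ, LocCoh.HasSk k ((f.fiber y).presheaf.stalk z) ((f.fiber y).presheaf.stalk z) ↔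
        LocCoh.HasSk k (Localization.AtPrime (chartPrime hU P hx).asIdeal)
          (EGA4.FibLocMod Γ(Y, V) P (chartPrime hU P hx).asIdeal Γ(X, U))) := by
  let A : Type u := Γ(Y, V)
  let B : Type u := Γ(X, U)
  let x : X := f.fiberι y z
  let S : Type u := X.presheaf.stalk x
  let R : Type u := (f.fiber y).presheaf.stalk z
  let q' := (hU.primeIdealOf ⟨x, hx⟩).asIdeal
  let q := (chartPrime hU P hx).asIdeal
  letI : Algebra B S := X.presheaf.algebra_section_stalk ⟨x, hx⟩
  haveI : IsLocalization.AtPrime S q' := hU.isLocalization_stalk ⟨x, hx⟩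
  letI : Algebra P S := ((algebraMap B S).comp (algebraMap P B)).toAlgebra
  haveI : IsScalarTower P B S := IsScalarTower.of_algebraMap_eq fun _ => rfl
  letI : Algebra A S := ((algebraMap P S).comp (algebraMap A P)).toAlgebra
  haveI : IsScalarTower A P S := IsScalarTower.of_algebraMap_eq fun _ => rfl
  letI : Algebra S R := ((f.fiberι y).stalkMap z).hom.toAlgebra
  obtain ⟨eR, heR⟩ := EGA43Top.exists_ringEquiv_fiber_stalk f y z
  have hR : Function.Surjective (algebraMap S R) := (f.fiberι y).stalkMap_surjective z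
  have hkerR : RingHom.ker (algebraMap S R) = (q.comap (algebraMap A P)).map (algebraMap A S) := by
    have h1 : RingHom.ker (algebraMap S R) =
        (maximalIdeal (Y.presheaf.stalk (f x))).map (f.stalkMap x).hom := Ideal.ext fun b => by
      rw [RingHom.mem_ker, ← Ideal.Quotient.eq_zero_iff_mem, ← eR.map_eq_zero_iff, heR]
      rfl
    letI : Algebra A (Y.presheaf.stalk (f x)) := Y.presheaf.algebra_section_stalk ⟨f x, e hx⟩
    haveI : IsLocalization.AtPrime (Y.presheaf.stalk (f x)) (hV.primeIdealOf ⟨f x, e hx⟩).asIdeal :=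
      hV.isLocalization_stalk ⟨f x, e hx⟩
    have hp : q.comap (algebraMap A P) = (hV.primeIdealOf ⟨f x, e hx⟩).asIdeal := by
      rw [← IsAffineOpen.comap_primeIdealOf_appLE V hV U hU e hx, ← hct]
      rfl
    have hAS : algebraMap A S = (f.stalkMap x).hom.comp (algebraMap A (Y.presheaf.stalk (f x))) := by
      refine RingHom.ext fun a => ?_
      show X.presheaf.germ U x hx ((algebraMap P Γ(X, U)).comp (algebraMap Γ(Y, V) P) a) =
        f.stalkMap x (Y.presheaf.germ V (f x) (e hx) a)
      rw [hct, Scheme.Hom.germ_stalkMap_apply]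
      exact X.presheaf.germ_res_apply (homOfLE e) x hx _
    rw [h1, ← IsLocalization.AtPrime.map_eq_maximalIdeal (hV.primeIdealOf ⟨f x, e hx⟩).asIdeal,
      Ideal.map_map, hp, hAS]
  have hu : ∀ b : q.primeCompl, IsUnit (algebraMap P S b) := fun b =>
    IsLocalization.map_units S (⟨algebraMap P B b.1, b.2⟩ : q'.primeCompl)
  have hsj : ∀ s : S, ∃ a : P, ∃ b : q.primeCompl, algebraMap P S b * s = algebraMap P S a := by
    intro s
    obtain ⟨⟨a, ⟨b, hb⟩⟩, h⟩ := IsLocalization.surj q'.primeCompl s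
    obtain ⟨a, rfl⟩ := hc a
    obtain ⟨b, rfl⟩ := hc b
    exact ⟨a, ⟨b, hb⟩, (mul_comm _ _).trans h⟩
  refine ⟨fun F _ _ _ _ => ?_, ?_⟩
  · letI : Module B (F.presheaf.stalk x) := M1.stalkModule F hx
    letI : Module P (F.presheaf.stalk x) := Module.compHom _ (algebraMap P B)
    haveI : IsScalarTower P B (F.presheaf.stalk x) := IsScalarTower.of_algebraMap_smul fun _ _ => rfl
    haveI : IsScalarTower P S (F.presheaf.stalk x) := IsScalarTower.of_algebraMap_smul fun _ _ => rfl
    haveI := M1.isLocalizedModule_germ F hU hx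
    haveI : IsLocalizedModule q.primeCompl ((M1.germₗ F hx).restrictScalars P) :=
      isLocalizedModule_of_surjective hc q' (M1.germₗ F hx)
    let G : Type u := (((Scheme.Modules.pullback (f.fiberι y)).obj F).presheaf.stalk z : Type u)
    obtain ⟨hh, hk⟩ := surjective_and_ker_of_isBaseChange hR (M2.isBaseChange_stalkUnit (f.fiberι y) z F)
    rw [hkerR] at hk
    exact bridge q hu hsj hR ((M1.germₗ F hx).restrictScalars P) (M2.stalkUnit (f.fiberι y) z F) hh hk
  · haveI : IsLocalizedModule q.primeCompl ((Algebra.linearMap B S).restrictScalars P) :=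
      isLocalizedModule_of_surjective hc q' (Algebra.linearMap B S)
    haveI : Module.Finite P B := Module.Finite.of_surjective (Algebra.linearMap P B) hc
    have hk : LinearMap.ker (Algebra.linearMap S R) =
        (q.comap (algebraMap A P)).map (algebraMap A S) • (⊤ : Submodule S S) := by
      rw [← hkerR, Ideal.smul_eq_mul, Ideal.mul_top]
      rfl
    obtain ⟨h1, h2, -, h4, -⟩ := bridge q hu hsj hR ((Algebra.linearMap B S).restrictScalars P)
      (Algebra.linearMap S R) hR hk
    exact ⟨h1, h2, h4⟩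

end Groth.Agent.FibDepth5

namespace Groth.Agent.FibDepth5

variable {X Y : Scheme.{u}} (f : X ⟶ Y) {V : Y.Opens} (hV : IsAffineOpen V) {U : X.Opens}
  (hU : IsAffineOpen U) (e : U ≤ f ⁻¹ᵁ V) (P : Type u) [CommRing P] [Algebra Γ(Y, V) P]
  [Algebra P Γ(X, U)]

variable (hc : Function.Surjective (algebraMap P Γ(X, U)))
  (hct : (algebraMap P Γ(X, U)).comp (algebraMap Γ(Y, V) P) = (f.appLE V U e).hom)

include hV hc hct in
/-- Depth and dimension of the fibre of a module at a point of a chart. -/
theorem fibre_bridge {x : X} (hx : x ∈ U) (F : X.Modules) [Coh.IsQCoh F] [Module P Γ(F, U)]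
    [IsScalarTower P Γ(X, U) Γ(F, U)] [Module.Finite P Γ(F, U)] :
    haveI := isLocalRing_fibLocRing (A := Γ(Y, V)) (chartPrime hU P hx).asIdeal;
    CInt.fiberDepth f F x =
        LocCoh.depth (EGA4.FibLocRing Γ(Y, V) P (chartPrime hU P hx).asIdeal)
          (EGA4.FibLocMod Γ(Y, V) P (chartPrime hU P hx).asIdeal Γ(F, U)) ∧
      Module.supportDim (CInt.fiberStalk f x)
          (((Scheme.Modules.pullback (f.fiberι (f.base x))).obj F).presheaf.stalk (f.asFiber x)) =
        Module.supportDim (EGA4.FibLocRing Γ(Y, V) P (chartPrime hU P hx).asIdeal)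
          (EGA4.FibLocMod Γ(Y, V) P (chartPrime hU P hx).asIdeal Γ(F, U)) ∧
      (Nontrivial (((Scheme.Modules.pullback (f.fiberι (f.base x))).obj F).presheaf.stalk (f.asFiber x)) ↔
        chartPrime hU P hx ∈ Module.support P Γ(F, U)) ∧
      (∀ k : ℕ, LocCoh.HasSk k (CInt.fiberStalk f x)
          (((Scheme.Modules.pullback (f.fiberι (f.base x))).obj F).presheaf.stalk (f.asFiber x)) ↔
        LocCoh.HasSk k (Localization.AtPrime (chartPrime hU P hx).asIdeal)
          (EGA4.FibLocMod Γ(Y, V) P (chartPrime hU P hx).asIdeal Γ(F, U))) ∧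
      (EGA4.IsEquidimModule (CInt.fiberStalk f x)
          (((Scheme.Modules.pullback (f.fiberι (f.base x))).obj F).presheaf.stalk (f.asFiber x)) ↔
        EGA4.IsEquidimModule (Localization.AtPrime (chartPrime hU P hx).asIdeal)
          (EGA4.FibLocMod Γ(Y, V) P (chartPrime hU P hx).asIdeal Γ(F, U))) := by
  have key : ∀ (z : f.fiber (f x)), f.fiberι (f x) z = x → ∀ (hz : f.fiberι (f x) z ∈ U),
      chartPrime hU P hz = chartPrime hU P hx := by
    intro z hzx hz
    congr 2
  have hx' : f.fiberι (f x) (f.asFiber x) ∈ U := by rw [f.fiberι_asFiber]; exact hx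
  have h := (fibre_bridge_aux f hV hU e P hc hct (f.asFiber x) hx').1 F
  have hk := key _ (f.fiberι_asFiber x) hx'
  generalize chartPrime hU P hx' = a at h hk
  subst hk
  exact h

include hV hc hct in
/-- Depth and dimension of the local ring of the fibre at a point of a chart. -/
theorem fibre_bridge_self {x : X} (hx : x ∈ U) :
    haveI := isLocalRing_fibLocRing (A := Γ(Y, V)) (chartPrime hU P hx).asIdeal;
    LocCoh.depth (CInt.fiberStalk f x) (CInt.fiberStalk f x) =
        LocCoh.depth (EGA4.FibLocRing Γ(Y, V) P (chartPrime hU P hx).asIdeal)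
          (EGA4.FibLocMod Γ(Y, V) P (chartPrime hU P hx).asIdeal Γ(X, U)) ∧
      Module.supportDim (CInt.fiberStalk f x) (CInt.fiberStalk f x) =
        Module.supportDim (EGA4.FibLocRing Γ(Y, V) P (chartPrime hU P hx).asIdeal)
          (EGA4.FibLocMod Γ(Y, V) P (chartPrime hU P hx).asIdeal Γ(X, U)) ∧
      ∀ k : ℕ, LocCoh.HasSk k (CInt.fiberStalk f x) (CInt.fiberStalk f x) ↔
        LocCoh.HasSk k (Localization.AtPrime (chartPrime hU P hx).asIdeal)
          (EGA4.FibLocMod Γ(Y, V) P (chartPrime hU P hx).asIdeal Γ(X, U)) := by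
  have key : ∀ (z : f.fiber (f x)), f.fiberι (f x) z = x → ∀ (hz : f.fiberι (f x) z ∈ U),
      chartPrime hU P hz = chartPrime hU P hx := by
    intro z hzx hz
    congr 2
  have hx' : f.fiberι (f x) (f.asFiber x) ∈ U := by rw [f.fiberι_asFiber]; exact hx
  have h := (fibre_bridge_aux f hV hU e P hc hct (f.asFiber x) hx').2
  have hk := key _ (f.fiberι_asFiber x) hx'
  generalize chartPrime hU P hx' = a at h hk
  subst hk
  exact h

end Groth.Agent.FibDepth5
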