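import Groth.Agent.Lib.FibDepth5.ProjDim
import Groth.Agent.Lib.FibDepth5.Bridge
import Groth.Agent.Lib.AB5.Basic
import Groth.Agent.Lib.EGA43Top.FibreStalk
import Groth.Agent.Lib.CMEquiDim4
import Groth.Agent.Lib.SmoothReg17.Basic

/-!
Depth plus residual degree on affine space over an arbitrary base.
-/

universe u

open CategoryTheory AlgebraicGeometry IsLocalRing Topology

set_option backward.isDefEq.respectTransparency false

namespace Groth.Agent.FibDepth5

open FibDim14

variable (A : Type u) [CommRing A] (N : ℕ)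

/-- The projection of affine space. -/
noncomputable abbrev affProj : Spec (CommRingCat.of (MvPolynomial (Fin N) A)) ⟶ Spec (CommRingCat.of A) :=
  Spec.map (CommRingCat.ofHom (algebraMap A (MvPolynomial (Fin N) A)))

instance smooth_affProj : Smooth (affProj A N) := by
  rw [HasRingHomProperty.Spec_iff (P := @Smooth)]
  exact RingHom.smooth_algebraMap.2 ⟨inferInstanceAs (Algebra.FormallySmooth A (MvPolynomial (Fin N) A)), inferInstanceAs (Algebra.FinitePresentation A (MvPolynomial (Fin N) A))⟩

theorem nonempty_fibLocRing_equiv (q : PrimeSpectrum (MvPolynomial (Fin N) A)) :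
    Nonempty (CInt.fiberStalk (affProj A N) q ≃+* EGA4.FibLocRing A (MvPolynomial (Fin N) A) q.asIdeal) := by
  let P := MvPolynomial (Fin N) A
  let π := affProj A N
  let L := Localization.AtPrime q.asIdeal
  let pa : PrimeSpectrum A := PrimeSpectrum.comap (algebraMap A P) q
  letI : Algebra P ((Spec (CommRingCat.of P)).presheaf.stalk q) := StructureSheaf.stalkAlgebra P q
  haveI : IsLocalization.AtPrime ((Spec (CommRingCat.of P)).presheaf.stalk q) q.asIdeal :=
    StructureSheaf.IsLocalization.to_stalk P q
  let σ : (Spec (CommRingCat.of P)).presheaf.stalk q ≃+* L :=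
    (IsLocalization.algEquiv q.asIdeal.primeCompl _ L).toRingEquiv
  letI : Algebra A ((Spec (CommRingCat.of A)).presheaf.stalk (π q)) := StructureSheaf.stalkAlgebra A (π q)
  haveI : IsLocalization.AtPrime ((Spec (CommRingCat.of A)).presheaf.stalk (π q)) pa.asIdeal :=
    StructureSheaf.IsLocalization.to_stalk A (π q)
  have hcomp : (σ.toRingHom.comp (π.stalkMap q).hom).comp
      (algebraMap A ((Spec (CommRingCat.of A)).presheaf.stalk (π q))) = algebraMap A L := by
    refine RingHom.ext fun a => ?_
    show σ (π.stalkMap q (StructureSheaf.toStalk A (π q) a)) = algebraMap A L a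
    rw [show π.stalkMap q (StructureSheaf.toStalk A (π q) a) =
      StructureSheaf.toStalk P q (algebraMap A P a) from
        ConcreteCategory.congr_hom (stalkMap_toStalk (CommRingCat.ofHom (algebraMap A P)) q) a]
    exact ((IsLocalization.algEquiv q.asIdeal.primeCompl _ L).commutes (algebraMap A P a)).trans
      (IsScalarTower.algebraMap_apply A P L a).symm
  obtain ⟨eR, -⟩ := EGA43Top.exists_ringEquiv_fiber_stalk π (π q) (π.asFiber q)
  have key : ∀ (q' : PrimeSpectrum P), π.fiberι (π q) (π.asFiber q) = q' →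
      Nonempty (CInt.fiberStalk π q ≃+* ((Spec (CommRingCat.of P)).presheaf.stalk q' ⧸
        (maximalIdeal ((Spec (CommRingCat.of A)).presheaf.stalk (π q'))).map (π.stalkMap q').hom)) := by
    rintro _ rfl
    exact ⟨eR.symm⟩
  obtain ⟨e₀⟩ := key q (π.fiberι_asFiber q)
  refine ⟨e₀.trans (Ideal.quotientEquiv _ _ σ ?_)⟩
  rw [← IsLocalization.AtPrime.map_eq_maximalIdeal pa.asIdeal, Ideal.map_map, Ideal.map_map]
  exact congrArg (fun φ => Ideal.map φ pa.asIdeal) hcomp.symm

theorem affine_invariants (q : PrimeSpectrum (MvPolynomial (Fin N) A)) :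
    IsRegularLocalRing (EGA4.FibLocRing A (MvPolynomial (Fin N) A) q.asIdeal) ∧
      ∃ d : ℕ, ringKrullDim (EGA4.FibLocRing A (MvPolynomial (Fin N) A) q.asIdeal) = d ∧
        d + rd (affProj A N) q = N := by
  let π := affProj A N
  obtain ⟨e⟩ := nonempty_fibLocRing_equiv A N q
  haveI : Smooth (toPt π (π q)) := MorphismProperty.pullback_snd _ _ (smooth_affProj A N)
  haveI : IsRegularLocalRing (CInt.fiberStalk π q) :=
    SmoothReg17.isRegularLocalRing_stalk (toPt π (π q)) (π.asFiber q)
  obtain ⟨b, hb, hb'⟩ := CMEquiDim4.exists_stalk_dim (toPt π (π q)) (π.asFiber q)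
  refine ⟨IsRegularLocalRing.of_ringEquiv e, b, (ringKrullDim_eq_of_ringEquiv e).symm.trans hb, ?_⟩
  rw [← rd_fiberι, π.fiberι_asFiber,
    show FlatMor.localDim (π.fiber (π q)) (π.asFiber q) = FlatMor.fibreDimAt π q from rfl,
    FibGen4.fibreDimAt_affineSpace N q] at hb'
  have h : N = rd π q + b := by exact_mod_cast hb'
  show b + rd π q = N
  omega

/-- **Upper semicontinuity** of depth plus residual degree on the fibres of affine space. -/
theorem isClosed_depth_rd_le (M : Type u) [AddCommGroup M] [Module A M] [Module (MvPolynomial (Fin N) A) M]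
    [IsScalarTower A (MvPolynomial (Fin N) A) M] [Module.FinitePresentation (MvPolynomial (Fin N) A) M]
    [Module.Flat A M] (m : ℕ) :
    IsClosed {q : PrimeSpectrum (MvPolynomial (Fin N) A) |
      haveI := isLocalRing_fibLocRing (A := A) q.asIdeal;
      LocCoh.depth (EGA4.FibLocRing A (MvPolynomial (Fin N) A) q.asIdeal)
        (EGA4.FibLocMod A (MvPolynomial (Fin N) A) q.asIdeal M) + (rd (affProj A N) q : ℕ∞) ≤ (m : ℕ∞)} := by
  let P := MvPolynomial (Fin N) A
  have hsupp : ∀ q : PrimeSpectrum P, q ∈ Module.support P M ↔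
      Nontrivial (EGA4.FibLocMod A P q.asIdeal M) := fun q => (nontrivial_fibLocMod_iff q.asIdeal M).symm
  have hzero : ∀ q : PrimeSpectrum P, q ∉ Module.support P M →
      (haveI := isLocalRing_fibLocRing (A := A) q.asIdeal;
      LocCoh.depth (EGA4.FibLocRing A P q.asIdeal) (EGA4.FibLocMod A P q.asIdeal M)) = ⊤ := by
    intro q hq
    haveI := isLocalRing_fibLocRing (A := A) q.asIdeal
    rw [hsupp, not_nontrivial_iff_subsingleton] at hq
    exact DepthLib.idealDepth_of_smul_top_eq_top (Subsingleton.elim _ _)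
  have hfin : ∀ q : PrimeSpectrum P, q ∈ Module.support P M →
      ∃ d : ℕ, (haveI := isLocalRing_fibLocRing (A := A) q.asIdeal;
        LocCoh.depth (EGA4.FibLocRing A P q.asIdeal) (EGA4.FibLocMod A P q.asIdeal M)) = (d : ℕ∞) := by
    intro q hq
    haveI := (affine_invariants A N q).1
    haveI := (hsupp q).1 hq
    haveI : Module.Finite (EGA4.FibLocRing A P q.asIdeal) (EGA4.FibLocMod A P q.asIdeal M) :=
      Module.Finite.of_restrictScalars_finite (Localization.AtPrime q.asIdeal) _ _
    exact DepthLib.exists_depth_eq_natCast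
  by_cases hm : N ≤ m
  · refine (congrArg IsClosed (Set.ext fun q => ?_)).mp (Module.isClosed_support (R := P) (M := M))
    constructor
    · intro hq
      obtain ⟨hreg, b, hb, hbN⟩ := affine_invariants A N q
      haveI := hreg
      haveI := (hsupp q).1 hq
      obtain ⟨d, hd⟩ := hfin q hq
      haveI : Module.Finite (EGA4.FibLocRing A P q.asIdeal) (EGA4.FibLocMod A P q.asIdeal M) :=
        Module.Finite.of_restrictScalars_finite (Localization.AtPrime q.asIdeal) _ _
      have h1 := DepthLib.depth_le_supportDim (R := EGA4.FibLocRing A P q.asIdeal)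
        (M := EGA4.FibLocMod A P q.asIdeal M)
      have h2 := h1.trans (Module.supportDim_le_ringKrullDim _ _)
      rw [hd, hb] at h2
      have h3 : d ≤ b := by exact_mod_cast h2
      show (LocCoh.depth _ _ : ℕ∞) + _ ≤ _
      rw [hd]
      exact_mod_cast (by omega : d + rd (affProj A N) q ≤ m)
    · intro hq
      by_contra hns
      rw [Set.mem_setOf_eq, hzero q hns, top_add, top_le_iff] at hq
      exact ENat.coe_ne_top m hq
  · obtain ⟨j, hj⟩ : ∃ j, N = m + j + 1 := ⟨N - m - 1, by omega⟩
    refine (congrArg IsClosed (Set.ext fun q => ?_)).mp (isOpen_pdLoc A j M).isClosed_compl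
    obtain ⟨hreg, b, hb, hbN⟩ := affine_invariants A N q
    haveI := hreg
    haveI : Module.Finite (EGA4.FibLocRing A P q.asIdeal) (EGA4.FibLocMod A P q.asIdeal M) :=
      Module.Finite.of_restrictScalars_finite (Localization.AtPrime q.asIdeal) _ _
    rw [Set.mem_compl_iff, Set.mem_setOf_eq, Set.mem_setOf_eq, PDLoc]
    by_cases hq : q ∈ Module.support P M
    · haveI := (hsupp q).1 hq
      obtain ⟨d, hd⟩ := hfin q hq
      rw [AB5.pd_iff_of_regular hb hd, hd]
      refine ⟨fun h => ?_, fun h => ?_⟩
      · exact_mod_cast (by omega : d + rd (affProj A N) q ≤ m)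
      · have h' : d + rd (affProj A N) q ≤ m := by exact_mod_cast h
        omega
    · rw [hzero q hq, top_add, top_le_iff]
      refine iff_of_false (fun h => h ?_) (ENat.coe_ne_top m)
      rw [hsupp, not_nontrivial_iff_subsingleton] at hq
      exact (RegLoc.pd_zero_iff.2 inferInstance).mono (Nat.zero_le j)

end Groth.Agent.FibDepth5
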