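import Groth.Agent.Lib.FibDepth5.Core
import Groth.Agent.Lib.FibDepth5.Inv
import Groth.Agent.Lib.FibDepth5.Model
import Groth.Agent.Lib.FibDepth5.Delta
import Groth.Agent.Lib.FibDepth5.Sk
import Groth.Agent.Lib.ModM1.Local
import Groth.Agent.Lib.FlatH4.ModFlatAt

/-!
The depth data of a flat module on the fibres, in charts.
-/

universe u

open CategoryTheory AlgebraicGeometry TopologicalSpace Topology

set_option backward.isDefEq.respectTransparency false

namespace Groth.Agent.FibDepth5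

open FibDim14

variable {X Y : Scheme.{u}} (f : X ⟶ Y)

/-- A chart in affine space over an affine open of the base. -/
theorem exists_chart [LocallyOfFiniteType f] (x : X) :
    ∃ (V : Y.Opens) (_ : IsAffineOpen V) (U : X.Opens) (_ : IsAffineOpen U) (e : U ≤ f ⁻¹ᵁ V) (N : ℕ)
      (c : MvPolynomial (Fin N) Γ(Y, V) →+* Γ(X, U)), x ∈ U ∧ Function.Surjective c ∧
        c.comp (algebraMap Γ(Y, V) (MvPolynomial (Fin N) Γ(Y, V))) = (f.appLE V U e).hom := by
  obtain ⟨V, hV, hfxV, -⟩ := exists_isAffineOpen_mem_and_subset (U := (⊤ : Y.Opens)) (x := f x) trivial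
  obtain ⟨U, hU, hxU, hUV⟩ := exists_isAffineOpen_mem_and_subset (U := f ⁻¹ᵁ V) (x := x) hfxV
  have e : U ≤ f ⁻¹ᵁ V := hUV
  letI : Algebra Γ(Y, V) Γ(X, U) := (f.appLE V U e).hom.toAlgebra
  haveI : Algebra.FiniteType Γ(Y, V) Γ(X, U) := f.finiteType_appLE hV hU e
  obtain ⟨N, c, hc⟩ := Algebra.FiniteType.iff_quotient_mvPolynomial''.1 ‹Algebra.FiniteType Γ(Y, V) Γ(X, U)›
  exact ⟨V, hV, U, hU, e, N, c.toRingHom, hxU, hc, c.comp_algebraMap⟩

/-- Local description of fibre data by a module on affine space. -/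
structure IsModel (D : X → ℕ∞) (S : X → WithBot ℕ∞) (Sk : ℕ → X → Prop) (T : Set X) [LocallyOfFiniteType f]
    (U : X.Opens) (A : Type u) [CommRing A] (N : ℕ) (M : Type u) [AddCommGroup M] [Module A M]
    [Module (MvPolynomial (Fin N) A) M] (φ : U → PrimeSpectrum (MvPolynomial (Fin N) A)) : Prop where
  inducing : IsInducing φ
  supp : Module.support (MvPolynomial (Fin N) A) M ⊆ Set.range φ
  rd_eq : ∀ u, rd (affProj A N) (φ u) = rd f u.1
  fib : ∀ u v : U, f u.1 = f v.1 ↔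
    (φ u).asIdeal.comap (algebraMap A _) = (φ v).asIdeal.comap (algebraMap A _)
  depth_eq : ∀ u : U, D u.1 = (haveI := isLocalRing_fibLocRing (A := A) (φ u).asIdeal;
    LocCoh.depth (EGA4.FibLocRing A _ (φ u).asIdeal) (EGA4.FibLocMod A _ (φ u).asIdeal M))
  dim_eq : ∀ u : U, S u.1 = Module.supportDim (EGA4.FibLocRing A _ (φ u).asIdeal)
    (EGA4.FibLocMod A _ (φ u).asIdeal M)
  mem_T : ∀ u : U, u.1 ∈ T ↔ φ u ∈ Module.support (MvPolynomial (Fin N) A) M
  sk_eq : ∀ k (u : U), Sk k u.1 ↔ LocCoh.HasSk k (Localization.AtPrime (φ u).asIdeal)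
    (EGA4.FibLocMod A _ (φ u).asIdeal M)

namespace IsModel

variable {f} [LocallyOfFiniteType f] {D : X → ℕ∞} {S : X → WithBot ℕ∞} {Sk : ℕ → X → Prop} {T : Set X}
  {U : X.Opens} {A : Type u} [CommRing A] {N : ℕ} {M : Type u} [AddCommGroup M] [Module A M]
  [Module (MvPolynomial (Fin N) A) M] {φ : U → PrimeSpectrum (MvPolynomial (Fin N) A)}
  (h : IsModel f D S Sk T U A N M φ)

include h

theorem le_iff (u v : U) : φ v ≤ φ u ↔ v.1 ⤳ u.1 := by
  rw [PrimeSpectrum.le_iff_specializes, h.inducing.specializes_iff]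
  exact subtype_specializes_iff v u

theorem exists_eq {u : U} {q' : PrimeSpectrum (MvPolynomial (Fin N) A)} (hle : q' ≤ φ u)
    (hq' : q' ∈ Module.support (MvPolynomial (Fin N) A) M)
    (hp : q'.asIdeal.comap (algebraMap A _) = (φ u).asIdeal.comap (algebraMap A _)) :
    ∃ v : U, φ v = q' ∧ v.1 ⤳ u.1 ∧ f v.1 = f u.1 := by
  obtain ⟨v, rfl⟩ := h.supp hq'
  exact ⟨v, rfl, (h.le_iff u v).1 hle, (h.fib v u).2 hp⟩

theorem mk_gen {u : U} {x' : X} (hx' : x' ⤳ u.1) : ∃ v : U, v.1 = x' ∧ φ v ≤ φ u := by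
  refine ⟨⟨x', hx'.mem_open U.2 u.2⟩, rfl, (h.le_iff u _).2 hx'⟩

theorem sk_iff [Module.Finite (MvPolynomial (Fin N) A) M] (k : ℕ) (u : U) :
    Sk k u.1 ↔ ∀ x', x' ⤳ u.1 → f x' = f u.1 →
      min (k : WithBot ℕ∞) (S x') ≤ ((D x' : ℕ∞) : WithBot ℕ∞) := by
  rw [h.sk_eq, hasSk_fibLocMod_iff]
  constructor
  · intro hsk x' hx' he
    obtain ⟨v, rfl, hle⟩ := h.mk_gen hx'
    rw [h.dim_eq, h.depth_eq]
    exact hsk (φ v).asIdeal hle ((h.fib v u).1 he)
  · intro hall q' _ hle hp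
    by_cases hq' : (⟨q', ‹_›⟩ : PrimeSpectrum (MvPolynomial (Fin N) A)) ∈
        Module.support (MvPolynomial (Fin N) A) M
    · obtain ⟨v, hv, h1, h2⟩ := h.exists_eq (q' := ⟨q', ‹_›⟩) hle hq' hp
      have := hall v.1 h1 h2
      rw [h.dim_eq, h.depth_eq, hv] at this
      exact this
    · haveI : Subsingleton (EGA4.FibLocMod A _ q' M) := by
        rw [← not_nontrivial_iff_subsingleton, nontrivial_fibLocMod_iff]
        exact hq'
      rw [Module.supportDim_eq_bot_of_subsingleton]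
      exact (min_le_right _ _).trans bot_le

end IsModel

variable [LocallyOfFiniteType f]

/-- Fibre data from local models by flat finitely presented modules. -/
theorem fibData_of_model {D : X → ℕ∞} {S : X → WithBot ℕ∞} {Sk : ℕ → X → Prop} {T : Set X}
    (H : ∀ x : X, ∃ (U : X.Opens) (A : Type u) (_ : CommRing A) (N : ℕ) (M : Type u) (_ : AddCommGroup M)
      (_ : Module A M) (_ : Module (MvPolynomial (Fin N) A) M)
      (_ : IsScalarTower A (MvPolynomial (Fin N) A) M)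
      (_ : Module.FinitePresentation (MvPolynomial (Fin N) A) M) (_ : Module.Flat A M)
      (φ : U → PrimeSpectrum (MvPolynomial (Fin N) A)), x ∈ U ∧ IsModel f D S Sk T U A N M φ) :
    FibData f D S T ∧ ∀ k x, Sk k x ↔ ∀ x', x' ⤳ x → f x' = f x →
      min (k : WithBot ℕ∞) (S x') ≤ ((D x' : ℕ∞) : WithBot ℕ∞) := by
  refine ⟨?_, fun k x => ?_⟩
  swap
  · obtain ⟨U, A, _, N, M, _, _, _, _, _, _, φ, hx, h⟩ := H x
    exact h.sk_iff k ⟨x, hx⟩
  have hsubT : ∀ x, x ∉ T → D x = ⊤ ∧ S x = ⊥ := by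
    intro x hxT
    obtain ⟨U, A, _, N, M, _, _, _, _, _, _, φ, hx, h⟩ := H x
    have hs := (h.mem_T ⟨x, hx⟩).not.1 hxT
    haveI := isLocalRing_fibLocRing (A := A) (φ ⟨x, hx⟩).asIdeal
    haveI : Subsingleton (EGA4.FibLocMod A _ (φ ⟨x, hx⟩).asIdeal M) := by
      rw [← not_nontrivial_iff_subsingleton, nontrivial_fibLocMod_iff]
      exact hs
    rw [h.depth_eq ⟨x, hx⟩, h.dim_eq ⟨x, hx⟩, Module.supportDim_eq_bot_of_subsingleton]
    exact ⟨DepthLib.idealDepth_of_smul_top_eq_top (Subsingleton.elim _ _), rfl⟩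
  refine
    { closed_T := ?_, closed_E := fun m => ?_, top_D := hsubT, le_S := fun x hxT => ?_,
      dim_rd := fun x hxT => ?_ }
  · refine isOpen_compl_iff.1 (isOpen_iff_forall_mem_open.2 fun x hxT => ?_)
    obtain ⟨U, A, _, N, M, _, _, _, _, _, _, φ, hx, h⟩ := H x
    refine ⟨Subtype.val '' (φ ⁻¹' (Module.support (MvPolynomial (Fin N) A) M)ᶜ), ?_,
      U.isOpenEmbedding'.isOpenMap _ ((Module.isClosed_support (R := MvPolynomial (Fin N) A) (M := M)).isOpen_compl.preimage h.inducing.continuous),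
      ⟨⟨x, hx⟩, fun hm => hxT ((h.mem_T _).2 hm), rfl⟩⟩
    rintro _ ⟨u, hu, rfl⟩ huT
    exact hu ((h.mem_T u).1 huT)
  · refine isOpen_compl_iff.1 (isOpen_iff_forall_mem_open.2 fun x hxE => ?_)
    obtain ⟨U, A, _, N, M, _, _, _, _, _, _, φ, hx, h⟩ := H x
    have hcl := isClosed_depth_rd_le A N M m
    refine ⟨Subtype.val '' (φ ⁻¹' ({q : PrimeSpectrum (MvPolynomial (Fin N) A) |
        haveI := isLocalRing_fibLocRing (A := A) q.asIdeal;
        LocCoh.depth (EGA4.FibLocRing A (MvPolynomial (Fin N) A) q.asIdeal)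
          (EGA4.FibLocMod A (MvPolynomial (Fin N) A) q.asIdeal M) + (rd (affProj A N) q : ℕ∞) ≤ (m : ℕ∞)}ᶜ)),
      ?_, U.isOpenEmbedding'.isOpenMap _ (hcl.isOpen_compl.preimage h.inducing.continuous), ?_⟩
    · rintro _ ⟨u, hu, rfl⟩ huE
      refine hu ?_
      rw [Set.mem_setOf_eq]
      rw [← h.depth_eq u, h.rd_eq u]
      exact huE
    · refine ⟨⟨x, hx⟩, fun hm => hxE ?_, rfl⟩
      rw [Set.mem_setOf_eq] at hm
      rw [← h.depth_eq ⟨x, hx⟩, h.rd_eq ⟨x, hx⟩] at hm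
      exact hm
  · obtain ⟨U, A, _, N, M, _, _, _, _, _, _, φ, hx, h⟩ := H x
    have hs := (h.mem_T ⟨x, hx⟩).1 hxT
    obtain ⟨hreg, -⟩ := affine_invariants A N (φ ⟨x, hx⟩)
    haveI := hreg
    haveI : Nontrivial (EGA4.FibLocMod A _ (φ ⟨x, hx⟩).asIdeal M) := (nontrivial_fibLocMod_iff _ _).2 hs
    haveI : Module.Finite (EGA4.FibLocRing A _ (φ ⟨x, hx⟩).asIdeal) (EGA4.FibLocMod A _ (φ ⟨x, hx⟩).asIdeal M) :=
      Module.Finite.of_restrictScalars_finite (Localization.AtPrime (φ ⟨x, hx⟩).asIdeal) _ _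
    obtain ⟨d, hd⟩ := DepthLib.exists_depth_eq_natCast
      (R := EGA4.FibLocRing A _ (φ ⟨x, hx⟩).asIdeal) (M := EGA4.FibLocMod A _ (φ ⟨x, hx⟩).asIdeal M)
    have hle := DepthLib.depth_le_supportDim
      (R := EGA4.FibLocRing A _ (φ ⟨x, hx⟩).asIdeal) (M := EGA4.FibLocMod A _ (φ ⟨x, hx⟩).asIdeal M)
    rw [hd] at hle
    exact ⟨d, (h.depth_eq ⟨x, hx⟩).trans hd, (h.dim_eq ⟨x, hx⟩).symm ▸ hle⟩
  · obtain ⟨U, A, _, N, M, _, _, _, _, _, _, φ, hx, h⟩ := H x
    obtain ⟨b, δ, hb, hδ, hall, q', hle, hq', hp, hr⟩ :=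
      exists_supportDim_add_rd (A := A) M (φ ⟨x, hx⟩) ((h.mem_T ⟨x, hx⟩).1 hxT)
    obtain ⟨v, rfl, hv1, hv2⟩ := h.exists_eq hle hq' hp
    refine ⟨b, δ, (h.dim_eq ⟨x, hx⟩).trans hb, by rw [← hδ, h.rd_eq ⟨x, hx⟩], fun x' hx' hT' he => ?_,
      v.1, hv1, (h.mem_T v).2 hq', hv2, (h.rd_eq v).symm.trans hr⟩
    obtain ⟨w, rfl, hw⟩ := h.mk_gen (u := ⟨x, hx⟩) hx'
    rw [← h.rd_eq w]
    exact hall (φ w) hw ((h.mem_T w).1 hT') ((h.fib w ⟨x, hx⟩).1 he)

section Affine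

variable {V : Y.Opens} (hV : IsAffineOpen V) {U : X.Opens} (hU : IsAffineOpen U) (e : U ≤ f ⁻¹ᵁ V)
  (N : ℕ) [Algebra (MvPolynomial (Fin N) Γ(Y, V)) Γ(X, U)]
  (hc : Function.Surjective (algebraMap (MvPolynomial (Fin N) Γ(Y, V)) Γ(X, U)))
  (hct : (algebraMap (MvPolynomial (Fin N) Γ(Y, V)) Γ(X, U)).comp
    (algebraMap Γ(Y, V) (MvPolynomial (Fin N) Γ(Y, V))) = (f.appLE V U e).hom)

/-- The chart map. -/
noncomputable def chartMap (u : U) : PrimeSpectrum (MvPolynomial (Fin N) Γ(Y, V)) :=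
  chartPrime hU (MvPolynomial (Fin N) Γ(Y, V)) u.2

include hc in
theorem isEmbedding_chartMap : IsEmbedding (chartMap hU N (V := V)) := by
  have h1 : IsEmbedding (fun u : U => hU.primeIdealOf u) := hU.isoSpec.hom.isOpenEmbedding.isEmbedding
  exact (PrimeSpectrum.isClosedEmbedding_comap_of_surjective _ _ hc).isEmbedding.comp h1

include hc in
theorem range_chartMap : Set.range (chartMap hU N (V := V)) =
    PrimeSpectrum.zeroLocus (RingHom.ker (algebraMap (MvPolynomial (Fin N) Γ(Y, V)) Γ(X, U)) : Set _) := by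
  rw [← range_comap_of_surjective _ _ hc]
  refine Set.Subset.antisymm (by rintro _ ⟨u, rfl⟩; exact ⟨_, rfl⟩) ?_
  rintro _ ⟨p, rfl⟩
  obtain ⟨u, rfl⟩ := hU.isoSpec.hom.surjective p
  exact ⟨u, rfl⟩

include hc hct hV in
theorem rd_chartMap (u : U) : rd (affProj Γ(Y, V) N) (chartMap hU N u) = rd f u.1 := by
  let P := MvPolynomial (Fin N) Γ(Y, V)
  let a : Spec (CommRingCat.of Γ(X, U)) ⟶ Spec (CommRingCat.of P) :=
    Spec.map (CommRingCat.ofHom (algebraMap P Γ(X, U)))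
  haveI : IsClosedImmersion a := IsClosedImmersion.spec_of_surjective _ hc
  have ha : a ≫ affProj Γ(Y, V) N = Spec.map (f.appLE V U e) := by
    rw [← Spec.map_comp]
    exact congrArg Spec.map (CommRingCat.hom_ext hct)
  have h1 : hU.fromSpec ≫ f = (a ≫ affProj Γ(Y, V) N) ≫ hV.fromSpec :=
    (IsAffineOpen.SpecMap_appLE_fromSpec f hV hU e).symm.trans (congrArg (· ≫ hV.fromSpec) ha.symm)
  haveI : LocallyOfFiniteType (affProj Γ(Y, V) N) :=
    (HasRingHomProperty.Spec_iff (P := @LocallyOfFiniteType)).2 (RingHom.finiteType_algebraMap.2 inferInstance)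
  have h2 := rd_comp hU.fromSpec f (hU.primeIdealOf u)
  simp only [h1] at h2
  rw [rd_comp, rd_comp, rd_of_surjectiveOnStalks (f := a), rd_of_surjectiveOnStalks (f := hU.fromSpec),
    rd_of_surjectiveOnStalks (f := hV.fromSpec), zero_add, add_zero, add_zero, hU.fromSpec_primeIdealOf] at h2
  exact h2

include hct hV in
theorem fib_chartMap (u v : U) : f u.1 = f v.1 ↔
    (chartMap hU N (V := V) u).asIdeal.comap (algebraMap Γ(Y, V) _) =
      (chartMap hU N (V := V) v).asIdeal.comap (algebraMap Γ(Y, V) _) := by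
  have key : ∀ w : U, (chartMap hU N (V := V) w).asIdeal.comap (algebraMap Γ(Y, V) _) =
      (hV.primeIdealOf ⟨f w.1, e w.2⟩).asIdeal := by
    intro w
    rw [← IsAffineOpen.comap_primeIdealOf_appLE V hV U hU e w.2, ← hct]
    rfl
  rw [key, key]
  constructor
  · intro h
    rw [show (⟨f u.1, e u.2⟩ : V) = ⟨f v.1, e v.2⟩ from Subtype.ext h]
  · intro h
    have := congrArg hV.fromSpec (PrimeSpectrum.ext h)
    rwa [hV.fromSpec_primeIdealOf, hV.fromSpec_primeIdealOf] at this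

end Affine

end Groth.Agent.FibDepth5
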