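import Groth.Agent.Lib.FibDepth5.Comps

/-!
Exact sets of component dimensions; the dimension of the support of the fibres of a proper morphism.
-/

universe u

open CategoryTheory AlgebraicGeometry TopologicalSpace Topology

set_option backward.isDefEq.respectTransparency false

namespace Groth.Agent.FibDepth5

open FibDim14

variable {X Y : Scheme.{u}} (f : X ⟶ Y) (F : X.Modules) [IsProper f] [LocallyOfFinitePresentation f]
variable (hF : CohB1.IsFP F) (hflat : FlatMod.IsFlatOver f F)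

include hF hflat

theorem isOpen_noEmbedded :
    IsOpen {y : Y | AssSch.NoEmbedded ((Scheme.Modules.pullback (f.fiberι y)).obj F)} := by
  refine (congrArg IsOpen (Set.ext fun y => ?_)).mp (isOpen_forall_fiber f (fun y z =>
    ∀ w ∈ AssSch.Ass ((Scheme.Modules.pullback (f.fiberι y)).obj F), z ∈ closure {w} →
      ∀ w' ∈ AssSch.Ass ((Scheme.Modules.pullback (f.fiberι y)).obj F), w ∈ closure {w'} → w' = w)
    (isOpen_notEmbedded f F hF hflat))
  refine ⟨fun h x hx y' hy' hyx => (h x x hx (subset_closure rfl) y' hy' (specializes_iff_mem_closure.1 hyx)).symm,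
    fun h z w hw _ w' hw' hww' => (h w hw w' hw' (specializes_iff_mem_closure.2 hww')).symm⟩

theorem isOpen_noEmbedded_and_dims_eq (Φ : Finset ℕ) :
    IsOpen {y : Y | AssSch.NoEmbedded ((Scheme.Modules.pullback (f.fiberι y)).obj F) ∧
      (fun Z : Set ↥{z : ↥(f.fiber y) | Nontrivial (((Scheme.Modules.pullback (f.fiberι y)).obj F).presheaf.stalk z)} => topologicalKrullDim ↥Z) '' irreducibleComponents ↥{z : ↥(f.fiber y) | Nontrivial (((Scheme.Modules.pullback (f.fiberι y)).obj F).presheaf.stalk z)} =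
        (fun n : ℕ => (n : WithBot ℕ∞)) '' (Φ : Set ℕ)} := by
  have hA : IsOpen {y : Y | ∀ z, ∀ w ∈ AssSch.Ass ((Scheme.Modules.pullback (f.fiberι y)).obj F),
      z ∈ closure {w} → ∃ n ∈ (Φ : Set ℕ), topologicalKrullDim ↥(closure ({w} : Set ↥(f.fiber y))) = (n : WithBot ℕ∞)} :=
    isOpen_forall_fiber f (fun y z => ∀ w ∈ AssSch.Ass ((Scheme.Modules.pullback (f.fiberι y)).obj F),
      z ∈ closure {w} → ∃ n ∈ (Φ : Set ℕ), topologicalKrullDim ↥(closure ({w} : Set ↥(f.fiber y))) = (n : WithBot ℕ∞))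
      (isOpen_assDims_through f F hF hflat (Φ : Set ℕ))
  refine (congrArg IsOpen (Set.ext fun y => ?_)).mp
    ((isOpen_noEmbedded f F hF hflat).inter (hA.inter (isOpen_supportComponentDims_supset f F hF hflat Φ)))
  refine and_congr_right fun hne => ?_
  have hy : ∀ z, f (f.fiberι y z) = y := fun z => (Scheme.Hom.range_fiberι f y).le ⟨z, rfl⟩
  constructor
  · rintro ⟨hA, hB⟩
    refine Set.Subset.antisymm ?_ ?_
    · rintro _ ⟨Z, hZ, rfl⟩
      let Ty := {z : ↥(f.fiber y) | Nontrivial (((Scheme.Modules.pullback (f.fiberι y)).obj F).presheaf.stalk z)}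
      have hcl : IsClosed Ty := isClosed_setOf_nontrivial f F hF hflat y
      haveI : QuasiSober Ty := hcl.isClosedEmbedding_subtypeVal.quasiSober
      obtain ⟨w, hw⟩ := QuasiSober.sober hZ.1 (isClosed_of_mem_irreducibleComponents Z hZ)
      have hd : topologicalKrullDim ↥Z = (rd f (f.fiberι y w.1) : WithBot ℕ∞) := by
        rw [← show closure ({w} : Set Ty) = Z from hw,
          DimF18.topologicalKrullDim_eq_of_homeo (e := (Subtype.val : Ty → f.fiber y)) IsEmbedding.subtypeVal,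
          ← hcl.isClosedEmbedding_subtypeVal.closure_image_eq, Set.image_singleton]
        exact topologicalKrullDim_closure_eq_rd f y w.1
      obtain ⟨η, hη, hmax, hr⟩ := (exists_component_iff f F hF hflat y _).1 ⟨Z, hZ, hd⟩
      obtain ⟨v, rfl⟩ : η ∈ Set.range (f.fiberι y) := by rw [f.range_fiberι]; exact hη
      obtain ⟨n, hn, hdv⟩ := hA v v ((mem_ass_iff f F hF y v).2 (assoc_of_isMaxSupp f F hF hflat hmax))
        (subset_closure rfl)
      rw [topologicalKrullDim_closure_eq_rd, hr, ← hd] at hdv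
      exact ⟨n, hn, hdv.symm⟩
    · rintro _ ⟨n, hn, rfl⟩
      obtain ⟨Z, hZ, hd⟩ := hB n hn
      exact ⟨Z, hZ, hd⟩
  · intro heq
    refine ⟨fun z w hw _ => ?_, fun n hn => ?_⟩
    · have hwa := (mem_ass_iff f F hF y w).1 hw
      obtain ⟨h, -⟩ := fibData_mod f F hF hflat
      have hwT : f.fiberι y w ∈ fibSupp f F := h.mem_T_of_assoc hwa
      have hmax : IsMaxSupp f F (f.fiberι y w) := by
        rw [isMaxSupp_iff f F hF hflat]
        obtain ⟨b, δ, hb, hδ, hall, w', hw', hw'T, he, hr⟩ := h.dim_rd _ hwT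
        refine ⟨hwT, ?_⟩
        obtain ⟨b', δ', hb', hδ', -, w'', hw'', hw''T, he', hr'⟩ := h.dim_rd w' hw'T
        have h1 := hall w'' (hw''.trans hw') hw''T (he'.trans he)
        have hb'0 : b' = 0 := by omega
        obtain ⟨v, rfl⟩ : w' ∈ Set.range (f.fiberι y) := by rw [f.range_fiberι]; exact he.trans (hy w)
        have hva : v ∈ AssSch.Ass ((Scheme.Modules.pullback (f.fiberι y)).obj F) :=
          (mem_ass_iff f F hF y v).2 (h.assoc_of_S_eq_zero hw'T (by rw [hb', hb'0]))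
        obtain rfl := hne w hw v hva ((f.fiberι y).isEmbedding.isInducing.specializes_iff.1 hw')
        rw [hb', hb'0]
      obtain ⟨Z, hZ, hd⟩ := (exists_component_iff f F hF hflat y _).2 ⟨_, hy w, hmax, rfl⟩
      obtain ⟨n, hn, hdn⟩ := heq.le ⟨Z, hZ, rfl⟩
      exact ⟨n, hn, (topologicalKrullDim_closure_eq_rd f y w).trans (hd.symm.trans hdn.symm)⟩
    · obtain ⟨Z, hZ, hd⟩ := heq.ge ⟨n, hn, rfl⟩
      exact ⟨Z, hZ, hd⟩

theorem isLocallyConstant_supportDim :
    IsLocallyConstant (fun y : Y => topologicalKrullDim ↥{z : ↥(f.fiber y) |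
      Nontrivial (((Scheme.Modules.pullback (f.fiberι y)).obj F).presheaf.stalk z)}) := by
  obtain ⟨h, -⟩ := fibData_mod f F hF hflat
  simp only [topologicalKrullDim_supp f F hF hflat]
  refine IsLocallyConstant.iff_exists_open _ |>.2 fun y => ?_
  by_cases he : ∃ x, f x = y ∧ x ∈ fibSupp f F
  swap
  · refine ⟨(f '' fibSupp f F)ᶜ, (f.isClosedMap _ h.closed_T).isOpen_compl, fun ⟨x, hx, hxy⟩ => he ⟨x, hxy, hx⟩,
      fun y' hy' => ?_⟩
    haveI : IsEmpty {x : X // f x = y' ∧ x ∈ fibSupp f F} := ⟨fun ⟨x, hx, hT⟩ => hy' ⟨x, hT, hx⟩⟩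
    haveI : IsEmpty {x : X // f x = y ∧ x ∈ fibSupp f F} := ⟨fun ⟨x, hx, hT⟩ => he ⟨x, hx, hT⟩⟩
    simp
  -- the residual degrees over `y` are bounded
  obtain ⟨n, hn⟩ : ∃ n : ℕ, ∀ x, f x = y → x ∈ fibSupp f F → rd f x ≤ n := by
    have hc : IsCompact (f ⁻¹' {y}) := f.isCompact_preimage_singleton y
    obtain ⟨t, ht⟩ := hc.elim_finite_subcover (fun n : ℕ => {x | FlatMor.fibreDimAt f x ≤ (n : WithBot ℕ∞)})
      (fun n => isOpen_fibreDimAt_le f n) fun x _ => by
        obtain ⟨x', -, -, h', -⟩ := exists_fibreDimAt_eq f x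
        exact Set.mem_iUnion.2 ⟨_, h'.le⟩
    refine ⟨t.sup id, fun x hx _ => ?_⟩
    obtain ⟨m, hm, hxm⟩ := Set.mem_iUnion₂.1 (ht hx)
    have h1 := (rd_le_fibreDimAt f (specializes_rfl : x ⤳ x) rfl).trans hxm
    exact le_trans (by exact_mod_cast h1) (Finset.le_sup (f := id) hm)
  classical
  let p : ℕ → Prop := fun m => ∀ x, f x = y → x ∈ fibSupp f F → rd f x ≤ m
  have hp : ∃ m, p m := ⟨n, hn⟩
  let m := Nat.find hp
  obtain ⟨η, hη, hηT, hr⟩ : ∃ η, f η = y ∧ η ∈ fibSupp f F ∧ rd f η = m := by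
    obtain ⟨x, hx, hxT⟩ := he
    by_cases h0 : m = 0
    · exact ⟨x, hx, hxT, by have := Nat.find_spec hp x hx hxT; omega⟩
    · have := Nat.find_min hp (show m - 1 < m by omega)
      simp only [p, not_forall, not_le] at this
      obtain ⟨x', hx', hx'T, hlt⟩ := this
      exact ⟨x', hx', hx'T, by have := Nat.find_spec hp x' hx' hx'T; omega⟩
  refine ⟨{y' | ∃ η', f η' = y' ∧ IsMaxSupp f F η' ∧ rd f η' = m} ∩ (f '' upSet f (fibSupp f F) (m + 1))ᶜ,
    (isOpen_exists_component f F hF hflat m).inter (f.isClosedMap _ (h.isClosed_upSet_T _)).isOpen_compl,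
    ⟨⟨η, hη, ⟨hηT, fun η' h1 h2 h3 => ?_⟩, hr⟩, ?_⟩, fun y' hy' => ?_⟩
  · by_contra hne
    have := rd_lt_of_specializes f h1 hne h2
    have := Nat.find_spec hp η' (h2.trans hη) h3
    omega
  · rintro ⟨x, ⟨x', -, hx', hx'T, hlt⟩, hxy⟩
    have := Nat.find_spec hp x' (hx'.trans hxy) hx'T
    omega
  · obtain ⟨⟨η', hη', hmax, hr'⟩, hy''⟩ := hy'
    have key : ∀ (z : Y) (w : X), f w = z → w ∈ fibSupp f F → rd f w = m →
        (∀ x, f x = z → x ∈ fibSupp f F → rd f x ≤ m) →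
        ⨆ x : {x : X // f x = z ∧ x ∈ fibSupp f F}, (rd f x.1 : WithBot ℕ∞) = (m : WithBot ℕ∞) := by
      intro z w hw hwT hwr hle
      refine le_antisymm (iSup_le fun ⟨x, hx, hxT⟩ => by exact_mod_cast hle x hx hxT) ?_
      exact le_iSup_of_le ⟨w, hw, hwT⟩ (by rw [hwr])
    rw [key y' η' hη' hmax.1 hr' fun x hx hxT => ?_, key y η hη hηT hr (Nat.find_spec hp)]
    by_contra hlt
    exact hy'' ⟨x, ⟨x, specializes_rfl, rfl, hxT, by omega⟩, hx⟩

end Groth.Agent.FibDepth5
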