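import Groth.Agent.Lib.FibDepth5.FieldCases
import Groth.Agent.Lib.FlatH4.GenFreeMain
import Mathlib

/-!
Constructibility of the locus where depth plus residual degree is small, without flatness.
-/

universe u

open TensorProduct IsLocalRing Topology

attribute [local instance] MvPolynomial.algebraMvPolynomial


set_option maxHeartbeats 800000

namespace Groth.Agent.FibDepth5

open FibDim14

section

variable (A : Type u) [CommRing A] {N : ℕ} (M : Type u) [AddCommGroup M]
  [Module (MvPolynomial (Fin N) A) M]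

/-- Points of the support with depth plus residual degree at most `m`, through projective dimension. -/
def badSet (m : ℕ) : Set (PrimeSpectrum (MvPolynomial (Fin N) A)) :=
  {q | q ∈ Module.support _ M ∧ (N ≤ m ∨ ¬ PDLoc A M (N - m - 1) q)}

theorem isClosed_badSet_of_flat [Module A M] [IsScalarTower A (MvPolynomial (Fin N) A) M]
    [Module.FinitePresentation (MvPolynomial (Fin N) A) M] [Module.Flat A M] (m : ℕ) :
    IsClosed (badSet A (N := N) M m) := by
  by_cases hm : N ≤ m
  · refine (congrArg IsClosed (Set.ext fun q => ?_)).mp (Module.isClosed_support (R := MvPolynomial (Fin N) A) (M := M))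
    simp [badSet, hm]
  · refine (congrArg IsClosed (Set.ext fun q => ?_)).mp
      ((Module.isClosed_support (R := MvPolynomial (Fin N) A) (M := M)).inter (isOpen_pdLoc A (N - m - 1) M).isClosed_compl)
    simp [badSet, hm]

theorem depth_rd_le_iff_mem_badSet [Module.Finite (MvPolynomial (Fin N) A) M] (m : ℕ)
    (q : PrimeSpectrum (MvPolynomial (Fin N) A)) :
    (haveI := isLocalRing_fibLocRing (A := A) q.asIdeal;
      LocCoh.depth (EGA4.FibLocRing A (MvPolynomial (Fin N) A) q.asIdeal)
        (EGA4.FibLocMod A (MvPolynomial (Fin N) A) q.asIdeal M) + (rd (affProj A N) q : ℕ∞) ≤ (m : ℕ∞)) ↔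
      q ∈ badSet A (N := N) M m := by
  let P := MvPolynomial (Fin N) A
  obtain ⟨hreg, b, hb, hbN⟩ := affine_invariants A N q
  haveI := hreg
  haveI : Module.Finite (EGA4.FibLocRing A P q.asIdeal) (EGA4.FibLocMod A P q.asIdeal M) :=
    Module.Finite.of_restrictScalars_finite (Localization.AtPrime q.asIdeal) _ _
  by_cases hq : q ∈ Module.support P M
  · haveI := (nontrivial_fibLocMod_iff (A := A) q.asIdeal M).2 hq
    obtain ⟨d, hd⟩ := DepthLib.exists_depth_eq_natCast
      (R := EGA4.FibLocRing A P q.asIdeal) (M := EGA4.FibLocMod A P q.asIdeal M)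
    have h2 := (DepthLib.depth_le_supportDim (R := EGA4.FibLocRing A P q.asIdeal)
      (M := EGA4.FibLocMod A P q.asIdeal M)).trans (Module.supportDim_le_ringKrullDim _ _)
    rw [hd, hb] at h2
    have h3 : d ≤ b := by exact_mod_cast h2
    rw [hd, badSet, Set.mem_setOf_eq, and_iff_right hq, PDLoc, AB5.pd_iff_of_regular hb hd]
    rw [← ENat.coe_add, Nat.cast_le]
    omega
  · haveI : Subsingleton (EGA4.FibLocMod A P q.asIdeal M) := by
      rw [← not_nontrivial_iff_subsingleton, nontrivial_fibLocMod_iff]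
      exact hq
    rw [show LocCoh.depth (EGA4.FibLocRing A P q.asIdeal) (EGA4.FibLocMod A P q.asIdeal M) = ⊤ from
      DepthLib.idealDepth_of_smul_top_eq_top (Subsingleton.elim _ _), top_add, top_le_iff]
    exact iff_of_false (ENat.coe_ne_top m) fun h => hq h.1

theorem depth_eq_top_iff [Module.Finite (MvPolynomial (Fin N) A) M]
    (q : PrimeSpectrum (MvPolynomial (Fin N) A)) :
    (haveI := isLocalRing_fibLocRing (A := A) q.asIdeal;
      LocCoh.depth (EGA4.FibLocRing A (MvPolynomial (Fin N) A) q.asIdeal)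
        (EGA4.FibLocMod A (MvPolynomial (Fin N) A) q.asIdeal M) = ⊤) ↔
      q ∉ Module.support _ M := by
  let P := MvPolynomial (Fin N) A
  haveI := (affine_invariants A N q).1
  haveI : Module.Finite (EGA4.FibLocRing A P q.asIdeal) (EGA4.FibLocMod A P q.asIdeal M) :=
    Module.Finite.of_restrictScalars_finite (Localization.AtPrime q.asIdeal) _ _
  refine ⟨fun h hq => ?_, fun hq => ?_⟩
  · haveI := (nontrivial_fibLocMod_iff (A := A) q.asIdeal M).2 hq
    obtain ⟨d, hd⟩ := DepthLib.exists_depth_eq_natCast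
      (R := EGA4.FibLocRing A P q.asIdeal) (M := EGA4.FibLocMod A P q.asIdeal M)
    exact ENat.coe_ne_top d (hd.symm.trans h)
  · haveI : Subsingleton (EGA4.FibLocMod A P q.asIdeal M) := by
      rw [← not_nontrivial_iff_subsingleton, nontrivial_fibLocMod_iff]
      exact hq
    exact DepthLib.idealDepth_of_smul_top_eq_top (Subsingleton.elim _ _)

theorem mem_badSet_bc [Module.Finite (MvPolynomial (Fin N) A) M] {A' : Type u} [CommRing A'] [Algebra A A']
    {M' : Type u} [AddCommGroup M'] [Module (MvPolynomial (Fin N) A) M'] [Module (MvPolynomial (Fin N) A') M']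
    [IsScalarTower (MvPolynomial (Fin N) A) (MvPolynomial (Fin N) A') M'] {j : M →ₗ[MvPolynomial (Fin N) A] M'}
    (hj : IsBaseChange (MvPolynomial (Fin N) A') j) (m : ℕ) (q' : PrimeSpectrum (MvPolynomial (Fin N) A')) :
    PrimeSpectrum.comap (algebraMap (MvPolynomial (Fin N) A) _) q' ∈ badSet A (N := N) M m ↔
      q' ∈ badSet A' (N := N) M' m := by
  obtain ⟨h1, h2⟩ := bc_invariant hj q'
  exact and_congr h1 (or_congr Iff.rfl (h2 _).not)

end

theorem flat_of_isPushout {R A' S P' : Type u} [CommRing R] [CommRing A'] [CommRing S] [CommRing P'] [Algebra R A']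
    [Algebra R S] [Algebra R P'] [Algebra A' P'] [Algebra S P'] [IsScalarTower R A' P'] [IsScalarTower R S P']
    [Algebra.IsPushout R A' S P'] (M₁ : Type u) [AddCommGroup M₁] [Module R M₁] [Module S M₁] [IsScalarTower R S M₁]
    [Module.Free A' (A' ⊗[R] M₁)] : Module.Flat A' (P' ⊗[S] M₁) :=
  Module.Flat.of_linearEquiv (Algebra.IsPushout.cancelBaseChange R A' S P' M₁)

variable {N : ℕ}

theorem constructible_of_localization (R A' : Type u) [CommRing R] [IsNoetherianRing R] (f : R) [CommRing A']
    [Algebra R A'] [IsLocalization.Away f A'] (M₁ : Type u)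
    [AddCommGroup M₁] [Module R M₁] [Module (MvPolynomial (Fin N) R) M₁]
    [IsScalarTower R (MvPolynomial (Fin N) R) M₁] [Module.Finite (MvPolynomial (Fin N) R) M₁]
    [Module.Free A' (A' ⊗[R] M₁)] (m : ℕ) :
    IsConstructible (badSet R (N := N) M₁ m ∩
      (PrimeSpectrum.basicOpen (MvPolynomial.C f : MvPolynomial (Fin N) R) : Set (PrimeSpectrum (MvPolynomial (Fin N) R)))) := by
  let S := MvPolynomial (Fin N) R
  let P' := MvPolynomial (Fin N) A'
  let M' := P' ⊗[S] M₁
  haveI : Module.Flat A' M' := flat_of_isPushout (R := R) (A' := A') (S := S) (P' := P') M₁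
  haveI : Algebra.FiniteType R A' := IsLocalization.finiteType_of_monoid_fg (Submonoid.powers f) A'
  have hSP : (algebraMap S P').FiniteType := by
    refine RingHom.FiniteType.of_comp_finiteType (f := algebraMap R S) ?_
    rw [← IsScalarTower.algebraMap_eq]
    exact RingHom.finiteType_algebraMap.2 (Algebra.FiniteType.trans (S := A') inferInstance inferInstance)
  haveI : IsNoetherianRing A' := IsLocalization.isNoetherianRing (Submonoid.powers f) A' inferInstance
  haveI : Module.FinitePresentation P' M' := Module.finitePresentation_of_finite P' M'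
  have hcl := isClosed_badSet_of_flat A' (N := N) M' m
  have hcons : IsConstructible (badSet A' (N := N) M' m) :=
    IsConstructible.of_compl
      ((TopologicalSpace.NoetherianSpace.isCompact _).isConstructible hcl.isOpen_compl)
  have himg := PrimeSpectrum.isConstructible_comap_image (RingHom.FinitePresentation.of_finiteType.1 hSP) hcons
  haveI : IsLocalization.Away (MvPolynomial.C f : S) P' := by
    have := MvPolynomial.isLocalization (σ := Fin N) (Submonoid.powers f) A'
    rwa [Submonoid.map_powers] at this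
  have hrange : Set.range (PrimeSpectrum.comap (algebraMap S P')) =
      PrimeSpectrum.basicOpen (MvPolynomial.C f : S) :=
    PrimeSpectrum.localization_away_comap_range P' _
  refine (congrArg IsConstructible (Set.ext fun q => ⟨?_, ?_⟩)).mp himg
  · rintro ⟨q', hq', rfl⟩
    exact ⟨(mem_badSet_bc R M₁ (TensorProduct.isBaseChange S M₁ P') m q').2 hq', hrange.le ⟨q', rfl⟩⟩
  · rintro ⟨hqE, hqf⟩
    obtain ⟨q', rfl⟩ := hrange.ge hqf
    exact ⟨q', (mem_badSet_bc R M₁ (TensorProduct.isBaseChange S M₁ P') m q').1 hqE, rfl⟩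

/-- A constructible stratum over a Noetherian domain, by generic freeness. -/
theorem exists_constructible_stratum (R : Type u) [CommRing R] [IsDomain R] [IsNoetherianRing R] (M₁ : Type u)
    [AddCommGroup M₁] [Module R M₁] [Module (MvPolynomial (Fin N) R) M₁]
    [IsScalarTower R (MvPolynomial (Fin N) R) M₁] [Module.Finite (MvPolynomial (Fin N) R) M₁] (m : ℕ) :
    ∃ f : R, f ≠ 0 ∧ IsConstructible (badSet R (N := N) M₁ m ∩
      (PrimeSpectrum.basicOpen (MvPolynomial.C f : MvPolynomial (Fin N) R) : Set (PrimeSpectrum (MvPolynomial (Fin N) R)))) := by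
  obtain ⟨f, hf0, hfree, -⟩ := FlatH4.exists_free_and_fg_relations (R := R) (S := MvPolynomial (Fin N) R) (M := M₁)
  haveI := hfree (Localization.Away f) (IsLocalization.Away.algebraMap_isUnit _)
  exact ⟨f, hf0, constructible_of_localization R (Localization.Away f) f M₁ m⟩

theorem exists_piece (A R : Type u) [CommRing A] [IsNoetherianRing A] [CommRing R] [Algebra A R] [IsDomain R] [IsNoetherianRing R]
    (hs : Function.Surjective (algebraMap A R)) (M : Type u) [AddCommGroup M]
    [Module (MvPolynomial (Fin N) A) M] [Module.Finite (MvPolynomial (Fin N) A) M] (m : ℕ) :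
    ∃ a : A, algebraMap A R a ≠ 0 ∧ IsConstructible (badSet A (N := N) M m ∩
      (PrimeSpectrum.comap (algebraMap A (MvPolynomial (Fin N) A)) ⁻¹'
          PrimeSpectrum.zeroLocus ((RingHom.ker (algebraMap A R) : Ideal A) : Set A) ∩
        {q | algebraMap A (MvPolynomial (Fin N) A) a ∉ q.asIdeal})) := by
  let P := MvPolynomial (Fin N) A
  let S := MvPolynomial (Fin N) R
  let M₁ := S ⊗[P] M
  haveI : SMulCommClass P R S := ⟨fun x r z => by rw [Algebra.smul_def, Algebra.smul_def, Algebra.smul_def, Algebra.smul_def, mul_left_comm]⟩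
  letI : Module R M₁ := TensorProduct.leftModule
  haveI : IsScalarTower R S M₁ := TensorProduct.isScalarTower_left
  obtain ⟨f, hf0, hstr⟩ := exists_constructible_stratum R M₁ (N := N) m
  obtain ⟨a, rfl⟩ := hs f
  refine ⟨a, hf0, ?_⟩
  have hsurj : Function.Surjective (algebraMap P S) := MvPolynomial.map_surjective _ hs
  have hker : RingHom.ker (algebraMap P S) = (RingHom.ker (algebraMap A R)).map (algebraMap A P) :=
    MvPolynomial.ker_map (algebraMap A R)
  haveI : IsNoetherianRing S := inferInstance
  have hφ : (algebraMap P S).FinitePresentation :=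
    RingHom.FinitePresentation.of_surjective _ hsurj (IsNoetherian.noetherian _)
  have himg := PrimeSpectrum.isConstructible_comap_image hφ hstr
  have hrange : PrimeSpectrum.comap (algebraMap A P) ⁻¹'
      PrimeSpectrum.zeroLocus ((RingHom.ker (algebraMap A R) : Ideal A) : Set A) =
        Set.range (PrimeSpectrum.comap (algebraMap P S)) := by
    rw [range_comap_of_surjective _ _ hsurj]
    ext q
    simp only [Set.mem_preimage, PrimeSpectrum.mem_zeroLocus, SetLike.coe_subset_coe]
    rw [hker, Ideal.map_le_iff_le_comap]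
    rfl
  have key : ∀ q' : PrimeSpectrum S, PrimeSpectrum.comap (algebraMap P S) q' ∈ badSet A (N := N) M m ↔
      q' ∈ badSet R (N := N) M₁ m :=
    fun q' => mem_badSet_bc A M (TensorProduct.isBaseChange P M S) m q'
  have hC : algebraMap P S (algebraMap A P a) = (MvPolynomial.C (algebraMap A R a) : S) :=
    MvPolynomial.map_C _ a
  refine (congrArg IsConstructible (Set.ext fun q => ⟨?_, ?_⟩)).mp himg
  · rintro ⟨q', ⟨hq', h1⟩, rfl⟩
    rw [SetLike.mem_coe, PrimeSpectrum.mem_basicOpen, ← hC] at h1
    exact ⟨(key q').2 hq', hrange.ge ⟨_, rfl⟩, h1⟩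
  · rintro ⟨hqE, hqI, hqa⟩
    obtain ⟨q', rfl⟩ := hrange.le hqI
    refine ⟨q', ⟨(key q').1 hqE, ?_⟩, rfl⟩
    rw [SetLike.mem_coe, PrimeSpectrum.mem_basicOpen, ← hC]
    exact hqa

theorem isConstructible_badSet_noeth (A : Type u) [CommRing A] [IsNoetherianRing A] (M : Type u) [AddCommGroup M]
    [Module (MvPolynomial (Fin N) A) M] [Module.Finite (MvPolynomial (Fin N) A) M] (m : ℕ) :
    IsConstructible (badSet A (N := N) M m) := by
  let P := MvPolynomial (Fin N) A
  let E := badSet A (N := N) M m
  let h : PrimeSpectrum P → PrimeSpectrum A := PrimeSpectrum.comap (algebraMap A P)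
  suffices H : ∀ I : Ideal A, IsConstructible (E ∩ h ⁻¹' PrimeSpectrum.zeroLocus (I : Set A)) by
    have h0 := H ⊥
    rwa [show h ⁻¹' PrimeSpectrum.zeroLocus ((⊥ : Ideal A) : Set A) = Set.univ by
      simp [PrimeSpectrum.zeroLocus_bot], Set.inter_univ] at h0
  intro I
  induction I using (wellFounded_gt (α := Ideal A)).induction with
  | _ I IH =>
  by_cases hI : I.IsPrime
  swap
  · by_cases hI1 : I = ⊤
    · subst hI1
      rw [Submodule.top_coe, PrimeSpectrum.zeroLocus_univ, Set.preimage_empty, Set.inter_empty]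
      exact IsConstructible.empty
    · obtain ⟨a, ha, b, hb, hab⟩ : ∃ a ∉ I, ∃ b ∉ I, a * b ∈ I := by
        by_contra hc
        push_neg at hc
        exact hI ⟨hI1, fun {x y} hxy => or_iff_not_imp_left.2 fun hx => by
          by_contra hy; exact hc x hx y hy hxy⟩
      have heq : h ⁻¹' PrimeSpectrum.zeroLocus (I : Set A) =
          h ⁻¹' PrimeSpectrum.zeroLocus ((I ⊔ Ideal.span {a} : Ideal A) : Set A) ∪
            h ⁻¹' PrimeSpectrum.zeroLocus ((I ⊔ Ideal.span {b} : Ideal A) : Set A) := by
        ext q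
        simp only [Set.mem_preimage, PrimeSpectrum.mem_zeroLocus, Set.mem_union, SetLike.coe_subset_coe,
          sup_le_iff, Ideal.span_le, Set.singleton_subset_iff]
        exact ⟨fun hq => ((h q).2.mem_or_mem (hq hab)).imp (fun h' => ⟨hq, h'⟩) (fun h' => ⟨hq, h'⟩),
          fun h' => h'.elim And.left And.left⟩
      rw [heq, Set.inter_union_distrib_left]
      exact IsConstructible.union
        (IH _ (left_lt_sup.2 fun h' => ha (h' (Ideal.mem_span_singleton_self a))))
        (IH _ (left_lt_sup.2 fun h' => hb (h' (Ideal.mem_span_singleton_self b))))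
  obtain ⟨a, haI, hpiece⟩ := exists_piece (N := N) A (A ⧸ I) Ideal.Quotient.mk_surjective M m
  replace haI : a ∉ I := fun h' => haI (Ideal.Quotient.eq_zero_iff_mem.2 h')
  rw [show RingHom.ker (algebraMap A (A ⧸ I)) = I from Ideal.mk_ker] at hpiece
  have hsub : h ⁻¹' PrimeSpectrum.zeroLocus (I : Set A) =
      (h ⁻¹' PrimeSpectrum.zeroLocus (I : Set A) ∩ {q | algebraMap A P a ∉ q.asIdeal}) ∪
        h ⁻¹' PrimeSpectrum.zeroLocus ((I ⊔ Ideal.span {a} : Ideal A) : Set A) := by
    ext q
    simp only [Set.mem_preimage, PrimeSpectrum.mem_zeroLocus, Set.mem_union, Set.mem_inter_iff,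
      SetLike.coe_subset_coe, Set.mem_setOf_eq, sup_le_iff, Ideal.span_le, Set.singleton_subset_iff]
    by_cases hqa : algebraMap A P a ∈ q.asIdeal
    · exact ⟨fun h' => Or.inr ⟨h', hqa⟩, fun h' => h'.elim (fun h'' => absurd hqa h''.2) And.left⟩
    · exact ⟨fun h' => Or.inl ⟨h', hqa⟩, fun h' => h'.elim And.left And.left⟩
  rw [hsub, Set.inter_union_distrib_left]
  exact IsConstructible.union hpiece (IH _ (left_lt_sup.2 fun h' => haI (h' (Ideal.mem_span_singleton_self a))))

/-- **Constructibility** of the locus where depth plus residual degree is small. -/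
theorem isConstructible_badSet (A : Type u) [CommRing A] (M : Type u) [AddCommGroup M]
    [Module (MvPolynomial (Fin N) A) M] [Module.FinitePresentation (MvPolynomial (Fin N) A) M] (m : ℕ) :
    IsConstructible (badSet A (N := N) M m) := by
  classical
  let P := MvPolynomial (Fin N) A
  obtain ⟨b, ρ, hρ⟩ := Module.Finite.exists_fin' P M
  obtain ⟨e, w, hw⟩ := Submodule.fg_iff_exists_fin_generating_family.1
    (Module.FinitePresentation.fg_ker ρ hρ)
  let C : Set A := ⋃ j : Fin e, ⋃ i : Fin b, ((w j i).coeffs : Set A)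
  have hC : C.Finite := Set.finite_iUnion fun j => Set.finite_iUnion fun i => (w j i).coeffs.finite_toSet
  let R : Subalgebra ℤ A := Algebra.adjoin ℤ C
  haveI : IsNoetherianRing R := isNoetherianRing_of_fg (Subalgebra.fg_def.2 ⟨C, hC, rfl⟩)
  let S := MvPolynomial (Fin N) R
  have hlift : ∀ j i, ∃ p₀ : S, algebraMap S P p₀ = w j i := by
    intro j i
    have h' : w j i ∈ Set.range (MvPolynomial.map (σ := Fin N) (algebraMap R A)) := by
      rw [MvPolynomial.mem_range_map_iff_coeffs_subset]
      exact fun x hx => ⟨⟨x, Algebra.subset_adjoin (Set.mem_iUnion.2 ⟨j, Set.mem_iUnion.2 ⟨i, hx⟩⟩)⟩, rfl⟩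
    exact h'
  choose w₁ hw₁ using hlift
  let K₁ := Submodule.span S (Set.range w₁)
  let M₀ := (Fin b → S) ⧸ K₁
  letI : Module S M := Module.compHom M (algebraMap S P)
  haveI : IsScalarTower S P M := IsScalarTower.of_algebraMap_smul fun _ _ => rfl
  let j₀ : (Fin b → S) →ₗ[S] M := (ρ.restrictScalars S) ∘ₗ (Algebra.linearMap S P).compLeft (Fin b)
  have hj₀ : K₁ ≤ LinearMap.ker j₀ := Submodule.span_le.2 (by
    rintro _ ⟨j, rfl⟩
    show ρ (fun i => algebraMap S P (w₁ j i)) = 0
    rw [show (fun i => algebraMap S P (w₁ j i)) = w j from funext (hw₁ j), ← LinearMap.mem_ker, ← hw]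
    exact Submodule.subset_span ⟨j, rfl⟩)
  let j : M₀ →ₗ[S] M := K₁.liftQ j₀ hj₀
  have hsingle : ∀ i : Fin b, j (Submodule.Quotient.mk (Pi.single i 1)) = ρ (Pi.single i 1) := by
    intro i
    show ρ ((Algebra.linearMap S P).compLeft (Fin b) (Pi.single i 1)) = ρ (Pi.single i 1)
    congr 1
    funext k
    show algebraMap S P ((Pi.single i 1 : Fin b → S) k) = (Pi.single i 1 : Fin b → P) k
    by_cases hk : k = i
    · subst hk; simp
    · simp [hk]
  have hj : IsBaseChange P j := by
    refine IsBaseChange.of_lift_unique _ fun Q _ _ _ _ g => ?_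
    letI : AddCommGroup Q := Module.addCommMonoidToAddCommGroup P
    let G : (Fin b → P) →ₗ[P] Q := (Pi.basisFun P (Fin b)).constr P fun i => g (Submodule.Quotient.mk (Pi.single i 1))
    have hG : ∀ v : Fin b → S, G (fun i => algebraMap S P (v i)) = g (Submodule.Quotient.mk v) := by
      intro v
      have hv : v = ∑ i, v i • (Pi.single i 1 : Fin b → S) := by
        funext k; simp [Pi.single_apply]
      conv_rhs => rw [hv, ← Submodule.mkQ_apply, map_sum, map_sum]
      simp only [G, Module.Basis.constr_apply_fintype, map_smul, Submodule.mkQ_apply, Pi.basisFun_equivFun,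
        LinearEquiv.refl_apply, algebraMap_smul]
    have hker : LinearMap.ker ρ ≤ LinearMap.ker G := by
      rw [← hw, Submodule.span_le]
      rintro _ ⟨j, rfl⟩
      rw [SetLike.mem_coe, LinearMap.mem_ker, ← show (fun i => algebraMap S P (w₁ j i)) = w j from funext (hw₁ j), hG,
        (Submodule.Quotient.mk_eq_zero K₁).2 (Submodule.subset_span ⟨j, rfl⟩), map_zero]
    let g' : M →ₗ[P] Q := ((LinearMap.ker ρ).liftQ G hker) ∘ₗ (ρ.quotKerEquivOfSurjective hρ).symm.toLinearMap
    have hg' : ∀ v, g' (ρ v) = G v := fun v => by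
      show (LinearMap.ker ρ).liftQ G hker ((ρ.quotKerEquivOfSurjective hρ).symm (ρ v)) = G v
      rw [show (ρ.quotKerEquivOfSurjective hρ).symm (ρ v) = Submodule.Quotient.mk v from
        (LinearEquiv.symm_apply_eq _).2 rfl, Submodule.liftQ_apply]
    refine ⟨g', ?_, fun g'' hg'' => ?_⟩
    · refine LinearMap.ext fun z => ?_
      obtain ⟨v, rfl⟩ := Submodule.Quotient.mk_surjective _ z
      exact (hg' _).trans (hG v)
    · refine LinearMap.ext fun z => ?_
      obtain ⟨v, rfl⟩ := hρ z
      refine LinearMap.congr_fun (f := g'' ∘ₗ ρ) (g := g' ∘ₗ ρ) ((Pi.basisFun P (Fin b)).ext fun i => ?_) v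
      have h1 := LinearMap.congr_fun hg'' (Submodule.Quotient.mk (Pi.single i 1))
      simp only [LinearMap.comp_apply, LinearMap.coe_restrictScalars, hsingle] at h1
      rw [LinearMap.comp_apply, LinearMap.comp_apply, hg', Module.Basis.constr_basis, Pi.basisFun_apply]
      exact h1
  haveI : Module.Finite S M₀ := inferInstance
  have h0 := isConstructible_badSet_noeth R (N := N) M₀ m
  have heq : badSet A (N := N) M m = PrimeSpectrum.comap (algebraMap S P) ⁻¹' badSet R (N := N) M₀ m :=
    Set.ext fun q => (mem_badSet_bc R M₀ hj m q).symm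
  obtain ⟨D, hD⟩ := PrimeSpectrum.exists_constructibleSetData_iff.mpr h0
  rw [heq, ← hD, ← PrimeSpectrum.ConstructibleSetData.toSet_map]
  exact PrimeSpectrum.ConstructibleSetData.isConstructible_toSet _

end Groth.Agent.FibDepth5
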