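import Groth.Agent.Lib.FibDepth5.Model
import Groth.Agent.Lib.RegLoc.PD
import Mathlib

/-!
Invariance of the projective dimension of the fibres of a module on affine space under base change.
-/

universe u

open TensorProduct IsLocalRing

attribute [local instance] MvPolynomial.algebraMvPolynomial

namespace Groth.Agent.FibDepth5

open RegLoc

theorem isBaseChange_mkQ {L : Type u} [CommRing L] (I : Ideal L) (N : Type u) [AddCommGroup N] [Module L N] :
    IsBaseChange (L ⧸ I) ((I • ⊤ : Submodule L N).mkQ) := by
  refine IsBaseChange.of_equiv (LinearEquiv.extendScalarsOfSurjective (R := L) (S := L ⧸ I)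
    Ideal.Quotient.mk_surjective (TensorProduct.quotTensorEquivQuotSMul N I)) fun x => ?_
  exact TensorProduct.quotTensorEquivQuotSMul_mk_one_tmul I x

/-- A module into the fibre at a prime. -/
noncomputable def toFib (A : Type u) {P : Type u} [CommRing A] [CommRing P] [Algebra A P] (q : Ideal P)
    [q.IsPrime] (M : Type u) [AddCommGroup M] [Module P M] : M →ₗ[P] EGA4.FibLocMod A P q M :=
  ((Submodule.mkQ _).restrictScalars P) ∘ₗ LocalizedModule.mkLinearMap q.primeCompl M

theorem isBaseChange_toFib (A : Type u) {P : Type u} [CommRing A] [CommRing P] [Algebra A P] (q : Ideal P)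
    [q.IsPrime] (M : Type u) [AddCommGroup M] [Module P M] :
    IsBaseChange (EGA4.FibLocRing A P q) (toFib A q M) :=
  (IsLocalizedModule.isBaseChange q.primeCompl (Localization.AtPrime q)
    (LocalizedModule.mkLinearMap q.primeCompl M)).comp (isBaseChange_mkQ _ _)

/-- Projective dimension is unchanged by faithfully flat extensions. -/
theorem pd_baseChange_iff {R S : Type u} [CommRing R] [CommRing S] [Algebra R S] [Module.FaithfullyFlat R S]
    [IsNoetherianRing R] (j : ℕ) : ∀ (M : Type u) [AddCommGroup M] [Module R M] [Module.Finite R M],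
      PD S (S ⊗[R] M) j ↔ PD R M j := by
  induction j with
  | zero =>
    intro M _ _ _
    refine ⟨pd_of_baseChange S M, fun h => ?_⟩
    rw [pd_zero_iff] at h ⊢
    infer_instance
  | succ j ih =>
    intro M _ _ _
    obtain ⟨m, f, hf⟩ := Module.Finite.exists_fin' R M
    haveI : Module.Finite R f.ker := Module.Finite.iff_fg.2 (IsNoetherian.noetherian _)
    rw [pd_succ_iff f hf, ← ih f.ker, pd_succ_iff (R := S) (f.baseChange S) (LinearMap.lTensor_surjective S hf)]
    have hinj : Function.Injective (f.ker.subtype.baseChange S) :=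
      Module.Flat.lTensor_preserves_injective_linearMap _ f.ker.injective_subtype
    have hex : Function.Exact (f.ker.subtype.baseChange S) (f.baseChange S) :=
      lTensor_exact S (LinearMap.exact_subtype_ker_map f) hf
    exact pd_congr ((LinearEquiv.ofInjective _ hinj).trans (LinearEquiv.ofEq _ _ (LinearMap.exact_iff.1 hex).symm)).symm

variable {A A' : Type u} [CommRing A] [CommRing A'] [Algebra A A'] {N : ℕ}

theorem fib_le (q : Ideal (MvPolynomial (Fin N) A)) [q.IsPrime] (q' : Ideal (MvPolynomial (Fin N) A'))
    [q'.IsPrime] (hq : q = q'.comap (algebraMap (MvPolynomial (Fin N) A) (MvPolynomial (Fin N) A'))) :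
    (q.comap (algebraMap A _)).map (algebraMap A (Localization.AtPrime q)) ≤
      ((q'.comap (algebraMap A' _)).map (algebraMap A' (Localization.AtPrime q'))).comap
        (Localization.localRingHom q q' (algebraMap _ _) hq) := by
  rw [Ideal.map_le_iff_le_comap]
  intro a ha
  have hC : algebraMap (MvPolynomial (Fin N) A) (MvPolynomial (Fin N) A') (algebraMap A _ a) =
      algebraMap A' (MvPolynomial (Fin N) A') (algebraMap A A' a) := MvPolynomial.map_C _ a
  rw [Ideal.mem_comap, Ideal.mem_comap, IsScalarTower.algebraMap_apply A (MvPolynomial (Fin N) A),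
    Localization.localRingHom_to_map, hC, ← IsScalarTower.algebraMap_apply A' (MvPolynomial (Fin N) A')]
  refine Ideal.mem_map_of_mem _ ?_
  rw [Ideal.mem_comap] at ha ⊢
  rw [hq, Ideal.mem_comap, hC] at ha
  exact ha

/-- The map of fibre local rings of affine space. -/
noncomputable def fibHom (q : Ideal (MvPolynomial (Fin N) A)) [q.IsPrime]
    (q' : Ideal (MvPolynomial (Fin N) A')) [q'.IsPrime]
    (hq : q = q'.comap (algebraMap (MvPolynomial (Fin N) A) (MvPolynomial (Fin N) A'))) :
    EGA4.FibLocRing A _ q →+* EGA4.FibLocRing A' _ q' :=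
  Ideal.quotientMap _ (Localization.localRingHom q q' (algebraMap _ _) hq) (fib_le q q' hq)

theorem isLocalHom_fibHom (q : Ideal (MvPolynomial (Fin N) A)) [q.IsPrime]
    (q' : Ideal (MvPolynomial (Fin N) A')) [q'.IsPrime]
    (hq : q = q'.comap (algebraMap (MvPolynomial (Fin N) A) (MvPolynomial (Fin N) A'))) :
    IsLocalHom (fibHom q q' hq) := by
  refine ⟨fun x hx => ?_⟩
  haveI := isLocalRing_fibLocRing (A := A) q
  haveI := isLocalRing_fibLocRing (A := A') q'
  obtain ⟨x, rfl⟩ := Ideal.Quotient.mk_surjective x
  rw [fibHom, Ideal.quotientMap_mk] at hx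
  haveI : IsLocalHom (Ideal.Quotient.mk ((q'.comap (algebraMap A' _)).map
      (algebraMap A' (Localization.AtPrime q')))) := IsLocalHom.of_surjective _ Ideal.Quotient.mk_surjective
  haveI := Localization.isLocalHom_localRingHom q q' (algebraMap _ _) hq
  exact ((isUnit_map_iff (Localization.localRingHom q q' (algebraMap _ _) hq) x).1
    ((isUnit_map_iff (Ideal.Quotient.mk _) _).1 hx)).map _

variable {M : Type u} [AddCommGroup M] [Module (MvPolynomial (Fin N) A) M]
  [Module.Finite (MvPolynomial (Fin N) A) M]
  {M' : Type u} [AddCommGroup M'] [Module (MvPolynomial (Fin N) A) M'] [Module (MvPolynomial (Fin N) A') M']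
  [IsScalarTower (MvPolynomial (Fin N) A) (MvPolynomial (Fin N) A') M'] {j : M →ₗ[MvPolynomial (Fin N) A] M'}

/-- Invariance along a flat map of fibre local rings. -/
theorem bc_of_flat (hj : IsBaseChange (MvPolynomial (Fin N) A') j) (q' : PrimeSpectrum (MvPolynomial (Fin N) A'))
    (hflat : (fibHom (PrimeSpectrum.comap (algebraMap (MvPolynomial (Fin N) A) _) q').asIdeal q'.asIdeal rfl).Flat) :
    (PrimeSpectrum.comap (algebraMap (MvPolynomial (Fin N) A) _) q' ∈ Module.support _ M ↔
        q' ∈ Module.support _ M') ∧
      ∀ i, PDLoc A M i (PrimeSpectrum.comap (algebraMap (MvPolynomial (Fin N) A) _) q') ↔ PDLoc A' M' i q' := by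
  let P := MvPolynomial (Fin N) A
  let P' := MvPolynomial (Fin N) A'
  haveI : Module.Finite P' M' :=
    (Module.Finite.equiv (R := P') hj.equiv)
  let q := (PrimeSpectrum.comap (algebraMap P P') q').asIdeal
  let R := EGA4.FibLocRing A P q
  let R' := EGA4.FibLocRing A' P' q'.asIdeal
  let G := EGA4.FibLocMod A P q M
  let G' := EGA4.FibLocMod A' P' q'.asIdeal M'
  haveI := isLocalRing_fibLocRing (A := A) q
  haveI := isLocalRing_fibLocRing (A := A') q'.asIdeal
  haveI : IsRegularLocalRing R := (affine_invariants A N (PrimeSpectrum.comap (algebraMap P P') q')).1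
  letI : Algebra R R' := (fibHom q q'.asIdeal rfl).toAlgebra
  haveI : Module.Flat R R' := hflat
  haveI : IsLocalHom (algebraMap R R') := isLocalHom_fibHom q q'.asIdeal rfl
  haveI : Module.FaithfullyFlat R R' := Module.FaithfullyFlat.of_flat_of_isLocalHom
  haveI : IsScalarTower P R R' := IsScalarTower.of_algebraMap_eq fun a => by
    show algebraMap P R' a = fibHom q q'.asIdeal rfl (Ideal.Quotient.mk _ (algebraMap P _ a))
    rw [fibHom, Ideal.quotientMap_mk, Localization.localRingHom_to_map]
    exact IsScalarTower.algebraMap_apply P P' R' a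
  haveI : IsScalarTower P' R' G' := inferInstance
  haveI : IsScalarTower P P' G' := inferInstance
  haveI : IsScalarTower P R' G' := IsScalarTower.of_algebraMap_smul fun a z => by
    rw [IsScalarTower.algebraMap_apply P P' R', algebraMap_smul (R := P') (M := G') R' (algebraMap P P' a),
      algebraMap_smul]
  letI : Module R G' := Module.compHom G' (algebraMap R R')
  haveI : IsScalarTower R R' G' := IsScalarTower.of_algebraMap_smul fun _ _ => rfl
  haveI : IsScalarTower P R G' := IsScalarTower.of_algebraMap_smul (R := P) (A := R) (M := G') fun a z => by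
    show algebraMap R R' (algebraMap P R a) • z = a • z
    rw [← IsScalarTower.algebraMap_apply P R R', algebraMap_smul]
  have hc : IsBaseChange R' (((toFib A' q'.asIdeal M').restrictScalars P) ∘ₗ j) :=
    hj.comp (isBaseChange_toFib A' q'.asIdeal M')
  have hι : IsBaseChange R (toFib A q M) := isBaseChange_toFib A q M
  let h : G →ₗ[R] G' := hι.lift (((toFib A' q'.asIdeal M').restrictScalars P) ∘ₗ j)
  have hh : IsBaseChange R' h := by
    refine hι.of_comp ?_
    rw [show (h.restrictScalars P) ∘ₗ toFib A q M = ((toFib A' q'.asIdeal M').restrictScalars P) ∘ₗ j from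
      hι.lift_comp _]
    exact hc
  haveI : Module.Finite R G := Module.Finite.of_restrictScalars_finite (Localization.AtPrime q) _ _
  have hn : Nontrivial G ↔ Nontrivial G' := by
    rw [← hh.equiv.toEquiv.nontrivial_congr, ← not_subsingleton_iff_nontrivial, ← not_subsingleton_iff_nontrivial,
      Module.FaithfullyFlat.subsingleton_tensorProduct_iff_right]
  refine ⟨?_, fun i => ?_⟩
  · exact (nontrivial_fibLocMod_iff q M).symm.trans (hn.trans (nontrivial_fibLocMod_iff q'.asIdeal M'))
  · exact (pd_baseChange_iff (S := R') i G).symm.trans (pd_congr hh.equiv)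

end Groth.Agent.FibDepth5
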