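import Groth.Agent.Lib.FibDim14.Semicont
import Groth.Agent.Lib.FibDim14.Comp

/-!
Fibrewise generizations inside a closed set.
-/

universe u

open CategoryTheory AlgebraicGeometry TopologicalSpace

namespace Groth.Agent.FibDepth5

open FibDim14

variable {X S : Scheme.{u}} (f : X ⟶ S) [LocallyOfFiniteType f]

/-- The points with a generization in the fibre lying in `F` of residual degree at least `n`. -/
def upSet (F : Set X) (n : ℕ) : Set X :=
  {x | ∃ x', x' ⤳ x ∧ f x' = f x ∧ x' ∈ F ∧ n ≤ rd f x'}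

theorem isClosed_upSet {F : Set X} (hF : IsClosed F) (n : ℕ) : IsClosed (upSet f F n) := by
  cases n with
  | zero =>
    refine (congrArg IsClosed (Set.ext fun x => ?_)).mp hF
    exact ⟨fun hx => ⟨x, specializes_rfl, rfl, hx, Nat.zero_le _⟩,
      fun ⟨x', h1, _, h3, _⟩ => h1.mem_closed hF h3⟩
  | succ n =>
    let ι := (Scheme.IdealSheafData.vanishingIdeal ⟨F, hF⟩).subschemeι
    have hr : Set.range ι = F := by
      simp [ι, Scheme.IdealSheafData.range_subschemeι, Scheme.IdealSheafData.coe_support_vanishingIdeal]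
    have hrd : ∀ w, rd (ι ≫ f) w = rd f (ι w) := fun w => by
      rw [rd_comp, rd_of_surjectiveOnStalks (f := ι), add_zero]
    have key : upSet f F (n + 1) =
        ι '' {w | FlatMor.fibreDimAt (ι ≫ f) w ≤ ((n : ℕ) : WithBot ℕ∞)}ᶜ := by
      ext x
      constructor
      · rintro ⟨x', h1, h2, h3, h4⟩
        obtain ⟨w, rfl⟩ := hr.ge (h1.mem_closed hF h3)
        obtain ⟨w', rfl⟩ := hr.ge h3
        refine ⟨w, fun hw => ?_, rfl⟩
        have hsp : w' ⤳ w := ι.isEmbedding.isInducing.specializes_iff.1 h1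
        obtain ⟨a, -, -, ha, hall⟩ := exists_fibreDimAt_eq (ι ≫ f) w
        have := hall w' hsp (by simpa using h2)
        rw [hrd w'] at this
        rw [Set.mem_setOf_eq, ha] at hw
        have hw' : rd (ι ≫ f) a ≤ n := by exact_mod_cast hw
        omega
      · rintro ⟨w, hw, rfl⟩
        obtain ⟨a, ha1, ha2, ha, -⟩ := exists_fibreDimAt_eq (ι ≫ f) w
        rw [Set.mem_compl_iff, Set.mem_setOf_eq, ha] at hw
        refine ⟨ι a, ha1.map ι.continuous, by simpa using ha2, hr.le ⟨a, rfl⟩, ?_⟩
        rw [← hrd]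
        by_contra hlt
        exact hw (by exact_mod_cast (by omega : rd (ι ≫ f) a ≤ n))
    rw [key]
    exact ι.isClosedEmbedding.isClosedMap _ (isOpen_fibreDimAt_le (ι ≫ f) n).isClosed_compl

end Groth.Agent.FibDepth5
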