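import Groth.Agent.Lib.FibDepth5.ConstrLoc
import Groth.Agent.Lib.FibDim14.Compact

/-!
Local constructibility of the codepth of the fibres.
-/

universe u

open CategoryTheory AlgebraicGeometry TopologicalSpace Topology

attribute [local instance] MvPolynomial.algebraMvPolynomial

set_option backward.isDefEq.respectTransparency false

namespace Groth.Agent.FibDepth5

open FibDim14

variable {X Y : Scheme.{u}} (f : X ⟶ Y) [LocallyOfFinitePresentation f]

/-- Depth plus residual degree of the local rings of the fibres. -/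
theorem exists_chart_constructible_ring (x : X) :
    ∃ U : X.Opens, x ∈ U ∧
      ∀ m : ℕ, IsConstructible {u : U | LocCoh.depth (CInt.fiberStalk f u.1) (CInt.fiberStalk f u.1) +
        (rd f u.1 : ℕ∞) ≤ (m : ℕ∞)} := by
  obtain ⟨V, hV, U, hU, e, N, c, hx, hc, hct⟩ := exists_chart f x
  letI := c.toAlgebra
  haveI := finitePresentation_sections_poly f hV hU e c hc hct
  refine ⟨U, hx, fun m => ?_⟩
  obtain ⟨D, hD⟩ := PrimeSpectrum.exists_constructibleSetData_iff.mpr
    (isConstructible_badSet (N := N) Γ(Y, V) Γ(X, U) m)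
  have h1 : IsConstructible (PrimeSpectrum.comap (algebraMap (MvPolynomial (Fin N) Γ(Y, V)) Γ(X, U)) ⁻¹'
      badSet Γ(Y, V) (N := N) Γ(X, U) m) := by
    rw [← hD, ← PrimeSpectrum.ConstructibleSetData.toSet_map]
    exact PrimeSpectrum.ConstructibleSetData.isConstructible_toSet _
  refine (congrArg IsConstructible (Set.ext fun u => ?_)).mp
    (IsConstructible.preimage_of_isOpenEmbedding (f := fun u : U => hU.primeIdealOf u)
      hU.isoSpec.hom.isOpenEmbedding h1)
  show chartPrime hU (MvPolynomial (Fin N) Γ(Y, V)) u.2 ∈ badSet Γ(Y, V) (N := N) Γ(X, U) m ↔ _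
  rw [← depth_rd_le_iff_mem_badSet, Set.mem_setOf_eq,
    (fibre_bridge_self f hV hU e _ hc hct u.2).1, ← rd_chartMap f hV hU e N hc hct u]
  rfl

theorem isLocallyConstructible_ring_depth_rd_eq (n : ℕ) :
    IsLocallyConstructible {x : X | LocCoh.depth (CInt.fiberStalk f x) (CInt.fiberStalk f x) +
      (rd f x : ℕ∞) = (n : ℕ∞)} := by
  intro x
  obtain ⟨U, hx, hle⟩ := exists_chart_constructible_ring f x
  refine ⟨U, U.2.mem_nhds hx, U.2, ?_⟩
  cases n with
  | zero =>
    refine (congrArg IsConstructible (Set.ext fun u => ?_)).mp (hle 0)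
    show _ + (rd f u.1 : ℕ∞) ≤ ((0 : ℕ) : ℕ∞) ↔ LocCoh.depth _ _ + (rd f u.1 : ℕ∞) = ((0 : ℕ) : ℕ∞)
    rw [Nat.cast_zero, nonpos_iff_eq_zero]
  | succ n =>
    refine (congrArg IsConstructible (Set.ext fun u => ?_)).mp ((hle (n + 1)).sdiff (hle n))
    show LocCoh.depth (CInt.fiberStalk f u.1) (CInt.fiberStalk f u.1) + (rd f u.1 : ℕ∞) ≤ ((n + 1 : ℕ) : ℕ∞) ∧
        ¬ LocCoh.depth (CInt.fiberStalk f u.1) (CInt.fiberStalk f u.1) + (rd f u.1 : ℕ∞) ≤ (n : ℕ∞) ↔
        LocCoh.depth (CInt.fiberStalk f u.1) (CInt.fiberStalk f u.1) + (rd f u.1 : ℕ∞) = ((n + 1 : ℕ) : ℕ∞)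
    generalize LocCoh.depth (CInt.fiberStalk f u.1) (CInt.fiberStalk f u.1) = d
    induction d using ENat.recTopCoe with
    | top =>
      rw [top_add]
      exact iff_of_false (fun h => ENat.natCast_ne_top _ (top_le_iff.1 h.1)) fun h => ENat.natCast_ne_top _ h.symm
    | coe d =>
      rw [← ENat.coe_add, Nat.cast_le, Nat.cast_le, Nat.cast_inj]
      omega

theorem isLocallyConstructible_fibreDimAt_le (n : ℕ) :
    IsLocallyConstructible {x : X | FlatMor.fibreDimAt f x ≤ (n : WithBot ℕ∞)} :=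
  ((isRetrocompact_fibreDimAt_le f n).isConstructible (isOpen_fibreDimAt_le f n)).isLocallyConstructible

theorem isLocallyConstructible_fibreDimAt_eq (n : ℕ) :
    IsLocallyConstructible {x : X | FlatMor.fibreDimAt f x = (n : WithBot ℕ∞)} := by
  have h : IsConstructible {x : X | FlatMor.fibreDimAt f x ≤ (n : WithBot ℕ∞)} :=
    (isRetrocompact_fibreDimAt_le f n).isConstructible (isOpen_fibreDimAt_le f n)
  cases n with
  | zero =>
    refine (congrArg IsLocallyConstructible (Set.ext fun x => ?_)).mp h.isLocallyConstructible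
    obtain ⟨x', -, -, hx', -⟩ := exists_fibreDimAt_eq f x
    show FlatMor.fibreDimAt f x ≤ _ ↔ FlatMor.fibreDimAt f x = _
    rw [hx']
    constructor
    · intro h'
      have : rd f x' ≤ 0 := by exact_mod_cast h'
      exact_mod_cast Nat.le_zero.1 this
    · exact le_of_eq
  | succ n =>
    refine (congrArg IsLocallyConstructible (Set.ext fun x => ?_)).mp
      (h.sdiff ((isRetrocompact_fibreDimAt_le f n).isConstructible (isOpen_fibreDimAt_le f n))).isLocallyConstructible
    obtain ⟨x', -, -, hx', -⟩ := exists_fibreDimAt_eq f x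
    show FlatMor.fibreDimAt f x ≤ _ ∧ ¬ FlatMor.fibreDimAt f x ≤ _ ↔ FlatMor.fibreDimAt f x = _
    rw [hx']
    constructor
    · rintro ⟨h1, h2⟩
      have h1' : rd f x' ≤ n + 1 := by exact_mod_cast h1
      have h2' : ¬ rd f x' ≤ n := fun h3 => h2 (by exact_mod_cast h3)
      exact_mod_cast (by omega : rd f x' = n + 1)
    · intro h1
      have h1' : rd f x' = n + 1 := by exact_mod_cast h1
      exact ⟨h1.le, fun h2 => by have : rd f x' ≤ n := by exact_mod_cast h2
                                 omega⟩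

theorem exists_fibre_stalk_dim (x : X) :
    ∃ b : ℕ, ringKrullDim (CInt.fiberStalk f x) = (b : WithBot ℕ∞) ∧
      FlatMor.fibreDimAt f x = ((rd f x + b : ℕ) : WithBot ℕ∞) := by
  obtain ⟨b, hb, hb'⟩ := CMEquiDim4.exists_stalk_dim (toPt f (f x)) (f.asFiber x)
  refine ⟨b, hb, ?_⟩
  rw [← rd_fiberι, f.fiberι_asFiber] at hb'
  exact hb'

/-- **Local constructibility** of the codepth of the fibres. -/
theorem isLocallyConstructible_codepth_eq (n : ℕ) :
    IsLocallyConstructible {x : X | ringKrullDim (CInt.fiberStalk f x) =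
      ((LocCoh.depth (CInt.fiberStalk f x) (CInt.fiberStalk f x) : ℕ∞) : WithBot ℕ∞) + n} := by
  let W : ℕ → X.Opens := fun K => ⟨_, isOpen_fibreDimAt_le f K⟩
  have hW : IsOpenCover W := by
    refine eq_top_iff.2 fun x _ => Opens.mem_iSup.2 ?_
    obtain ⟨x', -, -, h', -⟩ := exists_fibreDimAt_eq f x
    exact ⟨rd f x', h'.le⟩
  refine IsLocallyConstructible.of_isOpenCover hW fun K => ?_
  have hL : IsLocallyConstructible (⋃ m ∈ (Finset.range (K + 1) : Set ℕ),
      {x : X | LocCoh.depth (CInt.fiberStalk f x) (CInt.fiberStalk f x) + (rd f x : ℕ∞) = (m : ℕ∞)} ∩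
        {x : X | FlatMor.fibreDimAt f x = ((m + n : ℕ) : WithBot ℕ∞)}) :=
    IsLocallyConstructible.biUnion (Finset.finite_toSet _) fun m _ =>
      (isLocallyConstructible_ring_depth_rd_eq f m).inter (isLocallyConstructible_fibreDimAt_eq f _)
  refine (congrArg IsLocallyConstructible (Set.ext fun u => ?_)).mp
    (hL.preimage_of_isOpenEmbedding (W K).2.isOpenEmbedding_subtypeVal)
  obtain ⟨b, hb, hb'⟩ := exists_fibre_stalk_dim f u.1
  have hK : FlatMor.fibreDimAt f u.1 ≤ (K : WithBot ℕ∞) := u.2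
  rw [hb'] at hK
  have hK' : rd f u.1 + b ≤ K := by exact_mod_cast hK
  show u.1 ∈ (⋃ m ∈ (Finset.range (K + 1) : Set ℕ), _) ↔ ringKrullDim (CInt.fiberStalk f u.1) =
      ((LocCoh.depth (CInt.fiberStalk f u.1) (CInt.fiberStalk f u.1) : ℕ∞) : WithBot ℕ∞) + n
  simp only [Set.mem_iUnion, Finset.coe_range, Set.mem_Iio, Set.mem_inter_iff, Set.mem_setOf_eq, hb, hb']
  constructor
  · rintro ⟨m, -, h1, h2⟩
    have h2' : rd f u.1 + b = m + n := by exact_mod_cast h2
    revert h1
    generalize LocCoh.depth (CInt.fiberStalk f u.1) (CInt.fiberStalk f u.1) = d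
    induction d using ENat.recTopCoe with
    | top => intro h1; rw [top_add] at h1; exact absurd h1.symm (ENat.natCast_ne_top m)
    | coe d =>
      intro h1
      have h1' : d + rd f u.1 = m := by exact_mod_cast h1
      exact_mod_cast (by omega : b = d + n)
  · generalize LocCoh.depth (CInt.fiberStalk f u.1) (CInt.fiberStalk f u.1) = d
    induction d using ENat.recTopCoe with
    | top =>
      intro h1
      rw [show (((⊤ : ℕ∞) : WithBot ℕ∞) + (n : WithBot ℕ∞)) = (((⊤ : ℕ∞) + (n : ℕ∞) : ℕ∞) : WithBot ℕ∞) by norm_cast, top_add] at h1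
      exact absurd (WithBot.coe_inj.1 h1) (ENat.natCast_ne_top b)
    | coe d =>
      intro h1
      have h1' : b = d + n := by exact_mod_cast h1
      exact ⟨d + rd f u.1, by omega, by norm_cast, by exact_mod_cast (by omega : rd f u.1 + b = d + rd f u.1 + n)⟩

end Groth.Agent.FibDepth5
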