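import Groth.Agent.Lib.FibDepth5.Ass
import Groth.Agent.Lib.FibDepth5.SuppOpen

/-!
Dimensions of the components of the support of the fibres.
-/

universe u

open CategoryTheory AlgebraicGeometry TopologicalSpace Topology

set_option backward.isDefEq.respectTransparency false

namespace Groth.Agent.FibDepth5

open FibDim14

variable {X Y : Scheme.{u}} (f : X ⟶ Y) (F : X.Modules) [LocallyOfFinitePresentation f]
variable (hF : CohB1.IsFP F) (hflat : FlatMod.IsFlatOver f F)

include hF hflat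

/-- The support of a flat module maps openly to the base. -/
theorem isOpen_image_fibSupp_inter (W : X.Opens) : IsOpen (f '' (fibSupp f F ∩ W)) := by
  haveI := M1.isFP_isQCoh hF
  refine isOpen_iff_forall_mem_open.2 ?_
  rintro _ ⟨x, ⟨hxT, hxW⟩, rfl⟩
  obtain ⟨V, hV, U, hU, e, N, c, hx, hc, hct⟩ := exists_chart f x
  letI := c.toAlgebra
  letI : Module (MvPolynomial (Fin N) Γ(Y, V)) Γ(F, U) := Module.compHom _ c
  haveI : IsScalarTower (MvPolynomial (Fin N) Γ(Y, V)) Γ(X, U) Γ(F, U) :=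
    IsScalarTower.of_algebraMap_smul fun _ _ => rfl
  letI := FlatH4.secModuleOver f F V U e
  haveI : IsScalarTower Γ(Y, V) (MvPolynomial (Fin N) Γ(Y, V)) Γ(F, U) :=
    IsScalarTower.of_algebraMap_smul fun r z => by
      show c (algebraMap Γ(Y, V) _ r) • z = f.appLE V U e r • z
      rw [← RingHom.comp_apply, hct]
  haveI := finitePresentation_sections_poly f hV hU e c hc hct
  haveI := M1.finitePresentation_sections hF hU
  haveI : Module.FinitePresentation (MvPolynomial (Fin N) Γ(Y, V)) Γ(F, U) :=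
    Module.FinitePresentation.trans _ _ Γ(X, U)
  haveI := flat_sections f F hflat hV hU e
  let φ : U → PrimeSpectrum (MvPolynomial (Fin N) Γ(Y, V)) := chartMap hU N (V := V)
  obtain ⟨O, hO, hOW⟩ := (isEmbedding_chartMap hU N hc (V := V)).isInducing.isOpen_iff.1
    (W.2.preimage (continuous_subtype_val : Continuous (Subtype.val : U → X)))
  have hxO : φ ⟨x, hx⟩ ∈ O := by
    show (⟨x, hx⟩ : U) ∈ φ ⁻¹' O
    rw [hOW]; exact hxW
  obtain ⟨_, ⟨_, ⟨r, rfl⟩, rfl⟩, hxr, hrO⟩ := PrimeSpectrum.isBasis_basic_opens.exists_subset_of_mem_open hxO hO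
  have hfu : ∀ u : U, f u.1 =
      hV.fromSpec (PrimeSpectrum.comap (algebraMap Γ(Y, V) (MvPolynomial (Fin N) Γ(Y, V))) (φ u)) := by
    intro u
    have h1 : PrimeSpectrum.comap (algebraMap Γ(Y, V) (MvPolynomial (Fin N) Γ(Y, V))) (φ u) =
        hV.primeIdealOf ⟨f u.1, e u.2⟩ := by
      rw [← IsAffineOpen.comap_primeIdealOf_appLE V hV U hU e u.2, ← hct]
      rfl
    rw [h1, hV.fromSpec_primeIdealOf]
  refine ⟨hV.fromSpec '' (PrimeSpectrum.comap (algebraMap Γ(Y, V) (MvPolynomial (Fin N) Γ(Y, V))) ''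
      (Module.support (MvPolynomial (Fin N) Γ(Y, V)) Γ(F, U) ∩ PrimeSpectrum.basicOpen r)), ?_,
    hV.fromSpec.isOpenEmbedding.isOpenMap _ (isOpen_image_support_inter Γ(F, U) r), ?_⟩
  · rintro _ ⟨_, ⟨q, ⟨hq, hqr⟩, rfl⟩, rfl⟩
    obtain ⟨u, rfl⟩ : q ∈ Set.range φ := by
      rw [range_chartMap hU N hc]
      rw [Module.support_eq_zeroLocus] at hq
      refine PrimeSpectrum.zeroLocus_anti_mono (fun a ha => Module.mem_annihilator.2 fun z => ?_) hq
      show c a • z = 0
      rw [show c a = 0 from ha, zero_smul]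
    refine ⟨u.1, ⟨(fibre_bridge f hV hU e _ hc hct u.2 F).2.2.1.2 hq, ?_⟩, hfu u⟩
    show u ∈ Subtype.val ⁻¹' W.carrier
    rw [← hOW]
    exact hrO hqr
  · exact ⟨_, ⟨φ ⟨x, hx⟩, ⟨(fibre_bridge f hV hU e _ hc hct hx F).2.2.1.1 hxT, hxr⟩, rfl⟩,
      (hfu ⟨x, hx⟩).symm⟩

/-- `η` is a generic point of a component of the support of its fibre. -/
def IsMaxSupp (η : X) : Prop :=
  η ∈ fibSupp f F ∧ ∀ η', η' ⤳ η → f η' = f η → η' ∈ fibSupp f F → η' = η

theorem isMaxSupp_iff {η : X} :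
    IsMaxSupp f F η ↔ η ∈ fibSupp f F ∧ fibDim f F η = (0 : ℕ) := by
  obtain ⟨h, -⟩ := fibData_mod f F hF hflat
  constructor
  · rintro ⟨hη, hmax⟩
    obtain ⟨b, δ, hb, hδ, -, x', hx', hx'T, he, hr⟩ := h.dim_rd η hη
    obtain rfl := hmax x' hx' he hx'T
    exact ⟨hη, by rw [hb, show b = 0 by omega]⟩
  · rintro ⟨hη, h0⟩
    refine ⟨hη, fun η' hη' he hT => ?_⟩
    by_contra hne
    obtain ⟨b, δ, hb, hδ, hall, -⟩ := h.dim_rd η hη
    obtain rfl : b = 0 := by rw [h0] at hb; exact_mod_cast hb.symm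
    have h1 := rd_lt_of_specializes f hη' hne he
    have h2 := hall η' hη' hT he
    omega

theorem setOf_nontrivial_eq (y : Y) :
    {z : ↥(f.fiber y) | Nontrivial (((Scheme.Modules.pullback (f.fiberι y)).obj F).presheaf.stalk z)} =
      f.fiberι y ⁻¹' fibSupp f F :=
  Set.ext fun z => fib_pt_rec f
    (P := fun y z => Nontrivial (((Scheme.Modules.pullback (f.fiberι y)).obj F).presheaf.stalk z))
    (Q := fun x => x ∈ fibSupp f F) (fun _ => Iff.rfl) y z

theorem isClosed_setOf_nontrivial (y : Y) : IsClosed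
    {z : ↥(f.fiber y) | Nontrivial (((Scheme.Modules.pullback (f.fiberι y)).obj F).presheaf.stalk z)} := by
  rw [setOf_nontrivial_eq f F hF hflat y]
  exact (fibData_mod f F hF hflat).1.closed_T.preimage (f.fiberι y).continuous

theorem exists_component_iff (y : Y) (n : ℕ) :
    (∃ Z ∈ irreducibleComponents ↥{z : ↥(f.fiber y) |
        Nontrivial (((Scheme.Modules.pullback (f.fiberι y)).obj F).presheaf.stalk z)},
      topologicalKrullDim ↥Z = (n : WithBot ℕ∞)) ↔
    ∃ η, f η = y ∧ IsMaxSupp f F η ∧ rd f η = n := by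
  set Ty := {z : ↥(f.fiber y) | Nontrivial (((Scheme.Modules.pullback (f.fiberι y)).obj F).presheaf.stalk z)}
    with hTy
  have hcl : IsClosed Ty := isClosed_setOf_nontrivial f F hF hflat y
  haveI : QuasiSober Ty := hcl.isClosedEmbedding_subtypeVal.quasiSober
  have hmem : ∀ z, z ∈ Ty ↔ f.fiberι y z ∈ fibSupp f F := fun z => by
    rw [hTy, setOf_nontrivial_eq f F hF hflat y]; rfl
  have hy : ∀ z, f (f.fiberι y z) = y := fun z => (Scheme.Hom.range_fiberι f y).le ⟨z, rfl⟩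
  have hdim : ∀ w : Ty, topologicalKrullDim ↥(closure ({w} : Set Ty)) = (rd f (f.fiberι y w.1) : WithBot ℕ∞) := by
    intro w
    rw [DimF18.topologicalKrullDim_eq_of_homeo (e := (Subtype.val : Ty → f.fiber y)) IsEmbedding.subtypeVal,
      ← hcl.isClosedEmbedding_subtypeVal.closure_image_eq, Set.image_singleton]
    exact topologicalKrullDim_closure_eq_rd f y w.1
  constructor
  · rintro ⟨Z, hZ, hd⟩
    obtain ⟨w, hw⟩ := QuasiSober.sober hZ.1 (isClosed_of_mem_irreducibleComponents Z hZ)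
    refine ⟨f.fiberι y w.1, hy _, ⟨(hmem _).1 w.2, fun η' h1 h2 h3 => ?_⟩, ?_⟩
    · obtain ⟨v, rfl⟩ : η' ∈ Set.range (f.fiberι y) := by
        rw [f.range_fiberι]; exact h2.trans (hy _)
      let v' : Ty := ⟨v, (hmem v).2 h3⟩
      have hvw : v' ⤳ w :=
        (subtype_specializes_iff v' w).2 ((f.fiberι y).isEmbedding.isInducing.specializes_iff.1 h1)
      have hsub : Z ⊆ closure {v'} := hw ▸ hvw.closure_subset
      have hwv : w ⤳ v' := specializes_iff_mem_closure.2 (by
        rw [show closure ({w} : Set Ty) = Z from hw]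
        exact hZ.2 isIrreducible_singleton.closure hsub (subset_closure rfl))
      have hwv' : w.1 ⤳ v := (subtype_specializes_iff w v').1 hwv
      exact congrArg (f.fiberι y) (((subtype_specializes_iff v' w).1 hvw).antisymm hwv').eq
    · rw [← show closure ({w} : Set Ty) = Z from hw, hdim] at hd
      exact_mod_cast hd
  · rintro ⟨η, hη, ⟨hηT, hmax⟩, hr⟩
    obtain ⟨v, rfl⟩ : η ∈ Set.range (f.fiberι y) := by rw [f.range_fiberι]; exact hη
    let w : Ty := ⟨v, (hmem v).2 hηT⟩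
    refine ⟨closure {w}, ⟨isIrreducible_singleton.closure, fun Z hZ hle => ?_⟩, (hdim w).trans (by rw [hr])⟩
    obtain ⟨z, hz⟩ := QuasiSober.sober hZ.closure isClosed_closure
    have hzw : z ⤳ w := hz.specializes (subset_closure (hle (subset_closure rfl)))
    have h2 := hmax (f.fiberι y z.1) (((subtype_specializes_iff z w).1 hzw).map (f.fiberι y).continuous)
      ((hy _).trans (hy _).symm) ((hmem _).1 z.2)
    have h3 : z = w := Subtype.ext ((f.fiberι y).isEmbedding.injective h2)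
    rw [← h3, show closure ({z} : Set Ty) = closure Z from hz]
    exact subset_closure

/-- **Fibres having a component of the support of given dimension form an open set.** -/
theorem isOpen_exists_component (n : ℕ) : IsOpen {y : Y | ∃ η, f η = y ∧ IsMaxSupp f F η ∧ rd f η = n} := by
  obtain ⟨h, -⟩ := fibData_mod f F hF hflat
  let C : Set X := {x | ∃ m : ℕ, m + 1 = n ∧ CInt.fiberDepth f F x + (rd f x : ℕ∞) ≤ (m : ℕ∞)}
  have hC : IsClosed C := by
    cases n with
    | zero => simp [C]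
    | succ n =>
      refine (congrArg IsClosed (Set.ext fun x => ?_)).mp (h.closed_E n)
      refine ⟨fun hx => ⟨n, rfl, hx⟩, ?_⟩
      rintro ⟨m, hm, hx⟩
      obtain rfl : m = n := by omega
      exact hx
  let W : X.Opens := ⟨Cᶜ ∩ (upSet f (fibSupp f F) (n + 1))ᶜ,
    hC.isOpen_compl.inter (h.isClosed_upSet_T _).isOpen_compl⟩
  refine isOpen_iff_forall_mem_open.2 ?_
  rintro _ ⟨η, rfl, hη, hr⟩
  obtain ⟨hηT, hb⟩ := (isMaxSupp_iff f F hF hflat).1 hη
  refine ⟨f '' (fibSupp f F ∩ W), ?_, isOpen_image_fibSupp_inter f F hF hflat W, ?_⟩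
  pick_goal 2
  · refine Set.mem_image_of_mem f (show η ∈ fibSupp f F ∧ η ∈ Cᶜ ∧ η ∈ (upSet f (fibSupp f F) (n + 1))ᶜ from ⟨hηT, ?_, ?_⟩)
    · rintro ⟨m, hm, hle⟩
      obtain ⟨-, d, -, h1⟩ := (h.mem_E).1 hle
      omega
    · intro hc
      have := (h.mem_upSet_T hηT hb).1 hc
      omega
  · rintro _ ⟨x, ⟨hxT, hxC, hxU⟩, rfl⟩
    obtain ⟨d, hd, hle⟩ := h.le_S x hxT
    obtain ⟨b, δ, hbx, hδ, hall, x'', hx'', hx''T, he, hr''⟩ := h.dim_rd x hxT
    rw [hbx] at hle
    have hdb : d ≤ b := by exact_mod_cast hle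
    have h1 : δ < n + 1 := by
      by_contra hc
      exact hxU ((h.mem_upSet_T hxT hbx).2 (by omega))
    have h2 : n ≤ d + rd f x := by
      by_contra hc
      exact hxC ⟨n - 1, by omega, (h.mem_E).2 ⟨hxT, d, hd, by omega⟩⟩
    obtain ⟨b'', δ'', hb'', hδ'', -, w, hw, hwT, hwe, hwr⟩ := h.dim_rd x'' hx''T
    have h3 := hall w (hw.trans hx'') hwT (hwe.trans he)
    exact ⟨x'', he, (isMaxSupp_iff f F hF hflat).2 ⟨hx''T, by rw [hb'', show b'' = 0 by omega]⟩, by omega⟩

theorem isOpen_supportComponentDims_supset (Φ : Finset ℕ) :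
    IsOpen {y : Y | ∀ n ∈ Φ, ∃ Z ∈ irreducibleComponents ↥{z : ↥(f.fiber y) |
        Nontrivial (((Scheme.Modules.pullback (f.fiberι y)).obj F).presheaf.stalk z)},
      topologicalKrullDim ↥Z = (n : WithBot ℕ∞)} := by
  have hs : IsOpen (⋂ n ∈ Φ, {y : Y | ∃ η, f η = y ∧ IsMaxSupp f F η ∧ rd f η = n}) :=
    isOpen_biInter_finset fun n _ => isOpen_exists_component f F hF hflat n
  refine (congrArg IsOpen (Set.ext fun y => ?_)).mp hs
  simp only [Set.mem_iInter, Set.mem_setOf_eq]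
  exact forall₂_congr fun n _ => (exists_component_iff f F hF hflat y n).symm

theorem assoc_of_isMaxSupp {η : X} (hη : IsMaxSupp f F η) : CInt.fiberDepth f F η = 0 := by
  obtain ⟨hT, h0⟩ := (isMaxSupp_iff f F hF hflat).1 hη
  exact (fibData_mod f F hF hflat).1.assoc_of_S_eq_zero hT h0

theorem topologicalKrullDim_supp (y : Y) :
    topologicalKrullDim ↥{z : ↥(f.fiber y) |
        Nontrivial (((Scheme.Modules.pullback (f.fiberι y)).obj F).presheaf.stalk z)} =
      ⨆ x : {x : X // f x = y ∧ x ∈ fibSupp f F}, (rd f x.1 : WithBot ℕ∞) := by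
  have hcl := isClosed_setOf_nontrivial f F hF hflat y
  rw [VarDim.topologicalKrullDim_isClosed_eq_iSup_height hcl]
  have hy : ∀ z, f (f.fiberι y z) = y := fun z => (Scheme.Hom.range_fiberι f y).le ⟨z, rfl⟩
  refine le_antisymm (iSup_le fun z => ?_) (iSup_le fun ⟨x, hx, hxT⟩ => ?_)
  · refine le_iSup_of_le ⟨f.fiberι y z.1, hy _, (setOf_nontrivial_eq f F hF hflat y).le z.2⟩ (le_of_eq ?_)
    rw [VarDim.height_eq_sdim (toPt f y) z.1, rd_fiberι]
    rfl
  · obtain ⟨v, rfl⟩ : x ∈ Set.range (f.fiberι y) := by rw [f.range_fiberι]; exact hx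
    refine le_iSup_of_le ⟨v, (setOf_nontrivial_eq f F hF hflat y).ge hxT⟩ (le_of_eq ?_)
    rw [VarDim.height_eq_sdim (toPt f y) v, rd_fiberι]
    rfl

end Groth.Agent.FibDepth5
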