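import Groth.Agent.Lib.FibDepth5.Apps
import Groth.Agent.Lib.FibreCM5.Constr

/-!
Constructibility of loci of fibres defined by a property of local rings which is invariant under field
extensions and open on flat morphisms.
-/

universe u

open CategoryTheory CategoryTheory.Limits AlgebraicGeometry TopologicalSpace Topology
open scoped TensorProduct

namespace Groth.Agent.FibDepth5.Ring

open FibreLocus

theorem stalk_of_eq {Q : ∀ (R : Type u) [CommRing R] [IsLocalRing R], Prop}
    (hQ : ∀ (R R' : Type u) [CommRing R] [IsLocalRing R] [CommRing R'] [IsLocalRing R'], (R ≃+* R') → Q R → Q R')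
    {X : Scheme.{u}} {a b : X} (e : a = b) (h : Q (X.presheaf.stalk a)) : Q (X.presheaf.stalk b) := by
  subst e; exact h

variable {Q : ∀ (R : Type u) [CommRing R] [IsLocalRing R], Prop}
variable (hQ : ∀ (R R' : Type u) [CommRing R] [IsLocalRing R] [CommRing R'] [IsLocalRing R'], (R ≃+* R') → Q R → Q R')
variable (hfield : ∀ {k : Type u} [Field k] (S : Type u) [CommRing S] [Algebra k S] [IsNoetherianRing S]
  (K : Type u) [Field K] [Algebra k K] [IsNoetherianRing (S ⊗[k] K)] (q : Ideal (S ⊗[k] K)) [q.IsPrime],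
  Q (Localization.AtPrime q) ↔ Q (Localization.AtPrime (q.comap (algebraMap S (S ⊗[k] K)))))
variable (hopen : ∀ {W Y : Scheme.{u}} (g : W ⟶ Y) [Flat g] [LocallyOfFinitePresentation g],
  IsOpen {w : W | Q (CInt.fiberStalk g w)})

include hQ

theorem qq_stalk_openImmersion_iff {U X : Scheme.{u}} (j : U ⟶ X) [IsOpenImmersion j] (x : U) :
    Q (U.presheaf.stalk x) ↔
      Q (X.presheaf.stalk (j x)) :=
  ⟨hQ _ _ (asIso (j.stalkMap x)).commRingCatIsoToRingEquiv.symm,
    hQ _ _ (asIso (j.stalkMap x)).commRingCatIsoToRingEquiv⟩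

theorem qq_stalk_Spec_iff (R : Type u) [CommRing R] (p : Spec (CommRingCat.of R)) :
    Q ((Spec (CommRingCat.of R)).presheaf.stalk p) ↔
      Q (Localization.AtPrime (show PrimeSpectrum R from p).asIdeal) :=
  ⟨hQ _ _ (StructureSheaf.stalkIso R p).symm.toRingEquiv,
    hQ _ _ (StructureSheaf.stalkIso R p).toRingEquiv⟩

include hfield

/-- Field extensions of a scheme locally of finite type over a field. -/
theorem qq_stalk_field_bc_iff {k K : Type u} [Field k] [Field K] (φ : k →+* K) {Z Z' : Scheme.{u}}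
    {pr : Z' ⟶ Z} {t' : Z' ⟶ Spec (CommRingCat.of K)} {t : Z ⟶ Spec (CommRingCat.of k)}
    [LocallyOfFiniteType t] (sq : IsPullback pr t' t (Spec.map (CommRingCat.ofHom φ))) (w : Z') :
    Q (Z'.presheaf.stalk w) ↔
      Q (Z.presheaf.stalk (pr w)) := by
  obtain ⟨_, ⟨U, hU, rfl⟩, hwU, -⟩ :=
    Z.isBasis_affineOpens.exists_subset_of_mem_open (Set.mem_univ (pr w)) isOpen_univ
  revert U
  intro (U : Z.Opens) hU hwU
  let A : Type u := Γ(Z, U)
  let j : Spec (CommRingCat.of A) ⟶ Z := hU.fromSpec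
  let ψ : CommRingCat.of k ⟶ CommRingCat.of A := Spec.preimage (j ≫ t)
  have hψ : Spec.map ψ = j ≫ t := Spec.map_preimage _
  letI : Algebra k A := ψ.hom.toAlgebra
  letI : Algebra k K := φ.toAlgebra
  haveI : LocallyOfFiniteType (Spec.map ψ) := hψ ▸ inferInstance
  have hft : ψ.hom.FiniteType := (HasRingHomProperty.Spec_iff (P := @LocallyOfFiniteType)).1 ‹_›
  haveI : Algebra.FiniteType k A := hft
  obtain ⟨u₀, hu₀⟩ : pr w ∈ Set.range j := by rw [hU.range_fromSpec]; exact hwU
  have h1 : IsPullback (pullback.fst j pr) (pullback.snd j pr ≫ t') (Spec.map ψ)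
      (Spec.map (CommRingCat.ofHom φ)) := by
    rw [hψ]
    exact ((IsPullback.of_hasPullback j pr).flip.paste_horiz sq.flip).flip
  have h2 : IsPullback (Spec.map (CommRingCat.ofHom (algebraMap A (A ⊗[k] K))))
      (Spec.map (CommRingCat.ofHom (Algebra.TensorProduct.includeRight (R := k) (A := A) (B := K)).toRingHom))
      (Spec.map ψ) (Spec.map (CommRingCat.ofHom φ)) := by
    have := (FibreLocus.isPullback_specT_tensor k A K).flip
    exact this
  haveI : IsNoetherianRing A := Algebra.FiniteType.isNoetherianRing k A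
  haveI : IsNoetherianRing (K ⊗[k] A) := Algebra.FiniteType.isNoetherianRing K _
  haveI : IsNoetherianRing (A ⊗[k] K) :=
    isNoetherianRing_of_ringEquiv (K ⊗[k] A) (Algebra.TensorProduct.comm k K A).toRingEquiv
  let e := IsPullback.isoIsPullback _ _ h1 h2
  have he : e.hom ≫ Spec.map (CommRingCat.ofHom (algebraMap A (A ⊗[k] K))) = pullback.fst j pr :=
    IsPullback.isoIsPullback_hom_fst _ _ h1 h2
  obtain ⟨z, hz1, hz2⟩ := Scheme.Pullback.exists_preimage_pullback (f := j) (g := pr) u₀ w hu₀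
  have hq : Spec.map (CommRingCat.ofHom (algebraMap A (A ⊗[k] K))) (e.hom z) = u₀ := by
    rw [← Scheme.Hom.comp_apply, he, hz1]
  haveI : IsOpenImmersion (pullback.snd j pr) := inferInstance
  rw [← hz2, ← qq_stalk_openImmersion_iff hQ (pullback.snd j pr), qq_stalk_openImmersion_iff hQ e.hom,
    qq_stalk_Spec_iff hQ, hfield A K, hz2, ← hu₀, ← qq_stalk_openImmersion_iff hQ j,
    qq_stalk_Spec_iff hQ, ← hq]
  rfl

/-- Cohen–Macaulay fibres are invariant under base change. -/
theorem qq_fibre_bc_iff {X S X' S' : Scheme.{u}} {f : X ⟶ S} {g : S' ⟶ S} {g' : X' ⟶ X} {f' : X' ⟶ S'}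
    [LocallyOfFiniteType f] (hsq : IsPullback g' f' f g) (x' : X') :
    Q ((f'.fiber (f' x')).presheaf.stalk (f'.asFiber x')) ↔
      Q ((f.fiber (f (g' x'))).presheaf.stalk (f.asFiber (g' x'))) := by
  haveI : LocallyOfFiniteType f' := MorphismProperty.of_isPullback hsq ‹_›
  obtain ⟨pr, hpr, sq⟩ := FibDim14.exists_fibre_square hsq (f' x')
  have hfib : f (g' x') = g (f' x') := by
    rw [← Scheme.Hom.comp_apply, hsq.w, Scheme.Hom.comp_apply]
  haveI : LocallyOfFiniteType (FibDim14.toPt f (g (f' x'))) :=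
    MorphismProperty.pullback_snd _ _ ‹LocallyOfFiniteType f›
  have key := qq_stalk_field_bc_iff hQ hfield (FibDim14.resExt g (f' x')).hom sq (f'.asFiber x')
  refine key.trans ?_
  have hgen : ∀ (s : S) (hs : f (g' x') = s) (z : f.fiber s), f.fiberι s z = g' x' →
      (Q ((f.fiber s).presheaf.stalk z) ↔
        Q ((f.fiber (f (g' x'))).presheaf.stalk (f.asFiber (g' x')))) := by
    rintro s rfl z hz
    rw [(f.fiberι _).isEmbedding.injective (hz.trans (f.fiberι_asFiber _).symm)]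
  exact hgen _ hfib _ (by rw [hpr, f'.fiberι_asFiber])

omit hfield

/-- The fibre through the point is Cohen–Macaulay there (and the map is of finite type near it). -/
def QPt (Q : ∀ (R : Type u) [CommRing R] [IsLocalRing R], Prop) {X Y : Scheme.{u}} (φ : X ⟶ Y) (x : X) : Prop :=
  ∃ U : X.Opens, ∃ hx : x ∈ U, LocallyOfFiniteType (U.ι ≫ φ) ∧
    Q
      (((U.ι ≫ φ).fiber ((U.ι ≫ φ) ⟨x, hx⟩)).presheaf.stalk ((U.ι ≫ φ).asFiber ⟨x, hx⟩))

theorem qq_fibre_comp_iff {W X S : Scheme.{u}} (j : W ⟶ X) [IsOpenImmersion j] (φ : X ⟶ S) (w : W) :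
    Q (((j ≫ φ).fiber ((j ≫ φ) w)).presheaf.stalk ((j ≫ φ).asFiber w)) ↔
      Q ((φ.fiber (φ (j w))).presheaf.stalk (φ.asFiber (j w))) := by
  haveI : IsOpenImmersion (FibDim14.fibMap j φ ((j ≫ φ) w)) :=
    MorphismProperty.of_isPullback (CMEquiDim4.isPullback_fibMap j φ ((j ≫ φ) w)) ‹IsOpenImmersion j›
  rw [qq_stalk_openImmersion_iff hQ (FibDim14.fibMap j φ ((j ≫ φ) w))]
  have hpt : FibDim14.fibMap j φ ((j ≫ φ) w) ((j ≫ φ).asFiber w) = φ.asFiber (j w) := by
    refine (φ.fiberι (φ (j w))).isEmbedding.injective ?_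
    rw [φ.fiberι_asFiber]
    refine (FibDim14.fiberι_fibMap j φ ((j ≫ φ) w) _).trans ?_
    rw [(j ≫ φ).fiberι_asFiber]
  exact ⟨stalk_of_eq hQ hpt, stalk_of_eq hQ hpt.symm⟩

theorem qPt_iff {X Y : Scheme.{u}} (φ : X ⟶ Y) [LocallyOfFiniteType φ] (x : X) :
    QPt Q φ x ↔ Q ((φ.fiber (φ x)).presheaf.stalk (φ.asFiber x)) := by
  refine ⟨fun ⟨U, hx, _, h⟩ => (qq_fibre_comp_iff hQ U.ι φ ⟨x, hx⟩).1 h, fun h => ?_⟩
  exact ⟨⊤, trivial, inferInstance,
    (qq_fibre_comp_iff hQ (⊤ : X.Opens).ι φ ⟨x, trivial⟩).2 h⟩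

include hfield

theorem isPtLocal_qPt : IsPtLocal (QPt Q) where
  bc {P X Y Y' a b f g} hP z h := by
    obtain ⟨U, hzU, hU, hcm⟩ := h
    have sq := (isPullback_morphismRestrict a U).paste_vert hP
    haveI := hU
    refine ⟨a ⁻¹ᵁ U, hzU, MorphismProperty.of_isPullback sq hU, ?_⟩
    refine (qq_fibre_bc_iff hQ hfield sq ⟨z, hzU⟩).2 ?_
    have hp : (a ∣_ U) ⟨z, hzU⟩ = ⟨a z, hzU⟩ := U.ι.isOpenEmbedding.injective (by
      rw [← Scheme.Hom.comp_apply, morphismRestrict_ι]; rfl)
    rw [hp]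
    exact hcm
  desc {P X Y Y' a b f g} hP _ _ z h := by
    haveI : LocallyOfFiniteType b := MorphismProperty.of_isPullback hP inferInstance
    rw [qPt_iff hQ] at h ⊢
    exact (qq_fibre_bc_iff hQ hfield hP z).1 h
  open_source {U X Y} i φ _ z := by
    constructor
    · rintro ⟨V, hzV, hV, hcm⟩
      have e : (V.ι ≫ i) ≫ φ = V.ι ≫ i ≫ φ := Category.assoc _ _ _
      haveI : LocallyOfFiniteType ((V.ι ≫ i) ≫ φ) := by rw [e]; exact hV
      haveI : LocallyOfFiniteType ((i ''ᵁ V).ι ≫ φ) := by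
        have : (i ''ᵁ V).ι ≫ φ = (i.isoImage V).inv ≫ (V.ι ≫ i) ≫ φ := by
          rw [← Category.assoc, Scheme.Hom.isoImage_inv_ι]
        rw [this]; infer_instance
      refine ⟨i ''ᵁ V, ⟨z, hzV, rfl⟩, inferInstance, ?_⟩
      rw [qq_fibre_comp_iff hQ (i ''ᵁ V).ι φ]
      exact (qq_fibre_comp_iff hQ i φ z).1 ((qq_fibre_comp_iff hQ V.ι (i ≫ φ) ⟨z, hzV⟩).1 hcm)
    · rintro ⟨V, hzV, hV, hcm⟩
      refine ⟨i ⁻¹ᵁ V, hzV, ?_, ?_⟩
      · haveI := hV
        rw [← Category.assoc, ← morphismRestrict_ι, Category.assoc]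
        infer_instance
      · exact (qq_fibre_comp_iff hQ (i ⁻¹ᵁ V).ι (i ≫ φ) ⟨z, hzV⟩).2
          ((qq_fibre_comp_iff hQ i φ z).2 ((qq_fibre_comp_iff hQ V.ι φ ⟨i z, hzV⟩).1 hcm))

include hopen

/-- Over a noetherian ring. -/
theorem isConstructible_setOf_qPt (B C : Type u) [CommRing B] [CommRing C] [Algebra B C]
    [IsNoetherianRing B] [Algebra.FiniteType B C] :
    IsConstructible {q : ↥(Spec (CommRingCat.of C)) | QPt Q (specT B C) q} := by
  classical
  haveI : IsNoetherianRing C := Algebra.FiniteType.isNoetherianRing B C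
  haveI : LocallyOfFiniteType (specT B C) := by
    rw [HasRingHomProperty.Spec_iff (P := @LocallyOfFiniteType)]
    exact RingHom.finiteType_algebraMap.2 inferInstance
  let E : Set (PrimeSpectrum C) := {q | QPt Q (specT B C) q}
  let h : PrimeSpectrum C → PrimeSpectrum B := PrimeSpectrum.comap (algebraMap B C)
  suffices H : ∀ I : Ideal B, IsConstructible (E ∩ h ⁻¹' PrimeSpectrum.zeroLocus (I : Set B)) by
    have h0 := H ⊥
    rw [show h ⁻¹' PrimeSpectrum.zeroLocus ((⊥ : Ideal B) : Set B) = Set.univ by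
      simp [PrimeSpectrum.zeroLocus_bot], Set.inter_univ] at h0
    exact h0
  intro I
  induction I using (wellFounded_gt (α := Ideal B)).induction with
  | _ I IH =>
  by_cases hI : I.IsPrime
  swap
  · have hfin := Ideal.finite_minimalPrimes_of_isNoetherianRing B I
    have heq : h ⁻¹' PrimeSpectrum.zeroLocus (I : Set B) =
        ⋃ p ∈ I.minimalPrimes, h ⁻¹' PrimeSpectrum.zeroLocus (p : Set B) := by
      ext q
      simp only [Set.mem_preimage, PrimeSpectrum.mem_zeroLocus, Set.mem_iUnion, SetLike.coe_subset_coe]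
      refine ⟨fun hq => ?_, fun ⟨p, hp, hpq⟩ => hp.1.2.trans hpq⟩
      obtain ⟨p, hp, hpq⟩ := Ideal.exists_minimalPrimes_le hq
      exact ⟨p, hp, hpq⟩
    rw [heq, Set.inter_iUnion₂]
    refine IsConstructible.biUnion hfin fun p hp => IH p (lt_of_le_of_ne hp.1.2 ?_)
    rintro rfl
    exact hI hp.1.1
  let B' := B ⧸ I
  let C' := TensorProduct B B' C
  haveI : IsNoetherianRing C' := Algebra.FiniteType.isNoetherianRing B' C'
  let qC : Spec (CommRingCat.of C') ⟶ Spec (CommRingCat.of C) := Spec.map (CommRingCat.ofHom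
    (Algebra.TensorProduct.includeRight (R := B) (A := B') (B := C)).toRingHom)
  have hX : IsPullback qC (specT B' C') (specT B C) (specT B B') := isPullback_specT_tensor B B' C
  haveI : Algebra.FinitePresentation B' C' := Algebra.FinitePresentation.of_finiteType.1 inferInstance
  haveI : LocallyOfFinitePresentation (specT B' C') :=
    (LocallyOfFinitePresentation.SpecMap_iff _).2 (RingHom.finitePresentation_algebraMap.2 inferInstance)
  obtain ⟨a, ha, hfl⟩ := exists_flatPt_basicOpen B' C'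
  obtain ⟨a, rfl⟩ := Ideal.Quotient.mk_surjective a
  have haI : a ∉ I := fun h' => ha (Ideal.Quotient.eq_zero_iff_mem.2 h')
  let a' : C' := algebraMap B' C' (Ideal.Quotient.mk I a)
  have hopen : IsOpen ({q : ↥(Spec (CommRingCat.of C')) | ((specT B' C').stalkMap q).hom.Flat ∧ Q (CInt.fiberStalk (specT B' C') q)} ∩
      (PrimeSpectrum.basicOpen a' : Set (PrimeSpectrum C'))) :=
    IsOpen.inter (X := PrimeSpectrum C') (isOpen_flatAt_and (specT B' C') Q hQ hopen) (PrimeSpectrum.basicOpen a').2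
  have hloc : {q : ↥(Spec (CommRingCat.of C')) | ((specT B' C').stalkMap q).hom.Flat ∧ Q (CInt.fiberStalk (specT B' C') q)} ∩
      (PrimeSpectrum.basicOpen a' : Set (PrimeSpectrum C')) =
      (qC ⁻¹' E) ∩ (PrimeSpectrum.basicOpen a' : Set (PrimeSpectrum C')) := by
    ext q
    refine ⟨fun ⟨h1, h2⟩ => ⟨?_, h2⟩, fun ⟨h1, h2⟩ => ⟨⟨hfl q h2, ?_⟩, h2⟩⟩
    · show QPt Q (specT B C) (qC q)
      rw [qPt_iff hQ, ← qq_fibre_bc_iff hQ hfield hX q]
      exact h1.2
    · have h1' : QPt Q (specT B C) (qC q) := h1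
      rw [qPt_iff hQ, ← qq_fibre_bc_iff hQ hfield hX q] at h1'
      exact h1'
  have hrange : Set.range qC = h ⁻¹' PrimeSpectrum.zeroLocus (I : Set B) := by
    rw [range_eq_preimage_of_isPullback hX]
    congr 1
    show Set.range (PrimeSpectrum.comap (algebraMap B B')) = _
    rw [range_comap_of_surjective _ (algebraMap B B') Ideal.Quotient.mk_surjective]
    exact congrArg PrimeSpectrum.zeroLocus (congrArg SetLike.coe (Ideal.mk_ker (I := I)))
  have himg : IsConstructible (qC '' ((qC ⁻¹' E) ∩ (PrimeSpectrum.basicOpen a' : Set (PrimeSpectrum C')))) := by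
    refine PrimeSpectrum.isConstructible_comap_image ?_
      (hloc ▸ (TopologicalSpace.NoetherianSpace.isCompact _).isConstructible hopen)
    refine RingHom.FinitePresentation.of_finiteType.1 (RingHom.FiniteType.of_surjective _ ?_)
    exact Algebra.TensorProduct.includeRight_surjective (R := B) (S := B') C Ideal.Quotient.mk_surjective
  have hsub : h ⁻¹' PrimeSpectrum.zeroLocus (I : Set B) =
      (h ⁻¹' PrimeSpectrum.zeroLocus (I : Set B) ∩ {q | algebraMap B C a ∉ q.asIdeal}) ∪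
        h ⁻¹' PrimeSpectrum.zeroLocus ((I ⊔ Ideal.span {a} : Ideal B) : Set B) := by
    ext q
    simp only [Set.mem_preimage, PrimeSpectrum.mem_zeroLocus, Set.mem_union, Set.mem_inter_iff,
      SetLike.coe_subset_coe, Set.mem_setOf_eq, sup_le_iff, Ideal.span_le, Set.singleton_subset_iff]
    by_cases hqa : algebraMap B C a ∈ q.asIdeal
    · exact ⟨fun h' => Or.inr ⟨h', hqa⟩, fun h' => h'.elim (fun h'' => absurd hqa h''.2) And.left⟩
    · exact ⟨fun h' => Or.inl ⟨h', hqa⟩, fun h' => h'.elim And.left And.left⟩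
  rw [hsub, Set.inter_union_distrib_left]
  refine IsConstructible.union ?_ (IH _ (lt_of_le_of_ne le_sup_left fun h' =>
    haI (h'.ge (le_sup_right (a := I) (Ideal.mem_span_singleton_self a)))))
  have hcomm : a' = Algebra.TensorProduct.includeRight (R := B) (A := B') (B := C) (algebraMap B C a) := by
    rw [AlgHom.commutes]
    exact (IsScalarTower.algebraMap_apply B B' C' a).symm
  refine (congrArg IsConstructible (Set.ext fun q => ⟨?_, ?_⟩)).mp himg
  · rintro ⟨q', ⟨hqE, hqa⟩, rfl⟩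
    replace hqa : a' ∉ (show PrimeSpectrum C' from q').asIdeal := hqa
    rw [hcomm] at hqa
    exact ⟨hqE, hrange.le ⟨q', rfl⟩, hqa⟩
  · rintro ⟨hqE, hqI, hqa⟩
    obtain ⟨q', rfl⟩ := hrange.ge hqI
    refine ⟨q', ⟨hqE, ?_⟩, rfl⟩
    show a' ∉ (show PrimeSpectrum C' from q').asIdeal
    rw [hcomm]
    exact hqa

omit hopen in
theorem mem_fibSet_qPt_iff {X Y S : Scheme.{u}} (f : X ⟶ Y) (g : Y ⟶ S) [LocallyOfFiniteType f]
    (x : X) : x ∈ fibSet (QPt Q) f g ↔ QPt Q f x := by
  obtain ⟨z, hz⟩ := exists_fibre_point f g x _ rfl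
  rw [mem_fibSet_iff f g z hz, qPt_iff hQ, qPt_iff hQ, qq_fibre_bc_iff hQ hfield (IsPullback.of_hasPullback f _) z, hz]

theorem genConstr_qPt : GenConstr (QPt Q) := by
  intro R B C _ _ _ _ _ _ _ _ _ _ _
  haveI : IsNoetherianRing B := Algebra.FiniteType.isNoetherianRing R B
  haveI : Algebra.FiniteType B C := Algebra.FiniteType.of_restrictScalars_finiteType R B C
  haveI : LocallyOfFiniteType (specT B C) := by
    rw [HasRingHomProperty.Spec_iff (P := @LocallyOfFiniteType)]
    exact RingHom.finiteType_algebraMap.2 inferInstance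
  refine ⟨1, one_ne_zero, ?_⟩
  refine (congrArg IsConstructible (Set.ext fun q => ?_)).mp (isConstructible_setOf_qPt hQ hfield hopen B C)
  refine ⟨fun h => ⟨(mem_fibSet_qPt_iff hQ hfield _ _ q).2 h, ?_⟩, fun h => (mem_fibSet_qPt_iff hQ hfield _ _ q).1 h.1⟩
  show algebraMap R C 1 ∉ (show PrimeSpectrum C from q).asIdeal
  rw [map_one]
  exact fun h1 => (show PrimeSpectrum C from q).2.ne_top ((Ideal.eq_top_iff_one _).2 h1)

theorem isLocallyConstructible_setOf_qq_fibre {X S : Scheme.{u}} (f : X ⟶ S)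
    [LocallyOfFinitePresentation f] :
    IsLocallyConstructible {x : X |
      Q ((f.fiber (f x)).presheaf.stalk (f.asFiber x))} := by
  have h := isLocallyConstructible_fibSet (isPtLocal_qPt hQ hfield) (genConstr_qPt hQ hfield hopen) f (𝟙 S)
  refine (congrArg IsLocallyConstructible (Set.ext fun x => ?_)).mp h
  rw [mem_fibSet_qPt_iff hQ hfield, qPt_iff hQ]
  rfl

end Groth.Agent.FibDepth5.Ring
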