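import Groth.Agent.Lib.FibDepth5.Closed

/-!
Loci defined by depth and dimension on the fibres (EGA IV 12.1).
-/

universe u

open CategoryTheory AlgebraicGeometry TopologicalSpace

namespace Groth.Agent.FibDepth5

open FibDim14

variable {X Y : Scheme.{u}} (f : X ⟶ Y) [LocallyOfFiniteType f]

/-- Depth `D` and support dimension `S` of a family of modules on the fibres, with support `T`, whose
depth plus residual degree is upper semicontinuous. -/
structure FibData (D : X → ℕ∞) (S : X → WithBot ℕ∞) (T : Set X) : Prop where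
  closed_T : IsClosed T
  closed_E : ∀ m : ℕ, IsClosed {x | D x + (rd f x : ℕ∞) ≤ m}
  top_D : ∀ x, x ∉ T → D x = ⊤ ∧ S x = ⊥
  le_S : ∀ x ∈ T, ∃ d : ℕ, D x = d ∧ (d : WithBot ℕ∞) ≤ S x
  dim_rd : ∀ x ∈ T, ∃ b δ : ℕ, S x = b ∧ b + rd f x = δ ∧
    (∀ x', x' ⤳ x → x' ∈ T → f x' = f x → rd f x' ≤ δ) ∧
    ∃ x', x' ⤳ x ∧ x' ∈ T ∧ f x' = f x ∧ rd f x' = δ

variable {f} {D : X → ℕ∞} {S : X → WithBot ℕ∞} {T : Set X} (h : FibData f D S T)

theorem isClosed_iUnion_of_bounded (C : ℕ → Set X) (hC : ∀ m, IsClosed (C m))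
    (hb : ∀ m x, x ∈ C m → (m : WithBot ℕ∞) ≤ FlatMor.fibreDimAt f x) : IsClosed (⋃ m, C m) := by
  refine isOpen_compl_iff.1 (isOpen_iff_forall_mem_open.2 fun x hx => ?_)
  obtain ⟨n, hn⟩ : ∃ n : ℕ, FlatMor.fibreDimAt f x ≤ (n : WithBot ℕ∞) := by
    obtain ⟨x', -, -, h', -⟩ := exists_fibreDimAt_eq f x
    exact ⟨_, h'.le⟩
  refine ⟨{y | FlatMor.fibreDimAt f y ≤ (n : WithBot ℕ∞)} ∩ ⋂ m ∈ Finset.range (n + 1), (C m)ᶜ, ?_,
    (isOpen_fibreDimAt_le f n).inter (isOpen_biInter_finset fun m _ => (hC m).isOpen_compl),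
    ⟨hn, Set.mem_iInter₂.2 fun m _ hm => hx (Set.mem_iUnion.2 ⟨m, hm⟩)⟩⟩
  intro y hy hyC
  obtain ⟨m, hm⟩ := Set.mem_iUnion.1 hyC
  have h' : m ≤ n := by exact_mod_cast (hb m y hm).trans hy.1
  exact Set.mem_iInter₂.1 hy.2 m (Finset.mem_range.2 (Nat.lt_succ_of_le h')) hm

theorem le_fibreDimAt_of_mem_upSet {F : Set X} {n : ℕ} {x : X} (hx : x ∈ upSet f F n) :
    (n : WithBot ℕ∞) ≤ FlatMor.fibreDimAt f x := by
  obtain ⟨x', h1, h2, -, h4⟩ := hx
  exact le_trans (by exact_mod_cast h4) (rd_le_fibreDimAt f h1 h2)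

include h

theorem FibData.isClosed_upSet_T (m : ℕ) : IsClosed (upSet f T m) := isClosed_upSet f h.closed_T m

theorem FibData.mem_E {x : X} {m : ℕ} :
    D x + (rd f x : ℕ∞) ≤ m ↔ x ∈ T ∧ ∃ d : ℕ, D x = d ∧ d + rd f x ≤ m := by
  by_cases hx : x ∈ T
  · obtain ⟨d, hd, -⟩ := h.le_S x hx
    rw [hd]
    refine ⟨fun h' => ⟨hx, d, rfl, by exact_mod_cast h'⟩, fun ⟨_, d', e, h'⟩ => ?_⟩
    obtain rfl : d = d' := by exact_mod_cast e
    exact_mod_cast h'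
  · rw [(h.top_D x hx).1, top_add, top_le_iff]
    exact iff_of_false (ENat.coe_ne_top m) fun h' => hx h'.1

theorem FibData.mem_upSet_T {x : X} (hx : x ∈ T) {b : ℕ} (hb : S x = b) {m : ℕ} :
    x ∈ upSet f T m ↔ m ≤ b + rd f x := by
  obtain ⟨b', δ, hb', hδ, hall, x', hx', hx'T, he, hr⟩ := h.dim_rd x hx
  obtain rfl : b = b' := by rw [hb] at hb'; exact_mod_cast hb'
  rw [hδ]
  refine ⟨fun ⟨y, h1, h2, h3, h4⟩ => h4.trans (hall y h1 h3 h2), fun hm => ?_⟩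
  exact ⟨x', hx', he, hx'T, hm.trans_eq hr.symm⟩

/-- The inequality defining `(S_k)` at a point, in numbers. -/
theorem FibData.not_min_le_iff {x : X} {k : ℕ} :
    ¬ (min (k : WithBot ℕ∞) (S x) ≤ ((D x : ℕ∞) : WithBot ℕ∞)) ↔
      ∃ m : ℕ, D x + (rd f x : ℕ∞) ≤ (m : ℕ∞) ∧ x ∈ upSet f T (m + 1) ∧ m + 1 - k ≤ rd f x := by
  by_cases hx : x ∈ T
  swap
  · refine iff_of_false (fun h' => h' ?_) fun ⟨m, h1, _⟩ => hx ((h.mem_E).1 h1).1
    rw [(h.top_D x hx).2]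
    exact (min_le_right _ _).trans bot_le
  obtain ⟨d, hd, -⟩ := h.le_S x hx
  obtain ⟨b, δ, hb, hδ, -⟩ := h.dim_rd x hx
  rw [hd, hb]
  constructor
  · intro h'
    have h'' : d < k ∧ d < b := by
      by_contra hc
      apply h'
      rcases not_and_or.1 hc with hc | hc
      · exact (min_le_left _ _).trans (by exact_mod_cast Nat.le_of_not_lt hc)
      · exact (min_le_right _ _).trans (by exact_mod_cast Nat.le_of_not_lt hc)
    refine ⟨d + rd f x, by exact_mod_cast le_rfl, (h.mem_upSet_T hx hb).2 (by omega), by omega⟩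
  · rintro ⟨m, h1, h2, h3⟩ h'
    have h1' : d + rd f x ≤ m := by exact_mod_cast h1
    rw [h.mem_upSet_T hx hb] at h2
    rcases min_le_iff.1 h' with h4 | h4
    · have : k ≤ d := by exact_mod_cast h4
      omega
    · have : b ≤ d := by exact_mod_cast h4
      omega

/-- **The locus of fibrewise `(S_k)` is open.** -/
theorem FibData.isOpen_sk (k : ℕ) :
    IsOpen {x : X | ∀ x', x' ⤳ x → f x' = f x →
      min (k : WithBot ℕ∞) (S x') ≤ ((D x' : ℕ∞) : WithBot ℕ∞)} := by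
  let C : ℕ → Set X := fun m =>
    upSet f ({y | D y + (rd f y : ℕ∞) ≤ m} ∩ upSet f T (m + 1)) (m + 1 - k)
  have hC : IsClosed (⋃ m, C m) := by
    refine isClosed_iUnion_of_bounded (f := f) _
      (fun m => isClosed_upSet f ((h.closed_E m).inter (h.isClosed_upSet_T _)) _) fun m x hx => ?_
    obtain ⟨x', h1, h2, ⟨-, h3⟩, -⟩ := hx
    obtain ⟨y, h4, h5, -, h6⟩ := h3
    exact le_trans (by exact_mod_cast Nat.le_of_succ_le h6) (rd_le_fibreDimAt f (h4.trans h1) (h5.trans h2))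
  refine (congrArg IsOpen (Set.ext fun x => ?_)).mp hC.isOpen_compl
  rw [Set.mem_compl_iff, Set.mem_iUnion, not_exists]
  refine ⟨fun hgood x' hx' he => ?_, fun hgood m ⟨x', hx', he, ⟨h1, h2⟩, h3⟩ => ?_⟩
  · by_contra hn
    obtain ⟨m, h1, h2, h3⟩ := h.not_min_le_iff.1 hn
    exact hgood m ⟨x', hx', he, ⟨h1, h2⟩, h3⟩
  · exact h.not_min_le_iff.2 ⟨m, h1, h2, h3⟩ (hgood x' hx' he)

/-- **The locus of fibrewise codepth at most `n` is open.** -/
theorem FibData.isOpen_coprof (n : ℕ) : IsOpen {x : X | S x ≤ ((D x : ℕ∞) : WithBot ℕ∞) + n} := by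
  let C : ℕ → Set X := fun m => {y | D y + (rd f y : ℕ∞) ≤ m} ∩ upSet f T (m + n + 1)
  have hC : IsClosed (⋃ m, C m) := by
    refine isClosed_iUnion_of_bounded (f := f) _ (fun m => (h.closed_E m).inter (h.isClosed_upSet_T _)) fun m x hx => ?_
    exact le_trans (by exact_mod_cast (by omega : m ≤ m + n + 1)) (le_fibreDimAt_of_mem_upSet hx.2)
  refine (congrArg IsOpen (Set.ext fun x => ?_)).mp hC.isOpen_compl
  rw [Set.mem_compl_iff, Set.mem_iUnion, not_exists, Set.mem_setOf_eq]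
  by_cases hx : x ∈ T
  swap
  · refine iff_of_true (fun m hm => hx ((h.mem_E).1 hm.1).1) ?_
    rw [(h.top_D x hx).2]
    exact bot_le
  obtain ⟨d, hd, -⟩ := h.le_S x hx
  obtain ⟨b, δ, hb, hδ, -⟩ := h.dim_rd x hx
  rw [hd, hb]
  have hiff : ((b : ℕ) : WithBot ℕ∞) ≤ ((d : ℕ∞) : WithBot ℕ∞) + n ↔ b ≤ d + n :=
    ⟨fun h' => by exact_mod_cast h', fun h' => by exact_mod_cast h'⟩
  refine Iff.trans ⟨fun hgood => ?_, fun hle m hm => ?_⟩ hiff.symm
  · by_contra hc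
    refine hgood (d + rd f x) ⟨(h.mem_E).2 ⟨hx, d, hd, le_rfl⟩, (h.mem_upSet_T hx hb).2 (by omega)⟩
  · obtain ⟨-, d', hd', h1⟩ := (h.mem_E).1 hm.1
    obtain rfl : d = d' := by rw [hd] at hd'; exact_mod_cast hd'
    have := (h.mem_upSet_T hx hb).1 hm.2
    omega

/-- Points of the support of depth zero. -/
def FibData.Assoc (_ : FibData f D S T) (x : X) : Prop := D x = 0

theorem FibData.assoc_iff {x : X} : h.Assoc x ↔ D x + (rd f x : ℕ∞) ≤ (rd f x : ℕ) := by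
  refine ⟨fun h0 => ?_, fun h0 => ?_⟩
  · rw [show D x = 0 from h0, zero_add]
  · obtain ⟨-, d, hd, h1⟩ := (h.mem_E).1 h0
    show D x = 0
    rw [hd, show d = 0 by omega]
    rfl

theorem FibData.mem_T_of_assoc {x : X} (hx : h.Assoc x) : x ∈ T :=
  ((h.mem_E).1 (h.assoc_iff.1 hx)).1

theorem FibData.assoc_of_S_eq_zero {x : X} (hx : x ∈ T) (h0 : S x = (0 : ℕ)) : h.Assoc x := by
  obtain ⟨d, hd, hle⟩ := h.le_S x hx
  rw [h0] at hle
  have : d ≤ 0 := by exact_mod_cast hle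
  show D x = 0
  rw [hd, show d = 0 by omega]
  rfl

theorem FibData.assoc_of_mem_E {x' : X} {r : ℕ} (h1 : D x' + (rd f x' : ℕ∞) ≤ r) (h2 : r ≤ rd f x') :
    h.Assoc x' ∧ rd f x' = r := by
  obtain ⟨-, d, hd, h3⟩ := (h.mem_E).1 h1
  refine ⟨?_, by omega⟩
  show D x' = 0
  rw [hd, show d = 0 by omega]
  rfl

/-- The closed set of points lying on an associated cycle of the fibre of dimension outside `Φ`. -/
theorem FibData.isClosed_assDims (Φ : Set ℕ) :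
    IsClosed {x : X | ∃ x', x' ⤳ x ∧ f x' = f x ∧ h.Assoc x' ∧ rd f x' ∉ Φ} := by
  let C : ℕ → Set X := fun r => {_y | r ∉ Φ} ∩ upSet f {y | D y + (rd f y : ℕ∞) ≤ r} r
  have hC : IsClosed (⋃ r, C r) := by
    refine isClosed_iUnion_of_bounded (f := f) _ (fun r => IsClosed.inter ?_ (isClosed_upSet f (h.closed_E r) r))
      fun r x hx => le_fibreDimAt_of_mem_upSet hx.2
    by_cases hr : r ∈ Φ
    · simp [hr]
    · simp [hr]
  refine (congrArg IsClosed (Set.ext fun x => ?_)).mp hC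
  rw [Set.mem_iUnion]
  refine ⟨fun ⟨r, hr, x', h1, h2, h3, h4⟩ => ?_, fun ⟨x', h1, h2, h3, h4⟩ => ?_⟩
  · obtain ⟨ha, he⟩ := h.assoc_of_mem_E h3 h4
    exact ⟨x', h1, h2, ha, he ▸ hr⟩
  · exact ⟨rd f x', h4, x', h1, h2, h.assoc_iff.1 h3, le_rfl⟩

/-- The closed set of points lying on an embedded associated cycle of the fibre. -/
theorem FibData.isClosed_embedded :
    IsClosed {x : X | ∃ z z', z ⤳ x ∧ f z = f x ∧ h.Assoc z ∧ z' ⤳ z ∧ f z' = f z ∧ h.Assoc z' ∧ z' ≠ z} := by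
  let C : ℕ → Set X := fun r => upSet f ({y | D y + (rd f y : ℕ∞) ≤ r} ∩ upSet f T (r + 1)) r
  have hC : IsClosed (⋃ r, C r) := isClosed_iUnion_of_bounded (f := f) _
    (fun r => isClosed_upSet f ((h.closed_E r).inter (h.isClosed_upSet_T _)) r)
    fun r x hx => le_fibreDimAt_of_mem_upSet hx
  refine (congrArg IsClosed (Set.ext fun x => ?_)).mp hC
  rw [Set.mem_iUnion]
  refine ⟨fun ⟨r, z, h1, h2, ⟨h3, h4⟩, h5⟩ => ?_, fun ⟨z, z', h1, h2, h3, h4, h5, h6, h7⟩ => ?_⟩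
  · obtain ⟨ha, he⟩ := h.assoc_of_mem_E h3 h5
    obtain ⟨b, δ, hb, hδ, hall, w, hw, hwT, hwe, hwr⟩ := h.dim_rd z (h.mem_T_of_assoc ha)
    have hlt := (h.mem_upSet_T (h.mem_T_of_assoc ha) hb).1 h4
    obtain ⟨b', δ', hb', hδ', hall', w', hw', hw'T, hw'e, hw'r⟩ := h.dim_rd w hwT
    have hle := hall w' (hw'.trans hw) hw'T (hw'e.trans hwe)
    obtain rfl : b' = 0 := by omega
    exact ⟨z, w, h1, h2, ha, hw, hwe, h.assoc_of_S_eq_zero hwT hb', fun e => by subst e; omega⟩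
  · refine ⟨rd f z, z, h1, h2, ⟨h.assoc_iff.1 h3, z', h4, h5, h.mem_T_of_assoc h6, ?_⟩, le_rfl⟩
    exact rd_lt_of_specializes f h4 h7 h5

/-- Given `(S₁)`, the fibre is equidimensional at `x` off a closed set. -/
theorem FibData.isOpen_equidim_sk {k : ℕ} (hk : 1 ≤ k) :
    IsOpen {x : X | (x ∈ T → ∀ η, η ⤳ x → f η = f x → η ∈ T → S η = (0 : ℕ) →
        ∀ η', η' ⤳ x → f η' = f x → η' ∈ T → rd f η' ≤ rd f η) ∧
      ∀ x', x' ⤳ x → f x' = f x → min (k : WithBot ℕ∞) (S x') ≤ ((D x' : ℕ∞) : WithBot ℕ∞)} := by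
  let C : ℕ → Set X := fun r => upSet f {y | D y + (rd f y : ℕ∞) ≤ r} r ∩ upSet f T (r + 1)
  have hC : IsClosed (⋃ r, C r) := isClosed_iUnion_of_bounded (f := f) _
    (fun r => (isClosed_upSet f (h.closed_E r) r).inter (h.isClosed_upSet_T _))
    fun r x hx => le_fibreDimAt_of_mem_upSet hx.1
  refine (congrArg IsOpen (Set.ext fun x => ?_)).mp (hC.isOpen_compl.inter (h.isOpen_sk k))
  refine and_congr_left fun hsk => ?_
  rw [Set.mem_compl_iff, Set.mem_iUnion, not_exists]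
  constructor
  · intro hgood _ η h1 h2 h3 h4 η' h1' h2' h3'
    by_contra hc
    exact hgood (rd f η) ⟨⟨η, h1, h2, h.assoc_iff.1 (h.assoc_of_S_eq_zero h3 h4), le_rfl⟩,
      ⟨η', h1', h2', h3', by omega⟩⟩
  · rintro heq r ⟨⟨η, h1, h2, h3, h4⟩, ⟨η', h1', h2', h3', h4'⟩⟩
    obtain ⟨ha, he⟩ := h.assoc_of_mem_E h3 h4
    have hηT := h.mem_T_of_assoc ha
    obtain ⟨b, δ, hb, -⟩ := h.dim_rd η hηT
    have hb0 : b = 0 := by
      have h5 := hsk η h1 h2
      rw [show D η = 0 from ha, hb] at h5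
      rcases min_le_iff.1 h5 with h5 | h5
      · have : k ≤ 0 := by exact_mod_cast h5
        omega
      · exact Nat.le_zero.1 (by exact_mod_cast h5)
    subst hb0
    have := heq (h1.mem_closed h.closed_T hηT) η h1 h2 hηT hb η' h1' h2' h3'
    omega

end Groth.Agent.FibDepth5
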