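import Groth.Agent.Lib.FibDepth5.Data
import Groth.Agent.Lib.FibDepth5.Apps

/-!
Equidimensionality of the stalks of the fibres.
-/

universe u

open CategoryTheory AlgebraicGeometry TopologicalSpace Topology

set_option backward.isDefEq.respectTransparency false

namespace Groth.Agent.FibDepth5

open FibDim14

section Algebra

variable {A P : Type u} [CommRing A] [CommRing P] [Algebra A P] [Algebra.FiniteType A P]
variable {M : Type u} [AddCommGroup M] [Module P M] [Module.Finite P M]

theorem mem_support_localization_iff {N : Type u} [AddCommGroup N] [Module P N] [Module.Finite P N]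
    (q : Ideal P) [q.IsPrime] (Q : PrimeSpectrum (Localization.AtPrime q)) :
    Q ∈ Module.support (Localization.AtPrime q) (LocalizedModule q.primeCompl N) ↔
      PrimeSpectrum.comap (algebraMap P (Localization.AtPrime q)) Q ∈ Module.support P N := by
  have h := (FlatDepth.invariants_localization_localization (M := N) q.primeCompl Q.asIdeal).2
  rw [Module.mem_support_iff, Module.mem_support_iff,
    ← Module.supportDim_ne_bot_iff_nontrivial (Localization.AtPrime Q.asIdeal),
    ← Module.supportDim_ne_bot_iff_nontrivial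
      (Localization.AtPrime (PrimeSpectrum.comap (algebraMap P (Localization.AtPrime q)) Q).asIdeal), h]
  rfl

/-- The dimension of the closure of a generization in the fibre. -/
theorem ringKrullDim_quotient_add_rd (q η : PrimeSpectrum P) (hle : η ≤ q)
    (hp : η.asIdeal.comap (algebraMap A P) = q.asIdeal.comap (algebraMap A P))
    (Q : PrimeSpectrum (Localization.AtPrime q.asIdeal))
    (hQ : PrimeSpectrum.comap (algebraMap P (Localization.AtPrime q.asIdeal)) Q = η) :
    ∃ c : ℕ, ringKrullDim (Localization.AtPrime q.asIdeal ⧸ Q.asIdeal) = c ∧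
      c + rd (algProj A P) q = rd (algProj A P) η := by
  let L := Localization.AtPrime q.asIdeal
  have hsupp : ∀ q' : PrimeSpectrum P, q' ∈ Module.support P (P ⧸ η.asIdeal) ↔ η ≤ q' := fun q' => by
    rw [Module.support_eq_zeroLocus, Ideal.annihilator_quotient, PrimeSpectrum.mem_zeroLocus]
    rfl
  obtain ⟨b, δ, hb, hδ, hall, q', hq', hq's, hq'p, hr⟩ :=
    exists_supportDim_add_rd (A := A) (P ⧸ η.asIdeal) q ((hsupp q).2 hle)
  refine ⟨b, ?_, ?_⟩
  · rw [← hb, ← (invariants_red (M := P ⧸ η.asIdeal) q.asIdeal (p := q.asIdeal.comap (algebraMap A P)) rfl).2,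
      ← Module.supportDim_quotient_eq_ringKrullDim Q.asIdeal, Module.supportDim, Module.supportDim]
    have hset : Module.support L (L ⧸ Q.asIdeal) = Module.support L (LocalizedModule q.asIdeal.primeCompl
        ((P ⧸ η.asIdeal) ⧸ ((q.asIdeal.comap (algebraMap A P)).map (algebraMap A P) • ⊤ :
          Submodule P (P ⧸ η.asIdeal)))) := by
      ext R
      rw [mem_support_localization_iff, Module.support_eq_zeroLocus, Ideal.annihilator_quotient,
        PrimeSpectrum.mem_zeroLocus, Module.support_quotient, Set.mem_inter_iff, hsupp,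
        PrimeSpectrum.mem_zeroLocus, SetLike.coe_subset_coe, SetLike.coe_subset_coe,
        Ideal.map_le_iff_le_comap]
      constructor
      · intro h
        have h' : η.asIdeal ≤ R.asIdeal.comap (algebraMap P L) := hQ ▸ Ideal.comap_mono h
        exact ⟨h', fun a ha => h' (hp.ge ha)⟩
      · rintro ⟨h, -⟩
        rw [← IsLocalization.map_comap q.asIdeal.primeCompl L Q.asIdeal, Ideal.map_le_iff_le_comap]
        rw [← hQ] at h
        exact h
    exact congrArg (fun s : Set (PrimeSpectrum L) => Order.krullDim s) hset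
  · rw [hδ]
    refine le_antisymm ?_ (hall η hle ((hsupp η).2 le_rfl) hp)
    rw [← hr]
    by_cases e : q' = η
    · rw [e]
    · exact (rd_lt_of_specializes (algProj A P) ((PrimeSpectrum.le_iff_specializes η q').1 ((hsupp q').1 hq's))
        (fun e' => e e'.symm) (PrimeSpectrum.ext (hp.trans hq'p.symm))).le

/-- The points of depth-free dimension zero are the minimal ones. -/
theorem supportDim_fibLocMod_eq_zero_iff (η : PrimeSpectrum P) (hη : η ∈ Module.support P M) :
    Module.supportDim (EGA4.FibLocRing A P η.asIdeal) (EGA4.FibLocMod A P η.asIdeal M) = (0 : ℕ) ↔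
      ∀ q' : PrimeSpectrum P, q' ≤ η → q' ∈ Module.support P M →
        q'.asIdeal.comap (algebraMap A P) = η.asIdeal.comap (algebraMap A P) → q' = η := by
  obtain ⟨b, δ, hb, hδ, hall, w, hw, hws, hwp, hwr⟩ := exists_supportDim_add_rd (A := A) M η hη
  constructor
  · intro h0 q' hle hq' hp
    obtain rfl : b = 0 := by rw [hb] at h0; exact_mod_cast h0
    by_contra hne
    have := rd_lt_of_specializes (algProj A P) ((PrimeSpectrum.le_iff_specializes q' η).1 hle) hne
      (PrimeSpectrum.ext hp)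
    have := hall q' hle hq' hp
    omega
  · intro h
    obtain rfl := h w hw hws hwp
    rw [hb, show b = 0 by omega]

/-- Equidimensionality of the fibre of a module. -/
theorem isEquidimModule_fibLocMod_iff (q : PrimeSpectrum P) :
    EGA4.IsEquidimModule (Localization.AtPrime q.asIdeal) (EGA4.FibLocMod A P q.asIdeal M) ↔
      (q ∈ Module.support P M → ∀ η : PrimeSpectrum P, η ≤ q →
        η.asIdeal.comap (algebraMap A P) = q.asIdeal.comap (algebraMap A P) → η ∈ Module.support P M →
        Module.supportDim (EGA4.FibLocRing A P η.asIdeal) (EGA4.FibLocMod A P η.asIdeal M) = (0 : ℕ) →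
        ∀ η' : PrimeSpectrum P, η' ≤ q → η'.asIdeal.comap (algebraMap A P) = q.asIdeal.comap (algebraMap A P) →
          η' ∈ Module.support P M → rd (algProj A P) η' ≤ rd (algProj A P) η) := by
  let L := Localization.AtPrime q.asIdeal
  let p := q.asIdeal.comap (algebraMap A P)
  let Mb := M ⧸ (p.map (algebraMap A P) • ⊤ : Submodule P M)
  obtain ⟨e⟩ := nonempty_fibLocMod_equiv (A := A) (M := M) q.asIdeal rfl
  rw [isEquidimModule_congr e]
  have hMb : ∀ R : PrimeSpectrum L, R ∈ Module.support L (LocalizedModule q.asIdeal.primeCompl Mb) ↔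
      PrimeSpectrum.comap (algebraMap P L) R ∈ Module.support P M ∧
        (PrimeSpectrum.comap (algebraMap P L) R).asIdeal.comap (algebraMap A P) = p := by
    intro R
    rw [mem_support_localization_iff, Module.support_quotient, Set.mem_inter_iff, PrimeSpectrum.mem_zeroLocus,
      SetLike.coe_subset_coe, Ideal.map_le_iff_le_comap]
    refine and_congr_right fun _ => ⟨fun h => le_antisymm (Ideal.comap_mono ?_) h, fun h => h.ge⟩
    intro a ha
    by_contra hn
    exact R.2.ne_top (Ideal.eq_top_of_isUnit_mem _ ha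
      (IsLocalization.map_units L (⟨a, hn⟩ : q.asIdeal.primeCompl)))
  have hleq : ∀ R : PrimeSpectrum L, PrimeSpectrum.comap (algebraMap P L) R ≤ q := fun R a ha => by
    by_contra hn
    exact R.2.ne_top (Ideal.eq_top_of_isUnit_mem _ ha
      (IsLocalization.map_units L (⟨a, hn⟩ : q.asIdeal.primeCompl)))
  have hmono : ∀ R R' : PrimeSpectrum L,
      PrimeSpectrum.comap (algebraMap P L) R ≤ PrimeSpectrum.comap (algebraMap P L) R' ↔ R ≤ R' := fun R R' => by
    refine ⟨fun h => ?_, fun h a ha => h ha⟩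
    show R.asIdeal ≤ R'.asIdeal
    rw [← IsLocalization.map_comap q.asIdeal.primeCompl L R.asIdeal,
      ← IsLocalization.map_comap q.asIdeal.primeCompl L R'.asIdeal]
    exact Ideal.map_mono h
  have hex : ∀ η : PrimeSpectrum P, η ≤ q → ∃ R, PrimeSpectrum.comap (algebraMap P L) R = η := fun η hle => by
    have : η ∈ Set.range (PrimeSpectrum.comap (algebraMap P L)) := by
      rw [PrimeSpectrum.localization_comap_range L q.asIdeal.primeCompl]
      exact Set.disjoint_left.2 fun a ha ha' => ha (hle ha')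
    exact this
  have hdim : Module.supportDim L (LocalizedModule q.asIdeal.primeCompl Mb) =
      Module.supportDim (EGA4.FibLocRing A P q.asIdeal) (EGA4.FibLocMod A P q.asIdeal M) :=
    (invariants_red (M := M) q.asIdeal rfl).2
  have hmin : ∀ R : PrimeSpectrum L, R.asIdeal ∈ (Module.annihilator L
      (LocalizedModule q.asIdeal.primeCompl Mb)).minimalPrimes ↔
      R ∈ Module.support L (LocalizedModule q.asIdeal.primeCompl Mb) ∧
        ∀ R', R' ∈ Module.support L (LocalizedModule q.asIdeal.primeCompl Mb) → R' ≤ R → R ≤ R' := by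
    intro R
    simp only [Module.support_eq_zeroLocus, PrimeSpectrum.mem_zeroLocus, SetLike.coe_subset_coe]
    exact ⟨fun h => ⟨h.1.2, fun R' h1 h2 => h.2 ⟨R'.2, h1⟩ h2⟩,
      fun h => ⟨⟨R.2, h.1⟩, fun J hJ hle => h.2 ⟨J, hJ.1⟩ hJ.2 hle⟩⟩
  constructor
  · intro heq hq η hle hp hη h0 η' hle' hp' hη'
    obtain ⟨R, rfl⟩ := hex η hle
    have hRmin := (hmin R).2 ⟨(hMb R).2 ⟨hη, hp⟩, fun R' hR' hR'R => by
      obtain ⟨h1, h2⟩ := (hMb R').1 hR'
      exact (hmono R R').1 ((supportDim_fibLocMod_eq_zero_iff (A := A) _ hη).1 h0 _ ((hmono R' R).2 hR'R) h1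
        (h2.trans hp.symm)).ge⟩
    obtain ⟨c, hc, hc'⟩ := ringKrullDim_quotient_add_rd (A := A) q _ hle hp R rfl
    obtain ⟨b, δ, hb, hδ, hall, -⟩ := exists_supportDim_add_rd (A := A) M q hq
    have h1 := heq _ hRmin
    rw [hc, hdim, hb] at h1
    have h1' : c = b := by exact_mod_cast h1
    have := hall η' hle' hη' hp'
    omega
  · intro hall' Q hQ
    obtain ⟨R, rfl⟩ : ∃ R : PrimeSpectrum L, R.asIdeal = Q := ⟨⟨Q, hQ.1.1⟩, rfl⟩
    obtain ⟨hR, hRmin⟩ := (hmin R).1 hQ
    obtain ⟨hRs, hRp⟩ := (hMb R).1 hR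
    have hq : q ∈ Module.support P M := Module.mem_support_mono (hleq R) hRs
    have h0 : Module.supportDim (EGA4.FibLocRing A P (PrimeSpectrum.comap (algebraMap P L) R).asIdeal)
        (EGA4.FibLocMod A P (PrimeSpectrum.comap (algebraMap P L) R).asIdeal M) = (0 : ℕ) := by
      refine (supportDim_fibLocMod_eq_zero_iff (A := A) _ hRs).2 fun q' hle hq' hp' => ?_
      obtain ⟨R', rfl⟩ := hex q' (hle.trans (hleq R))
      have h2 := hRmin R' ((hMb R').2 ⟨hq', hp'.trans hRp⟩) ((hmono R' R).1 hle)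
      exact le_antisymm hle ((hmono R R').2 h2)
    obtain ⟨c, hc, hc'⟩ := ringKrullDim_quotient_add_rd (A := A) q _ (hleq R) hRp R rfl
    obtain ⟨b, δ, hb, hδ, hall, w, hw, hws, hwp, hwr⟩ := exists_supportDim_add_rd (A := A) M q hq
    have h3 := hall _ (hleq R) hRs hRp
    have h4 := hall' hq _ (hleq R) hRp hRs h0 w hw hwp hws
    rw [hc, hdim, hb]
    exact_mod_cast (by omega : c = b)

end Algebra

variable {X Y : Scheme.{u}} (f : X ⟶ Y) (F : X.Modules) [LocallyOfFinitePresentation f]

theorem isEquidim_fibStalk_iff (hF : CohB1.IsFP F) (x : X) :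
    EGA4.IsEquidimModule (CInt.fiberStalk f x) (fibStalk f F x) ↔
      (x ∈ fibSupp f F → ∀ η, η ⤳ x → f η = f x → η ∈ fibSupp f F → fibDim f F η = (0 : ℕ) →
        ∀ η', η' ⤳ x → f η' = f x → η' ∈ fibSupp f F → rd f η' ≤ rd f η) := by
  haveI := M1.isFP_isQCoh hF
  obtain ⟨V, hV, U, hU, e, N, c, hx, hc, hct⟩ := exists_chart f x
  letI := c.toAlgebra
  letI : Module (MvPolynomial (Fin N) Γ(Y, V)) Γ(F, U) := Module.compHom _ c
  haveI : IsScalarTower (MvPolynomial (Fin N) Γ(Y, V)) Γ(X, U) Γ(F, U) :=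
    IsScalarTower.of_algebraMap_smul fun _ _ => rfl
  haveI := finitePresentation_sections_poly f hV hU e c hc hct
  haveI := M1.finitePresentation_sections hF hU
  haveI : Module.Finite (MvPolynomial (Fin N) Γ(Y, V)) Γ(F, U) := Module.Finite.trans Γ(X, U) _
  let φ : U → PrimeSpectrum (MvPolynomial (Fin N) Γ(Y, V)) := chartMap hU N (V := V)
  have hb := fun u : U => fibre_bridge f hV hU e _ hc hct u.2 F
  refine (hb ⟨x, hx⟩).2.2.2.2.trans ((isEquidimModule_fibLocMod_iff (φ ⟨x, hx⟩)).trans ?_)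
  have hle : ∀ u v : U, φ v ≤ φ u ↔ v.1 ⤳ u.1 := fun u v => by
    rw [PrimeSpectrum.le_iff_specializes, (isEmbedding_chartMap hU N hc).isInducing.specializes_iff]
    exact subtype_specializes_iff v u
  have hrd : ∀ u, rd (algProj Γ(Y, V) _) (φ u) = rd f u.1 := rd_chartMap f hV hU e N hc hct
  have hfib := fib_chartMap f hV hU e N hct
  have hrange : Module.support (MvPolynomial (Fin N) Γ(Y, V)) Γ(F, U) ⊆ Set.range φ := by
    rw [Module.support_eq_zeroLocus, range_chartMap hU N hc]
    refine PrimeSpectrum.zeroLocus_anti_mono fun a ha => Module.mem_annihilator.2 fun z => ?_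
    show c a • z = 0
    rw [show c a = 0 from ha, zero_smul]
  constructor
  · intro h hxT η hη he hηT h0 η' hη' he' hη'T
    obtain ⟨v, rfl⟩ : ∃ v : U, v.1 = η := ⟨⟨η, hη.mem_open U.2 hx⟩, rfl⟩
    obtain ⟨v', rfl⟩ : ∃ v : U, v.1 = η' := ⟨⟨η', hη'.mem_open U.2 hx⟩, rfl⟩
    rw [← hrd, ← hrd]
    exact h ((hb ⟨x, hx⟩).2.2.1.1 hxT) _ ((hle ⟨x, hx⟩ v).2 hη) ((hfib v ⟨x, hx⟩).1 he)
      ((hb v).2.2.1.1 hηT) ((hb v).2.1.symm.trans h0) _ ((hle ⟨x, hx⟩ v').2 hη') ((hfib v' ⟨x, hx⟩).1 he')
      ((hb v').2.2.1.1 hη'T)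
  · intro h hq η hη hp hηs h0 η' hη' hp' hη's
    obtain ⟨v, rfl⟩ := hrange hηs
    obtain ⟨v', rfl⟩ := hrange hη's
    rw [hrd, hrd]
    exact h ((hb ⟨x, hx⟩).2.2.1.2 hq) _ ((hle ⟨x, hx⟩ v).1 hη) ((hfib v ⟨x, hx⟩).2 hp)
      ((hb v).2.2.1.2 hηs) ((hb v).2.1.trans h0) _ ((hle ⟨x, hx⟩ v').1 hη') ((hfib v' ⟨x, hx⟩).2 hp')
      ((hb v').2.2.1.2 hη's)

theorem isOpen_equidim_hasSk (hF : CohB1.IsFP F) (hflat : FlatMod.IsFlatOver f F) (k : ℕ) (hk : 1 ≤ k) :
    IsOpen {x : X | EGA4.IsEquidimModule (CInt.fiberStalk f x) (fibStalk f F x) ∧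
      LocCoh.HasSk k (CInt.fiberStalk f x) (fibStalk f F x)} := by
  obtain ⟨h, hsk⟩ := fibData_mod f F hF hflat
  refine (congrArg IsOpen (Set.ext fun x => ?_)).mp (h.isOpen_equidim_sk hk)
  exact and_congr (isEquidim_fibStalk_iff f F hF x).symm (hsk k x).symm

end Groth.Agent.FibDepth5
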