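import Groth.Agent.Lib.FibDepth5.CodepthConstr
import Groth.Agent.Lib.FibreTop.Constr
import Groth.Agent.Lib.H12.Specialization
import Groth.Agent.Lib.VarDim.Irred
import Groth.Agent.Lib.AnPtsTop.Global

/-!
Local constructibility of fibrewise equidimensionality.
-/

universe u

open CategoryTheory AlgebraicGeometry TopologicalSpace Topology

set_option backward.isDefEq.respectTransparency false

namespace Groth.Agent.FibDepth5

open FibDim14

variable {X Y : Scheme.{u}} (f : X ⟶ Y) [LocallyOfFiniteType f]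

/-- All the components of the fibre through a point have one dimension. -/
theorem equidimAt_iff (x : X) :
    (∃ e : ℕ, ∀ Z ∈ irreducibleComponents (↥(f.fiber (f x)) : Type u), f.asFiber x ∈ Z →
        topologicalKrullDim (↥Z : Type u) = e) ↔
      ∀ e : ℕ, x ∈ FibreTop.fibClosure f {y | FlatMor.fibreDimAt f y ≤ (e : WithBot ℕ∞)} →
        FlatMor.fibreDimAt f x ≤ (e : WithBot ℕ∞) := by
  haveI : IsLocallyNoetherian (f.fiber (f x)) := LocallyOfFiniteType.isLocallyNoetherian (toPt f (f x))
  have hcl : ∀ z : f.fiber (f x), f.asFiber x ∈ closure {z} ↔ z ⤳ f.asFiber x := fun z => specializes_iff_mem_closure.symm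
  constructor
  · rintro ⟨e, he⟩ d hd
    let O : (f.fiber (f x)).Opens :=
      ⟨f.fiberι (f x) ⁻¹' {y | FlatMor.fibreDimAt f y ≤ (d : WithBot ℕ∞)},
        (isOpen_fibreDimAt_le f d).preimage (f.fiberι (f x)).continuous⟩
    have hO : f.asFiber x ∈ closure (Set.range O.ι) := by
      rw [Scheme.Opens.range_ι, (f.fiberι (f x)).isEmbedding.closure_eq_preimage_closure_image, Set.mem_preimage,
        f.fiberι_asFiber]
      refine closure_mono ?_ hd
      rintro y ⟨hy, hy'⟩
      obtain ⟨z, rfl⟩ : y ∈ Set.range (f.fiberι (f x)) := by rw [f.range_fiberι]; exact hy'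
      exact ⟨z, hy, rfl⟩
    obtain ⟨t, ht⟩ := H12.exists_specializes_of_mem_closure_range O.ι _ hO
    obtain ⟨η, hη, hmax⟩ := VarDim.exists_maximal_specializes (toPt f (f x)) (O.ι t)
    have h1 := he _ ((VarDim.maximal_iff_mem_irreducibleComponents η).1 hmax) ((hcl η).2 (hη.trans ht))
    rw [topologicalKrullDim_closure_eq_rd] at h1
    have h2 : rd f (f.fiberι (f x) η) = e := by exact_mod_cast h1
    have h3 : rd f (f.fiberι (f x) η) ≤ d :=
      fibreDimAt_le_iff f |>.1 (show FlatMor.fibreDimAt f (f.fiberι (f x) (O.ι t)) ≤ (d : WithBot ℕ∞) from t.2)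
        _ (hη.map (f.fiberι (f x)).continuous)
        (((Scheme.Hom.range_fiberι f (f x)).le ⟨η, rfl⟩ : _).trans ((Scheme.Hom.range_fiberι f (f x)).le ⟨O.ι t, rfl⟩).symm)
    refine (fibreDimAt_le_iff f).2 fun y hy hy' => ?_
    obtain ⟨z, rfl, hz⟩ := exists_fiber_pt f hy hy'
    obtain ⟨θ, hθ, hθmax⟩ := VarDim.exists_maximal_specializes (toPt f (f x)) z
    have h4 := he _ ((VarDim.maximal_iff_mem_irreducibleComponents θ).1 hθmax) ((hcl θ).2 (hθ.trans hz))
    rw [topologicalKrullDim_closure_eq_rd] at h4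
    have h5 : rd f (f.fiberι (f x) θ) = e := by exact_mod_cast h4
    have h6 : rd f (f.fiberι (f x) z) ≤ rd f (f.fiberι (f x) θ) := by
      by_cases hz' : θ = z
      · rw [hz']
      · exact (rd_lt_of_specializes (f := f) (hθ.map (f.fiberι (f x)).continuous)
          (fun h' => hz' ((f.fiberι (f x)).isEmbedding.injective h'))
          (((Scheme.Hom.range_fiberι f (f x)).le ⟨θ, rfl⟩ : _).trans ((Scheme.Hom.range_fiberι f (f x)).le ⟨z, rfl⟩).symm)).le
    omega
  · intro hall
    obtain ⟨x', -, -, hd, hmaxd⟩ := exists_fibreDimAt_eq f x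
    refine ⟨rd f x', fun Z hZ hxZ => ?_⟩
    obtain ⟨η, rfl, hmax⟩ := VarDim.exists_generic_of_mem_irreducibleComponents hZ
    obtain ⟨h1, h2⟩ := fiberι_mem f ((hcl η).1 hxZ)
    rw [topologicalKrullDim_closure_eq_rd]
    have h3 : FlatMor.fibreDimAt f (f.fiberι (f x) η) ≤ (rd f (f.fiberι (f x) η) : WithBot ℕ∞) := by
      refine (fibreDimAt_le_iff f).2 fun y hy hy' => ?_
      have := (isMaxFib_fiberι f (f x) η).2 hmax y hy hy'
      rw [this]
    have h4 := hall (rd f (f.fiberι (f x) η)) (FibreTop.mem_fibClosure.2 (by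
      refine closure_mono (Set.singleton_subset_iff.2 ?_) (specializes_iff_mem_closure.1 h1)
      exact ⟨h3, h2⟩))
    rw [hd] at h4
    have h5 : rd f x' ≤ rd f (f.fiberι (f x) η) := by exact_mod_cast h4
    exact_mod_cast le_antisymm (hmaxd _ h1 h2) h5

theorem isLocallyConstructible_equidimAt [LocallyOfFinitePresentation f] :
    IsLocallyConstructible {x : X | ∃ e : ℕ,
      ∀ Z ∈ irreducibleComponents (↥(f.fiber (f x)) : Type u), f.asFiber x ∈ Z →
        topologicalKrullDim (↥Z : Type u) = e} := by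
  let W : ℕ → X.Opens := fun K => ⟨_, isOpen_fibreDimAt_le f K⟩
  have hW : IsOpenCover W := by
    refine eq_top_iff.2 fun x _ => Opens.mem_iSup.2 ?_
    obtain ⟨x', -, -, h', -⟩ := exists_fibreDimAt_eq f x
    exact ⟨rd f x', h'.le⟩
  refine IsLocallyConstructible.of_isOpenCover hW fun K => ?_
  have hL : IsLocallyConstructible (⋂ e : Fin K,
      (FibreTop.fibClosure f {y | FlatMor.fibreDimAt f y ≤ ((e : ℕ) : WithBot ℕ∞)})ᶜ ∪
        {y | FlatMor.fibreDimAt f y ≤ ((e : ℕ) : WithBot ℕ∞)}) :=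
    IsLocallyConstructible.iInter fun e => (AnPtsTop.isLocallyConstructible_compl
      (FibreTop.isLocallyConstructible_fibClosure f (isLocallyConstructible_fibreDimAt_le f e))).union
      (isLocallyConstructible_fibreDimAt_le f e)
  refine (congrArg IsLocallyConstructible (Set.ext fun u => ?_)).mp
    (hL.preimage_of_isOpenEmbedding (W K).2.isOpenEmbedding_subtypeVal)
  have hK : FlatMor.fibreDimAt f u.1 ≤ (K : WithBot ℕ∞) := u.2
  rw [Set.mem_preimage, Set.mem_preimage, Set.mem_setOf_eq, equidimAt_iff, Set.mem_iInter]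
  refine ⟨fun h e he => ?_, fun h e => ?_⟩
  · by_cases heK : e < K
    · exact (h ⟨e, heK⟩).resolve_left fun h' => h' he
    · exact hK.trans (by exact_mod_cast Nat.le_of_not_lt heK)
  · exact (em _).symm.imp id (h e)

end Groth.Agent.FibDepth5
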