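import Groth.Agent.Lib.FibDepth5.BaseChange

/-!
The projective dimension of the fibres is invariant under any base change.
-/

universe u

open TensorProduct IsLocalRing

attribute [local instance] MvPolynomial.algebraMvPolynomial

namespace Groth.Agent.FibDepth5

variable {A : Type u} [CommRing A] {N : ℕ}

section Residue

variable (p : Ideal A) [p.IsPrime]

theorem exists_smul_eq_map (y : MvPolynomial (Fin N) p.ResidueField) :
    ∃ s ∉ p, ∃ z : MvPolynomial (Fin N) A,
      MvPolynomial.C (algebraMap A p.ResidueField s) * y = algebraMap _ (MvPolynomial (Fin N) p.ResidueField) z := by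
  induction y using MvPolynomial.induction_on with
  | C c =>
    obtain ⟨⟨a, ⟨s, hs⟩⟩, h⟩ := IsLocalization.surj (nonZeroDivisors (A ⧸ p)) c
    obtain ⟨a, rfl⟩ := Ideal.Quotient.mk_surjective a
    obtain ⟨s, rfl⟩ := Ideal.Quotient.mk_surjective s
    rw [Ideal.algebraMap_quotient_residueField_mk, Ideal.algebraMap_quotient_residueField_mk, mul_comm] at h
    refine ⟨s, fun hsp => nonZeroDivisors.ne_zero hs (Ideal.Quotient.eq_zero_iff_mem.2 hsp), MvPolynomial.C a, ?_⟩
    rw [← map_mul, h]
    exact (MvPolynomial.map_C _ a).symm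
  | add y₁ y₂ h₁ h₂ =>
    obtain ⟨s₁, hs₁, z₁, e₁⟩ := h₁
    obtain ⟨s₂, hs₂, z₂, e₂⟩ := h₂
    refine ⟨s₁ * s₂, fun h => (‹p.IsPrime›.mem_or_mem h).elim hs₁ hs₂,
      MvPolynomial.C s₂ * z₁ + MvPolynomial.C s₁ * z₂, ?_⟩
    rw [map_add, map_mul (algebraMap (MvPolynomial (Fin N) A) _), map_mul (algebraMap (MvPolynomial (Fin N) A) _),
      ← e₁, ← e₂, show algebraMap _ (MvPolynomial (Fin N) p.ResidueField) (MvPolynomial.C s₂) = _ from
        MvPolynomial.map_C _ s₂, show algebraMap _ (MvPolynomial (Fin N) p.ResidueField) (MvPolynomial.C s₁) = _ from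
        MvPolynomial.map_C _ s₁, map_mul, map_mul]
    ring
  | mul_X y i h =>
    obtain ⟨s, hs, z, e⟩ := h
    refine ⟨s, hs, z * MvPolynomial.X i, ?_⟩
    rw [map_mul, ← e, show algebraMap _ (MvPolynomial (Fin N) p.ResidueField) (MvPolynomial.X i) = _ from
      MvPolynomial.map_X _ i]
    ring

theorem mem_map_of_map_eq_zero {z : MvPolynomial (Fin N) A}
    (hz : algebraMap _ (MvPolynomial (Fin N) p.ResidueField) z = 0) :
    z ∈ p.map (algebraMap A (MvPolynomial (Fin N) A)) := by
  refine MvPolynomial.mem_map_C_iff.2 fun m => ?_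
  rw [← Ideal.algebraMap_residueField_eq_zero, ← MvPolynomial.coeff_map]
  exact congrArg (MvPolynomial.coeff m) hz |>.trans (MvPolynomial.coeff_zero m)

/-- A prime over `p` comes from the fibre. -/
theorem exists_residue_prime (q : PrimeSpectrum (MvPolynomial (Fin N) A))
    (hq : q.asIdeal.comap (algebraMap A _) = p) :
    ∃ Q : PrimeSpectrum (MvPolynomial (Fin N) p.ResidueField),
      PrimeSpectrum.comap (algebraMap (MvPolynomial (Fin N) A) _) Q = q := by
  let P := MvPolynomial (Fin N) A
  let P' := MvPolynomial (Fin N) p.ResidueField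
  have hle : ∀ z : P, algebraMap P P' z ∈ q.asIdeal.map (algebraMap P P') → z ∈ q.asIdeal := by
    intro z hz
    suffices ∀ y ∈ q.asIdeal.map (algebraMap P P'), ∃ s ∉ p, ∃ w ∈ q.asIdeal,
        MvPolynomial.C (algebraMap A p.ResidueField s) * y = algebraMap P P' w by
      obtain ⟨s, hs, w, hw, e⟩ := this _ hz
      rw [← show algebraMap P P' (algebraMap A P s) = _ from MvPolynomial.map_C _ s, ← map_mul, ← sub_eq_zero,
        ← map_sub] at e
      have h1 : algebraMap A P s * z - w ∈ q.asIdeal :=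
        (Ideal.map_le_iff_le_comap.2 hq.ge) (mem_map_of_map_eq_zero p e)
      have h2 : algebraMap A P s * z ∈ q.asIdeal := by simpa using q.asIdeal.add_mem h1 hw
      exact (q.2.mem_or_mem h2).resolve_left fun h => hs (hq ▸ h)
    intro y hy
    induction hy using Submodule.span_induction with
    | mem y hy =>
      obtain ⟨w, hw, rfl⟩ := hy
      exact ⟨1, fun h => ‹p.IsPrime›.ne_top ((Ideal.eq_top_iff_one _).2 h), w, hw, by rw [map_one, map_one, one_mul]⟩
    | zero => exact ⟨1, fun h => ‹p.IsPrime›.ne_top ((Ideal.eq_top_iff_one _).2 h), 0, zero_mem _, by simp⟩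
    | add y₁ y₂ _ _ h₁ h₂ =>
      obtain ⟨s₁, hs₁, w₁, hw₁, e₁⟩ := h₁
      obtain ⟨s₂, hs₂, w₂, hw₂, e₂⟩ := h₂
      refine ⟨s₁ * s₂, fun h => (‹p.IsPrime›.mem_or_mem h).elim hs₁ hs₂,
        algebraMap A P s₂ * w₁ + algebraMap A P s₁ * w₂,
        add_mem (Ideal.mul_mem_left _ _ hw₁) (Ideal.mul_mem_left _ _ hw₂), ?_⟩
      rw [map_add, map_mul (algebraMap P P'), map_mul (algebraMap P P'),
        show algebraMap P P' (algebraMap A P s₂) = _ from MvPolynomial.map_C _ s₂,
        show algebraMap P P' (algebraMap A P s₁) = _ from MvPolynomial.map_C _ s₁, ← e₁, ← e₂, map_mul, map_mul]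
      ring
    | smul c y _ h =>
      obtain ⟨s, hs, w, hw, e⟩ := h
      obtain ⟨t, ht, c', ec⟩ := exists_smul_eq_map p c
      refine ⟨t * s, fun h => (‹p.IsPrime›.mem_or_mem h).elim ht hs, c' * w, Ideal.mul_mem_left _ _ hw, ?_⟩
      rw [map_mul (algebraMap P P'), ← ec, ← e, smul_eq_mul, map_mul, map_mul]
      ring
  have hdis : Disjoint (q.asIdeal.map (algebraMap P P') : Set P')
      ((q.asIdeal.primeCompl.map (algebraMap P P').toMonoidHom : Submonoid P') : Set P') := by
    refine Set.disjoint_left.2 ?_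
    rintro _ hy ⟨z, hz, rfl⟩
    exact hz (hle z hy)
  obtain ⟨Q, hQ, hle', hQS⟩ := Ideal.exists_le_prime_disjoint _ _ hdis
  refine ⟨⟨Q, hQ⟩, PrimeSpectrum.ext (le_antisymm (fun z hz => ?_) (Ideal.map_le_iff_le_comap.1 hle'))⟩
  by_contra h
  exact Set.disjoint_left.1 hQS hz ⟨z, h, rfl⟩

/-- Passing to the residue field does not change the fibre local ring. -/
theorem flat_fibHom_residue (Q : PrimeSpectrum (MvPolynomial (Fin N) p.ResidueField)) :
    (fibHom (PrimeSpectrum.comap (algebraMap (MvPolynomial (Fin N) A) _) Q).asIdeal Q.asIdeal rfl).Flat := by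
  let P := MvPolynomial (Fin N) A
  let P' := MvPolynomial (Fin N) p.ResidueField
  let q := (PrimeSpectrum.comap (algebraMap P P') Q).asIdeal
  let L := Localization.AtPrime q
  let L' := Localization.AtPrime Q.asIdeal
  have hp : q.comap (algebraMap A P) = p := by
    ext a
    show algebraMap P P' (algebraMap A P a) ∈ Q.asIdeal ↔ _
    rw [show algebraMap P P' (algebraMap A P a) = _ from MvPolynomial.map_C _ a]
    refine ⟨fun h => ?_, fun h => ?_⟩
    · by_contra hne
      exact Q.2.ne_top (Ideal.eq_top_of_isUnit_mem _ h ((isUnit_iff_ne_zero.2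
        fun h0 => hne (Ideal.algebraMap_residueField_eq_zero.1 h0)).map _))
    · rw [Ideal.algebraMap_residueField_eq_zero.2 h, map_zero]
      exact zero_mem _
  have hbot : ((Q.asIdeal.comap (algebraMap p.ResidueField P')).map (algebraMap p.ResidueField L')) = ⊥ := by
    rw [Ideal.eq_bot_of_prime (Q.asIdeal.comap (algebraMap p.ResidueField P')), Ideal.map_bot]
  refine RingHom.Flat.of_bijective ⟨?_, ?_⟩
  · rw [injective_iff_map_eq_zero]
    intro x hx
    obtain ⟨x, rfl⟩ := Ideal.Quotient.mk_surjective x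
    rw [fibHom, Ideal.quotientMap_mk, Ideal.Quotient.eq_zero_iff_mem, hbot, Ideal.mem_bot] at hx
    obtain ⟨z, t, rfl⟩ := IsLocalization.exists_mk'_eq q.primeCompl x
    rw [Localization.localRingHom_mk', IsLocalization.mk'_eq_zero_iff] at hx
    obtain ⟨⟨m, hm⟩, hmz⟩ := hx
    have hz : algebraMap P P' z = 0 :=
      (mul_eq_zero.1 hmz).resolve_left fun h => hm (by show m ∈ Q.asIdeal; rw [show m = 0 from h]; exact zero_mem _)
    refine Ideal.Quotient.eq_zero_iff_mem.2 ?_
    rw [IsLocalization.mk'_mem_iff, IsScalarTower.algebraMap_eq A P L, ← Ideal.map_map, hp]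
    exact Ideal.mem_map_of_mem _ (mem_map_of_map_eq_zero p hz)
  · intro y
    obtain ⟨y, rfl⟩ := Ideal.Quotient.mk_surjective y
    obtain ⟨y, ⟨t, ht⟩, rfl⟩ := IsLocalization.exists_mk'_eq Q.asIdeal.primeCompl y
    obtain ⟨s₁, hs₁, z, ez⟩ := exists_smul_eq_map p y
    obtain ⟨s₂, hs₂, w, ew⟩ := exists_smul_eq_map p t
    have hC : ∀ s, algebraMap P P' (algebraMap A P s) = MvPolynomial.C (algebraMap A p.ResidueField s) :=
      fun s => MvPolynomial.map_C _ s
    have hunit : ∀ s ∉ p, IsUnit (MvPolynomial.C (algebraMap A p.ResidueField s) : P') := fun s hs =>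
      (isUnit_iff_ne_zero.2 fun h => hs (Ideal.algebraMap_residueField_eq_zero.1 h)).map _
    have hden : algebraMap A P s₁ * w ∈ q.primeCompl := by
      intro h
      have h' : algebraMap P P' (algebraMap A P s₁ * w) ∈ Q.asIdeal := h
      rw [map_mul, hC, ← ew, ← mul_assoc] at h'
      rcases Q.2.mem_or_mem h' with h'' | h''
      · exact Q.2.ne_top (Ideal.eq_top_of_isUnit_mem _ h'' ((hunit s₁ hs₁).mul (hunit s₂ hs₂)))
      · exact ht h''
    refine ⟨Ideal.Quotient.mk _ (IsLocalization.mk' L (algebraMap A P s₂ * z) ⟨_, hden⟩), ?_⟩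
    rw [fibHom, Ideal.quotientMap_mk, Localization.localRingHom_mk']
    congr 1
    refine IsLocalization.mk'_eq_of_eq ?_
    show algebraMap P P' (algebraMap A P s₁ * w) * y = t * algebraMap P P' (algebraMap A P s₂ * z)
    rw [map_mul, map_mul, hC, hC, ← ez, ← ew]
    ring

end Residue

/-- Extensions of fields are flat on the fibres. -/
theorem flat_fibHom_field {k k' : Type u} [Field k] [Field k'] [Algebra k k']
    (Q : PrimeSpectrum (MvPolynomial (Fin N) k')) :
    (fibHom (PrimeSpectrum.comap (algebraMap (MvPolynomial (Fin N) k) _) Q).asIdeal Q.asIdeal rfl).Flat := by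
  let P := MvPolynomial (Fin N) k
  let P' := MvPolynomial (Fin N) k'
  haveI : Module.Flat P P' := Module.Flat.isBaseChange k P k' P'
    (Algebra.IsPushout.out (R := k) (S := P) (R' := k') (S' := P'))
  let q := (PrimeSpectrum.comap (algebraMap P P') Q).asIdeal
  have hI : (q.comap (algebraMap k P)).map (algebraMap k (Localization.AtPrime q)) = ⊥ := by
    rw [Ideal.eq_bot_of_prime (q.comap (algebraMap k P)), Ideal.map_bot]
  have hJ : (Q.asIdeal.comap (algebraMap k' P')).map (algebraMap k' (Localization.AtPrime Q.asIdeal)) = ⊥ := by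
    rw [Ideal.eq_bot_of_prime (Q.asIdeal.comap (algebraMap k' P')), Ideal.map_bot]
  let e : EGA4.FibLocRing k P q ≃+* Localization.AtPrime q :=
    (Ideal.quotEquivOfEq hI).trans (RingEquiv.quotientBot _)
  let e' : EGA4.FibLocRing k' P' Q.asIdeal ≃+* Localization.AtPrime Q.asIdeal :=
    (Ideal.quotEquivOfEq hJ).trans (RingEquiv.quotientBot _)
  have he : fibHom q Q.asIdeal rfl = (e'.symm.toRingHom.comp
      (Localization.localRingHom q Q.asIdeal (algebraMap P P') rfl)).comp e.toRingHom := by
    refine RingHom.ext fun x => ?_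
    obtain ⟨x, rfl⟩ := Ideal.Quotient.mk_surjective x
    rw [fibHom, Ideal.quotientMap_mk]
    exact (e'.symm_apply_apply _).symm
  rw [he]
  exact (RingHom.Flat.of_bijective e.bijective).comp
    (RingHom.Flat.comp (RingHom.Flat.localRingHom (RingHom.flat_algebraMap_iff.2 inferInstance) Q.asIdeal q rfl)
      (RingHom.Flat.of_bijective e'.symm.bijective))

section General

variable {A' : Type u} [CommRing A'] [Algebra A A'] {M : Type u} [AddCommGroup M]
  [Module (MvPolynomial (Fin N) A) M] [Module.Finite (MvPolynomial (Fin N) A) M]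
  {M' : Type u} [AddCommGroup M'] [Module (MvPolynomial (Fin N) A) M'] [Module (MvPolynomial (Fin N) A') M']
  [IsScalarTower (MvPolynomial (Fin N) A) (MvPolynomial (Fin N) A') M'] {j : M →ₗ[MvPolynomial (Fin N) A] M'}

/-- **Invariance under base change.** -/
theorem bc_invariant (hj : IsBaseChange (MvPolynomial (Fin N) A') j)
    (q' : PrimeSpectrum (MvPolynomial (Fin N) A')) :
    (PrimeSpectrum.comap (algebraMap (MvPolynomial (Fin N) A) _) q' ∈ Module.support _ M ↔
        q' ∈ Module.support _ M') ∧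
      ∀ i, PDLoc A M i (PrimeSpectrum.comap (algebraMap (MvPolynomial (Fin N) A) _) q') ↔ PDLoc A' M' i q' := by
  let P := MvPolynomial (Fin N) A
  let P' := MvPolynomial (Fin N) A'
  let p' := q'.asIdeal.comap (algebraMap A' P')
  let p := p'.comap (algebraMap A A')
  let k := p.ResidueField
  let k' := p'.ResidueField
  let Pk := MvPolynomial (Fin N) k
  let Pk' := MvPolynomial (Fin N) k'
  letI : Algebra k k' := (Ideal.ResidueField.map p p' (algebraMap A A') rfl).toAlgebra
  obtain ⟨Q', hQ'⟩ := exists_residue_prime p' q' rfl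
  have hcomm : (algebraMap Pk Pk').comp (algebraMap P Pk) = (algebraMap P' Pk').comp (algebraMap P P') := by
    refine MvPolynomial.ringHom_ext (fun a => ?_) (fun i => ?_)
    · show MvPolynomial.map _ (MvPolynomial.map _ (MvPolynomial.C a)) = MvPolynomial.map _ (MvPolynomial.map _ (MvPolynomial.C a))
      rw [MvPolynomial.map_C, MvPolynomial.map_C, MvPolynomial.map_C, MvPolynomial.map_C]
      exact congrArg MvPolynomial.C (Ideal.ResidueField.map_algebraMap p p' (algebraMap A A') rfl a)
    · show MvPolynomial.map _ (MvPolynomial.map _ (MvPolynomial.X i)) = MvPolynomial.map _ (MvPolynomial.map _ (MvPolynomial.X i))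
      simp only [MvPolynomial.map_X]
  let Q := PrimeSpectrum.comap (algebraMap Pk Pk') Q'
  have hQ : PrimeSpectrum.comap (algebraMap P Pk) Q = PrimeSpectrum.comap (algebraMap P P') q' := by
    rw [← PrimeSpectrum.comap_comp_apply, hcomm, PrimeSpectrum.comap_comp_apply]
    exact congrArg _ hQ'
  let Mk := Pk ⊗[P] M
  let Mk' := Pk' ⊗[P'] M'
  haveI : Module.Finite P' M' := Module.Finite.equiv (R := P') hj.equiv
  haveI : IsScalarTower P P' Pk' := IsScalarTower.of_algebraMap_eq fun a => by
    refine RingHom.congr_fun (MvPolynomial.ringHom_ext (fun c => ?_) fun i => ?_ :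
      algebraMap P Pk' = (algebraMap P' Pk').comp (algebraMap P P')) a
    · show MvPolynomial.map _ (MvPolynomial.C c) = MvPolynomial.map _ (MvPolynomial.map _ (MvPolynomial.C c))
      rw [MvPolynomial.map_C, MvPolynomial.map_C, MvPolynomial.map_C]
      exact congrArg MvPolynomial.C (IsScalarTower.algebraMap_apply A A' k' c)
    · show MvPolynomial.map _ (MvPolynomial.X i) = MvPolynomial.map _ (MvPolynomial.map _ (MvPolynomial.X i))
      simp only [MvPolynomial.map_X]
  haveI : IsScalarTower P Pk Pk' := IsScalarTower.of_algebraMap_eq fun a => (IsScalarTower.algebraMap_apply P P' Pk' a).trans (RingHom.congr_fun hcomm a).symm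
  haveI : IsScalarTower P Pk' Mk' := inferInstance
  haveI : IsScalarTower P P' Mk' := IsScalarTower.of_algebraMap_smul (R := P) (A := P') (M := Mk') fun a z => by
    rw [← algebraMap_smul (R := P') (M := Mk') Pk' (algebraMap P P' a), ← IsScalarTower.algebraMap_apply P P' Pk',
      algebraMap_smul]
  haveI : SMulCommClass P' Pk Pk' := ⟨fun a b z => by rw [Algebra.smul_def, Algebra.smul_def, Algebra.smul_def, Algebra.smul_def, mul_left_comm]⟩
  letI iPk : Module Pk Mk' := TensorProduct.leftModule
  haveI t1 : IsScalarTower Pk Pk' Mk' := TensorProduct.isScalarTower_left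
  haveI t2 : IsScalarTower P Pk Mk' := TensorProduct.isScalarTower_left
  let c : M →ₗ[P] Mk' := ((TensorProduct.mk P' Pk' M' 1).restrictScalars P) ∘ₗ j
  have hc : IsBaseChange Pk' c := hj.comp (TensorProduct.isBaseChange P' M' Pk')
  have hι : IsBaseChange Pk (TensorProduct.mk P Pk M 1) := TensorProduct.isBaseChange P M Pk
  let h : Mk →ₗ[Pk] Mk' := hι.lift c
  have hh : IsBaseChange Pk' h := hι.of_comp (by rw [hι.lift_comp]; exact hc)
  obtain ⟨a1, a2⟩ := bc_of_flat hι Q (flat_fibHom_residue p Q)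
  obtain ⟨b1, b2⟩ := bc_of_flat hh Q' (flat_fibHom_field Q')
  obtain ⟨c1, c2⟩ := bc_of_flat (TensorProduct.isBaseChange P' M' Pk') Q' (flat_fibHom_residue p' Q')
  rw [hQ] at a1 a2
  rw [hQ'] at c1 c2
  exact ⟨a1.trans (b1.trans c1.symm), fun i => (a2 i).trans ((b2 i).trans (c2 i).symm)⟩

end General

end Groth.Agent.FibDepth5
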