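import Groth.Agent.Lib.FibDepth5.UpSetConstr
import Groth.Agent.Lib.FibreLocus.Fibre
import Groth.Agent.Lib.RegSmooth17.Scheme
import Groth.Agent.Lib.SmoothReg17.Basic
import Groth.Agent.Lib.SmoothPt12.Basic
import Groth.Agent.Lib.DimF18.Prod
import Groth.Prelude.Def_FDesc
import Groth.Prelude.Def_CAlg

/-!
The geometric condition `(R_k)` of schemes over a field.
-/

universe u

open CategoryTheory CategoryTheory.Limits AlgebraicGeometry TopologicalSpace Topology IsLocalRing

set_option backward.isDefEq.respectTransparency false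

namespace Groth.Agent.FibDepth5

open FibDim14

theorem exists_generization_of_prime {X : Scheme.{u}} {x : X} (p : Ideal (X.presheaf.stalk x)) [p.IsPrime] :
    ∃ y, y ⤳ x ∧ Nonempty (Localization.AtPrime p ≃+* X.presheaf.stalk y) := by
  obtain ⟨U, hU, hxU, -⟩ := exists_isAffineOpen_mem_and_subset (show x ∈ (⊤ : X.Opens) from trivial)
  letI := X.presheaf.algebra_section_stalk (U := U) ⟨x, hxU⟩
  haveI := hU.isLocalization_stalk ⟨x, hxU⟩
  let P := hU.primeIdealOf ⟨x, hxU⟩
  let Q : PrimeSpectrum Γ(X, U) := PrimeSpectrum.comap (algebraMap Γ(X, U) (X.presheaf.stalk x)) ⟨p, ‹_›⟩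
  have hQP : Q ≤ P := by
    intro a ha
    by_contra hne
    exact Ideal.IsPrime.ne_top ‹p.IsPrime› (Ideal.eq_top_of_isUnit_mem _ ha
      (IsLocalization.map_units (X.presheaf.stalk x) (⟨a, hne⟩ : P.asIdeal.primeCompl)))
  have hy : hU.fromSpec Q ∈ U := hU.range_fromSpec.le ⟨Q, rfl⟩
  have hp' : hU.primeIdealOf ⟨hU.fromSpec Q, hy⟩ = Q :=
    hU.fromSpec.isOpenEmbedding.injective (hU.fromSpec_primeIdealOf ⟨hU.fromSpec Q, hy⟩)
  refine ⟨hU.fromSpec Q, ?_, ?_⟩
  · have := ((PrimeSpectrum.le_iff_specializes Q P).1 hQP).map hU.fromSpec.continuous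
    rwa [hU.fromSpec_primeIdealOf ⟨x, hxU⟩] at this
  · letI := X.presheaf.algebra_section_stalk (U := U) ⟨hU.fromSpec Q, hy⟩
    haveI := hU.isLocalization_stalk ⟨hU.fromSpec Q, hy⟩
    haveI h1 : IsLocalization.AtPrime (Localization.AtPrime p) Q.asIdeal :=
      IsLocalization.isLocalization_isLocalization_atPrime_isLocalization P.asIdeal.primeCompl
        (Localization.AtPrime p) p
    have h2 : IsLocalization Q.asIdeal.primeCompl (X.presheaf.stalk (hU.fromSpec Q)) := by
      have := hU.isLocalization_stalk ⟨hU.fromSpec Q, hy⟩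
      rwa [hp'] at this
    haveI := h2
    exact ⟨(IsLocalization.algEquiv Q.asIdeal.primeCompl (Localization.AtPrime p)
      (X.presheaf.stalk (hU.fromSpec Q))).toRingEquiv⟩

theorem exists_prime_of_generization {X : Scheme.{u}} {x y : X} (h : y ⤳ x) :
    ∃ (p : Ideal (X.presheaf.stalk x)) (_ : p.IsPrime),
      Nonempty (Localization.AtPrime p ≃+* X.presheaf.stalk y) := by
  obtain ⟨U, hU, hxU, -⟩ := exists_isAffineOpen_mem_and_subset (show x ∈ (⊤ : X.Opens) from trivial)
  have hyU : y ∈ U := h.mem_open U.2 hxU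
  letI := X.presheaf.algebra_section_stalk (U := U) ⟨x, hxU⟩
  haveI := hU.isLocalization_stalk ⟨x, hxU⟩
  letI := X.presheaf.algebra_section_stalk (U := U) ⟨y, hyU⟩
  haveI := hU.isLocalization_stalk ⟨y, hyU⟩
  let P := hU.primeIdealOf ⟨x, hxU⟩
  let Q := hU.primeIdealOf ⟨y, hyU⟩
  have hQP : Q ≤ P := by
    rw [PrimeSpectrum.le_iff_specializes, ← hU.fromSpec.isOpenEmbedding.isInducing.specializes_iff,
      hU.fromSpec_primeIdealOf, hU.fromSpec_primeIdealOf]
    exact h
  let p := Q.asIdeal.map (algebraMap Γ(X, U) (X.presheaf.stalk x))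
  have hd : Disjoint (P.asIdeal.primeCompl : Set Γ(X, U)) (Q.asIdeal : Set Γ(X, U)) :=
    Set.disjoint_left.2 fun a ha haQ => ha (hQP haQ)
  haveI : p.IsPrime := IsLocalization.isPrime_of_isPrime_disjoint P.asIdeal.primeCompl _ _ Q.2 hd
  have hc : p.comap (algebraMap Γ(X, U) (X.presheaf.stalk x)) = Q.asIdeal :=
    IsLocalization.comap_map_of_isPrime_disjoint P.asIdeal.primeCompl _ Q.2 hd
  refine ⟨p, ‹_›, ?_⟩
  have h1 : IsLocalization (p.comap (algebraMap Γ(X, U) (X.presheaf.stalk x))).primeCompl (Localization.AtPrime p) :=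
    IsLocalization.isLocalization_isLocalization_atPrime_isLocalization P.asIdeal.primeCompl
      (Localization.AtPrime p) p
  haveI : IsLocalization Q.asIdeal.primeCompl (Localization.AtPrime p) := by simpa only [hc] using h1
  exact ⟨(IsLocalization.algEquiv Q.asIdeal.primeCompl (Localization.AtPrime p)
      (X.presheaf.stalk y)).toRingEquiv⟩

theorem height_le_iff_of_equiv {R S : Type u} [CommRing R] [CommRing S] (p : Ideal R) [p.IsPrime]
    (e : Localization.AtPrime p ≃+* S) (k : ℕ) : p.height ≤ k ↔ ringKrullDim S ≤ (k : WithBot ℕ∞) := by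
  rw [← ringKrullDim_eq_of_ringEquiv e, IsLocalization.AtPrime.ringKrullDim_eq_height p]
  exact WithBot.coe_le_coe.symm

/-- `(R_k)` of a local ring of a scheme. -/
theorem hasRk_stalk_iff (X : Scheme.{u}) (x : X) (k : ℕ) :
    LocCoh.HasRk k (X.presheaf.stalk x) ↔
      ∀ y, y ⤳ x → ringKrullDim (X.presheaf.stalk y) ≤ (k : WithBot ℕ∞) →
        IsRegularLocalRing (X.presheaf.stalk y) := by
  constructor
  · intro h y hy hd
    obtain ⟨p, _, ⟨e⟩⟩ := exists_prime_of_generization hy
    haveI := h p ((height_le_iff_of_equiv p e k).2 hd)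
    exact IsRegularLocalRing.of_ringEquiv e
  · intro h p _ hp
    obtain ⟨y, hy, ⟨e⟩⟩ := exists_generization_of_prime p
    haveI := h y hy ((height_le_iff_of_equiv p e k).1 hp)
    exact IsRegularLocalRing.of_ringEquiv e.symm

variable {k : Type u} [Field k] {Z : Scheme.{u}}

theorem isRegular_of_mem_smoothLocus (p : Z ⟶ Spec (CommRingCat.of k)) [LocallyOfFinitePresentation p] (z : Z)
    (hz : z ∈ p.smoothLocus) : IsRegularLocalRing (Z.presheaf.stalk z) := by
  obtain ⟨U, hzU, hU⟩ := (Descend.smooth_nhd_iff_mem_smoothLocus p z).2 hz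
  haveI := hU
  haveI := SmoothReg17.isRegularLocalRing_stalk (U.ι ≫ p) ⟨z, hzU⟩
  exact IsRegularLocalRing.of_ringEquiv (U.stalkIso ⟨z, hzU⟩).commRingCatIsoToRingEquiv

/-- The geometric condition `(R_n)` in terms of the smooth locus. -/
theorem geomRk_iff (p : Z ⟶ Spec (CommRingCat.of k)) [LocallyOfFinitePresentation p] (z : Z) (n : ℕ) :
    (∀ (K : Type u) [Field K] [Algebra k K] (z' : ↥(FBase.bc p K)), (FBase.bcπ p K).base z' = z →
        LocCoh.HasRk n ((FBase.bc p K).presheaf.stalk z')) ↔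
      ∀ w, w ⤳ z → ringKrullDim (Z.presheaf.stalk w) ≤ (n : WithBot ℕ∞) → w ∈ p.smoothLocus := by
  have hsq : ∀ (K : Type u) [Field K] [Algebra k K], IsPullback (FBase.bcπ p K)
      (pullback.snd p (Spec.map (CommRingCat.ofHom (algebraMap k K)))) p
      (Spec.map (CommRingCat.ofHom (algebraMap k K))) := fun K _ _ => IsPullback.of_hasPullback _ _
  constructor
  · intro h w hw hd
    let K := AlgebraicClosure k
    let q : FBase.bc p K ⟶ Spec (CommRingCat.of K) := pullback.snd p (Spec.map (CommRingCat.ofHom (algebraMap k K)))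
    haveI : LocallyOfFinitePresentation q := MorphismProperty.of_isPullback (hsq K) inferInstance
    obtain ⟨z', hz', -⟩ := DimF18.exists_over (hsq K) z
    haveI : Flat (FBase.bcπ p K) := MorphismProperty.of_isPullback (hsq K).flip inferInstance
    rw [← hz'] at hw
    obtain ⟨v, hv, hvw⟩ := DimF18.exists_lift_specializes (FBase.bcπ p K) hw
    obtain ⟨m, hm, hmw, hmd'⟩ := DimF18.exists_sdim_eq (hsq K) v
    have hmd : VarDim.sdim q m = VarDim.sdim p (FBase.bcπ p K v) := hmd'
    have hdim := DimF18.localDim_bc (hsq K) m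
    obtain ⟨b, hb, hb'⟩ := CMEquiDim4.exists_stalk_dim q m
    obtain ⟨c, hc, hc'⟩ := CMEquiDim4.exists_stalk_dim p w
    rw [hb', hmw, hvw, hc', hmd, hvw] at hdim
    have hbc : b = c := by
      have := Nat.cast_inj.1 hdim
      omega
    haveI := (hasRk_stalk_iff _ z' n).1 (h K z' hz') m (hm.trans hv) (by rw [hb, hbc, ← hc]; exact hd)
    have hs : m ∈ q.smoothLocus := RegSmooth17.mem_smoothLocus_of_isRegularLocalRing q m
      (RegSmooth17.formallySmooth_residue_of_perfectField q m)
    have := Descend.mem_smoothLocus_of_flat_baseChange (hsq K) m hs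
    rwa [hmw, hvw] at this
  · intro h K _ _ z' hz'
    rw [hasRk_stalk_iff]
    intro m hm hd
    let q : FBase.bc p K ⟶ Spec (CommRingCat.of K) := pullback.snd p (Spec.map (CommRingCat.ofHom (algebraMap k K)))
    haveI : LocallyOfFinitePresentation q := MorphismProperty.of_isPullback (hsq K) inferInstance
    have hdim := DimF18.localDim_bc (hsq K) m
    have hle : VarDim.sdim q m ≤ VarDim.sdim p (FBase.bcπ p K m) := (DimF18.sdim_bc (hsq K) m).1
    obtain ⟨b, hb, hb'⟩ := CMEquiDim4.exists_stalk_dim q m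
    obtain ⟨c, hc, hc'⟩ := CMEquiDim4.exists_stalk_dim p (FBase.bcπ p K m)
    rw [hb', hc'] at hdim
    have hbc : c ≤ b := by
      have := Nat.cast_inj.1 hdim
      omega
    rw [hb] at hd
    have hd' : b ≤ n := by exact_mod_cast hd
    have hw := h (FBase.bcπ p K m) (hz' ▸ hm.map (FBase.bcπ p K).continuous)
      (by rw [hc]; exact_mod_cast hbc.trans hd')
    refine isRegular_of_mem_smoothLocus q m ?_
    rw [← Descend.smooth_nhd_iff_mem_smoothLocus] at hw ⊢
    exact FibreLocus.isPtLocal_smoothPt.bc (hsq K) m hw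

end Groth.Agent.FibDepth5
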