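import Groth.Agent.Lib.FibDepth5.GeomRk
import Groth.Agent.Lib.FibDepth5.CodepthConstr
import Groth.Agent.Lib.FibDepth5.Ass

/-!
Local constructibility of the geometric condition `(R_k)` on the fibres.
-/

universe u

open CategoryTheory CategoryTheory.Limits AlgebraicGeometry TopologicalSpace Topology IsLocalRing

set_option backward.isDefEq.respectTransparency false

namespace Groth.Agent.FibDepth5

open FibDim14

variable {X Y : Scheme.{u}} (f : X ⟶ Y) [LocallyOfFinitePresentation f]

instance lofp_fiberToSpecResidueField (y : Y) : LocallyOfFinitePresentation (f.fiberToSpecResidueField y) :=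
  MorphismProperty.pullback_snd _ _ ‹LocallyOfFinitePresentation f›

/-- The points where the fibre is not smooth. -/
def fibSing : Set X := {y | f.asFiber y ∉ (f.fiberToSpecResidueField (f y)).smoothLocus}

theorem isLocallyConstructible_fibSing : IsLocallyConstructible (fibSing f) := by
  have h := FibreLocus.isLocallyConstructible_fibSet_smoothPt f (𝟙 Y)
  refine (congrArg IsLocallyConstructible (Set.ext fun x => ?_)).mp (AnPtsTop.isLocallyConstructible_compl h)
  have h1 := FibreLocus.mem_fibSet_iff_of_field f (𝟙 Y)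
    FibreLocus.isPtLocal_smoothPt _ (Y.fromSpecResidueField (f x))
    (qY := Y.fromSpecResidueField (f x)) (gK := 𝟙 _) IsPullback.of_id_fst.flip
    (IsPullback.of_hasPullback f (Y.fromSpecResidueField (f x))) (f.asFiber x)
  rw [show pullback.fst f (Y.fromSpecResidueField (f x)) (f.asFiber x) = x from f.fiberι_asFiber x] at h1
  exact not_congr (h1.trans (Descend.smooth_nhd_iff_mem_smoothLocus (f.fiberToSpecResidueField (f x)) _))

theorem fibre_dim_smooth_iff (n : ℕ) (y : Y) (z : f.fiber y) :
    (ringKrullDim ((f.fiber y).presheaf.stalk z) ≤ (n : WithBot ℕ∞) → z ∈ (f.fiberToSpecResidueField y).smoothLocus) ↔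
      (FlatMor.fibreDimAt f (f.fiberι y z) ≤ ((rd f (f.fiberι y z) + n : ℕ) : WithBot ℕ∞) →
        f.fiberι y z ∉ fibSing f) := by
  refine fib_pt_rec f
    (P := fun y z => ringKrullDim ((f.fiber y).presheaf.stalk z) ≤ (n : WithBot ℕ∞) →
      z ∈ (f.fiberToSpecResidueField y).smoothLocus)
    (Q := fun x => FlatMor.fibreDimAt f x ≤ ((rd f x + n : ℕ) : WithBot ℕ∞) → x ∉ fibSing f) (fun x => ?_) y z
  obtain ⟨b, hb, hb'⟩ := exists_fibre_stalk_dim f x
  show (ringKrullDim (CInt.fiberStalk f x) ≤ _ → _) ↔ _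
  rw [hb, hb', Nat.cast_le, Nat.cast_le, fibSing, Set.mem_setOf_eq, not_not, Nat.add_le_add_iff_left]

theorem geomRk_fibre_iff (n : ℕ) (x : X) :
    (∀ (K : Type u) [Field K] [Algebra (IsLocalRing.ResidueField (Y.presheaf.stalk (f.base x))) K]
        (x' : ↥(FBase.bc (f.fiberToSpecResidueField (f.base x)) K)),
        (FBase.bcπ (f.fiberToSpecResidueField (f.base x)) K).base x' = f.asFiber x →
          LocCoh.HasRk n ((FBase.bc (f.fiberToSpecResidueField (f.base x)) K).presheaf.stalk x')) ↔
      ∀ y, y ⤳ x → f y = f x → FlatMor.fibreDimAt f y ≤ ((rd f y + n : ℕ) : WithBot ℕ∞) → y ∉ fibSing f := by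
  refine (geomRk_iff (k := Y.residueField (f x)) (f.fiberToSpecResidueField (f x)) (f.asFiber x) n).trans ?_
  constructor
  · intro h y hy he
    obtain ⟨z, rfl, hz⟩ := exists_fiber_pt f hy he
    exact (fibre_dim_smooth_iff f n (f x) z).1 (h z hz)
  · intro h z hz
    obtain ⟨h1, h2⟩ := fiberι_mem f hz
    exact (fibre_dim_smooth_iff f n (f x) z).2 (h _ h1 h2)

/-- **Local constructibility** of the geometric condition `(R_n)` on fibres. -/
theorem isLocallyConstructible_geomRk (n : ℕ) :
    IsLocallyConstructible {x : X | ∀ y, y ⤳ x → f y = f x →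
      FlatMor.fibreDimAt f y ≤ ((rd f y + n : ℕ) : WithBot ℕ∞) → y ∉ fibSing f} := by
  let W : ℕ → X.Opens := fun K => ⟨_, isOpen_fibreDimAt_le f K⟩
  have hW : IsOpenCover W := by
    refine eq_top_iff.2 fun x _ => Opens.mem_iSup.2 ?_
    obtain ⟨x', -, -, h', -⟩ := exists_fibreDimAt_eq f x
    exact ⟨rd f x', h'.le⟩
  refine IsLocallyConstructible.of_isOpenCover hW fun K => ?_
  have hL : IsLocallyConstructible (⋂ d : Fin (K + 1),
      (upSet f (fibSing f ∩ {y | FlatMor.fibreDimAt f y = ((d : ℕ) : WithBot ℕ∞)}) ((d : ℕ) - n))ᶜ) :=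
    IsLocallyConstructible.iInter fun d => AnPtsTop.isLocallyConstructible_compl
      (isLocallyConstructible_upSet f
        ((isLocallyConstructible_fibSing f).inter (isLocallyConstructible_fibreDimAt_eq f _)) _)
  refine (congrArg IsLocallyConstructible (Set.ext fun u => ?_)).mp
    (hL.preimage_of_isOpenEmbedding (W K).2.isOpenEmbedding_subtypeVal)
  have hK : FlatMor.fibreDimAt f u.1 ≤ (K : WithBot ℕ∞) := u.2
  rw [Set.mem_preimage, Set.mem_preimage, Set.mem_iInter, Set.mem_setOf_eq]
  constructor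
  · intro h y hy he hd hy'
    obtain ⟨y', hy'', hey', hd', -⟩ := exists_fibreDimAt_eq f y
    have hle : rd f y' ≤ K := by
      have := (fibreDimAt_le_iff f).1 hK y' (hy''.trans hy) (hey'.trans he)
      exact this
    refine h ⟨rd f y', Nat.lt_succ_of_le hle⟩ ⟨y, hy, he, ⟨hy', hd'⟩, ?_⟩
    rw [hd'] at hd
    have h3 : rd f y' ≤ rd f y + n := by exact_mod_cast hd
    show rd f y' - n ≤ rd f y
    omega
  · rintro h d ⟨y, hy, he, ⟨hy', hd⟩, hn⟩
    refine h y hy he ?_ hy'
    rw [show FlatMor.fibreDimAt f y = ((d : ℕ) : WithBot ℕ∞) from hd, Nat.cast_le]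
    omega

end Groth.Agent.FibDepth5
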