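import Groth.Agent.Lib.FibDepth5.GeomNormalConstr
import Groth.Agent.Lib.GeomReg18.Smooth
import Groth.Agent.Lib.EquidimStalk4

/-!
The geometric condition `(R_n)` tested on finite extensions; equidimensional stalks over a field.
-/

universe u

open CategoryTheory CategoryTheory.Limits AlgebraicGeometry TopologicalSpace Topology IsLocalRing

set_option backward.isDefEq.respectTransparency false

namespace Groth.Agent.FibDepth5

variable {k : Type u} [Field k] {Z : Scheme.{u}}

theorem exists_finite_not_regular (p : Z ⟶ Spec (CommRingCat.of k)) [LocallyOfFinitePresentation p] (w : Z)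
    (hw : w ∉ p.smoothLocus) :
    ∃ (K : Type u) (_ : Field K) (_ : Algebra k K) (_ : Module.Finite k K) (w' : ↥(FBase.bc p K)),
      (FBase.bcπ p K).base w' = w ∧ ¬ IsRegularLocalRing ((FBase.bc p K).presheaf.stalk w') := by
  letI : Z.Over (Spec (CommRingCat.of k)) := ⟨p⟩
  haveI : LocallyOfFinitePresentation (Z ↘ Spec (CommRingCat.of k)) := ‹LocallyOfFinitePresentation p›
  haveI : IsLocallyNoetherian Z := LocallyOfFiniteType.isLocallyNoetherian p
  by_contra hne
  push_neg at hne
  refine hw (GeomReg18.mem_smoothLocus_of_isGeomRegularAt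
    (GeomReg18.isGeomRegularAt_of_isGeometricallyRegular k Z w
      (GeomReg18.isGeometricallyRegular_of_insep k Z w fun K _ _ hfin _ x' hx' => ?_)))
  exact hne K inferInstance inferInstance hfin x' hx'

/-- The geometric condition `(R_n)` may be tested on finite extensions. -/
theorem geomRk_iff_finite (p : Z ⟶ Spec (CommRingCat.of k)) [LocallyOfFinitePresentation p] (z : Z) (n : ℕ) :
    (∀ (K : Type u) [Field K] [Algebra k K], Module.Finite k K → ∀ (z' : ↥(FBase.bc p K)),
        (FBase.bcπ p K).base z' = z → LocCoh.HasRk n ((FBase.bc p K).presheaf.stalk z')) ↔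
      ∀ w, w ⤳ z → ringKrullDim (Z.presheaf.stalk w) ≤ (n : WithBot ℕ∞) → w ∈ p.smoothLocus := by
  refine ⟨fun h w hw hd => ?_, fun h K _ _ _ z' hz' => (geomRk_iff p z n).2 h K z' hz'⟩
  by_contra hns
  obtain ⟨K, hK, hKa, hKf, m, hm, hnr⟩ := exists_finite_not_regular p w hns
  have hsq : IsPullback (FBase.bcπ p K) (FBase.bcStr p K) p
      (Spec.map (CommRingCat.ofHom (algebraMap k K))) := IsPullback.of_hasPullback _ _
  haveI : LocallyOfFinitePresentation (FBase.bcStr p K) := MorphismProperty.of_isPullback hsq inferInstance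
  haveI : UniversallyClosed (FBase.bcπ p K) := by
    haveI : IsFinite (Spec.map (CommRingCat.ofHom (algebraMap k K))) :=
      (IsFinite.SpecMap_iff _).2 (RingHom.finite_algebraMap.2 hKf)
    exact MorphismProperty.of_isPullback hsq.flip inferInstance
  rw [← show (FBase.bcπ p K).base m = w from hm] at hw hd
  obtain ⟨z', hmz', hz'⟩ : ∃ z', m ⤳ z' ∧ (FBase.bcπ p K).base z' = z := by
    obtain ⟨z', h1, h2⟩ := (FBase.bcπ p K).isClosedMap.specializingMap hw
    exact ⟨z', h1, h2⟩
  have hdim := DimF18.localDim_bc hsq m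
  obtain ⟨b, hb, hb'⟩ := CMEquiDim4.exists_stalk_dim (FBase.bcStr p K) m
  obtain ⟨c, hc, hc'⟩ := CMEquiDim4.exists_stalk_dim p ((FBase.bcπ p K).base m)
  have hsd := (DimF18.sdim_bc hsq m).2 fun w' hw' hwe => ?_
  swap
  · haveI : IsFinite (Spec.map (CommRingCat.ofHom (algebraMap k K))) :=
      (IsFinite.SpecMap_iff _).2 (RingHom.finite_algebraMap.2 hKf)
    haveI : IsFinite (FBase.bcπ p K) := MorphismProperty.of_isPullback hsq.flip inferInstance
    haveI : DiscreteTopology ↥((FBase.bcπ p K).base ⁻¹' {(FBase.bcπ p K).base m}) :=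
      isDiscrete_iff_discreteTopology.1 ((FBase.bcπ p K).isDiscrete_preimage_singleton _)
    have h1 : (⟨w', hwe⟩ : ↥((FBase.bcπ p K).base ⁻¹' {(FBase.bcπ p K).base m})) ⤳ ⟨m, rfl⟩ :=
      (subtype_specializes_iff _ _).2 hw'
    exact congrArg Subtype.val (specializes_iff_eq.1 h1)
  rw [hb', hc', hsd] at hdim
  have hbc : b = c := by
    have := Nat.cast_inj.1 hdim
    omega
  exact hnr ((hasRk_stalk_iff _ z' n).1 (h K hKf z' hz') m hmz' (by rw [hb, hbc, ← hc]; exact hd))

/-- Geometric normality may be tested on finite extensions. -/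
theorem geomNormal_iff_finite (p : Z ⟶ Spec (CommRingCat.of k)) [LocallyOfFinitePresentation p] (z : Z) :
    (∀ (K : Type u) [Field K] [Algebra k K], Module.Finite k K → ∀ (z' : ↥(FBase.bc p K)),
        (FBase.bcπ p K).base z' = z →
        IsDomain ((FBase.bc p K).presheaf.stalk z') ∧ IsIntegrallyClosed ((FBase.bc p K).presheaf.stalk z')) ↔
      (∀ w, w ⤳ z → ringKrullDim (Z.presheaf.stalk w) ≤ ((1 : ℕ) : WithBot ℕ∞) → w ∈ p.smoothLocus) ∧
        LocCoh.HasSk 2 (Z.presheaf.stalk z) (Z.presheaf.stalk z) := by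
  refine ⟨fun h => ?_, fun h K _ _ _ z' hz' => (geomNormal_iff p z).2 h K z' hz'⟩
  have hN : ∀ (K : Type u) [Field K] [Algebra k K], Module.Finite k K → ∀ (z' : ↥(FBase.bc p K)),
      (FBase.bcπ p K).base z' = z → LocCoh.HasRk 1 ((FBase.bc p K).presheaf.stalk z') ∧
        LocCoh.HasSk 2 ((FBase.bc p K).presheaf.stalk z') ((FBase.bc p K).presheaf.stalk z') := by
    intro K _ _ hfin z' hz'
    haveI : LocallyOfFiniteType (FBase.bcStr p K) := MorphismProperty.pullback_snd _ _ inferInstance
    haveI : IsLocallyNoetherian (FBase.bc p K) := LocallyOfFiniteType.isLocallyNoetherian (FBase.bcStr p K)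
    exact (normal_local_iff _).1 (h K hfin z' hz')
  refine ⟨(geomRk_iff_finite p z 1).1 fun K _ _ hfin z' hz' => (hN K hfin z' hz').1, ?_⟩
  obtain ⟨z', hz', -⟩ := DimF18.exists_over
    (show IsPullback (FBase.bcπ p k) (FBase.bcStr p k) p _ from IsPullback.of_hasPullback _ _) z
  have := (hasSk_stalk_bc_iff p k 2 z').1 (hN k inferInstance z' hz').2
  rwa [show (FBase.bcπ p k).base z' = z from hz'] at this

open VarDim in
/-- Equidimensionality of a stalk of a scheme of finite type over a field. -/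
theorem isEquidim_stalk_iff_sdim (p : Z ⟶ Spec (CommRingCat.of k)) [LocallyOfFiniteType p] (z : Z) :
    EGA4.IsEquidim (Z.presheaf.stalk z) ↔
      ∀ t, t ⤳ z → (∀ y, y ⤳ t → y = t) → FlatMor.localDim Z z = (sdim p t : WithBot ℕ∞) := by
  haveI : IsLocallyNoetherian Z := LocallyOfFiniteType.isLocallyNoetherian p
  rw [EquidimStalk4.isEquidim_stalk_iff]
  obtain ⟨b, hb, hb'⟩ := CMEquiDim4.exists_stalk_dim p z
  refine forall_congr' fun t => forall₂_congr fun htz htmax => ?_
  obtain ⟨w, hw⟩ := EquidimStalk4.exists_preimage htz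
  have key : ∃ c : ℕ, ringKrullDim ((EquidimStalk4.Cl t).presheaf.stalk w) = (c : WithBot ℕ∞) ∧
      sdim p t = sdim p z + c := by
    obtain ⟨g, hg, hgen⟩ := EquidimStalk4.exists_gen t
    let ι := EquidimStalk4.clι t
    haveI : LocallyOfFiniteType (ι ≫ p) := inferInstance
    obtain ⟨c, hc, hc'⟩ := CMEquiDim4.exists_stalk_dim (ι ≫ p) w
    obtain ⟨v, hv, hvmax, hvd, hvall⟩ := DimF18.exists_localDim_eq_sdim (ι ≫ p) w
    have hvg : v = g := (hvmax g (hgen v)).symm
    rw [hc', hvg, Nat.cast_inj, sdim_comp_of_surjective, sdim_comp_of_surjective, hg, hw] at hvd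
    exact ⟨c, hc, hvd.symm⟩
  obtain ⟨c, hc, hct⟩ := key
  rw [hb', Nat.cast_inj]
  refine ⟨fun h => ?_, fun h w' hw' => ?_⟩
  · have h1 := h w hw
    rw [hc, hb, Nat.cast_inj] at h1
    omega
  · obtain rfl : w' = w := (EquidimStalk4.clι t).isEmbedding.injective (hw'.trans hw.symm)
    rw [hc, hb, Nat.cast_inj]
    omega

theorem hasSk_one_iff_ass (R : Type u) [CommRing R] [IsNoetherianRing R] :
    LocCoh.HasSk 1 R R ↔ ∀ p ∈ associatedPrimes R R, p ∈ minimalPrimes R := by
  rw [SerreCrit.hasSk_iff_height]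
  constructor
  · intro h p hp
    haveI := hp.isPrime
    rw [← Ideal.height_eq_zero_iff]
    by_contra hpos
    have h1 := h p
    rw [Nat.cast_one, min_eq_left (Order.one_le_iff_pos.2 (pos_iff_ne_zero.2 hpos))] at h1
    refine ClosedAlong.notMem_associatedPrimes_of_one_le_depth p ?_ hp
    rwa [DepthLib.depth_localizedModule_self p]
  · intro h p _
    rcases eq_or_ne p.height 0 with h0 | h0
    · simp [h0]
    refine le_trans (min_le_left _ _) ?_
    rw [Nat.cast_one, ← DepthLib.depth_localizedModule_self p]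
    exact ClosedAlong.one_le_depth_of_notMem_associatedPrimes p fun hp => h0 (Ideal.height_eq_zero_iff.2 (h p hp))

end Groth.Agent.FibDepth5
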