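import Groth.Agent.Lib.FibDepth5.GeomRkField
import Groth.Agent.Lib.FibDepth5.Equi
import Groth.Agent.Lib.UCat.Completion

/-!
Openness of the geometric condition `(R_n)` on the fibres, with equidimensionality and `(S₁)`.
-/

universe u

open CategoryTheory CategoryTheory.Limits AlgebraicGeometry TopologicalSpace Topology IsLocalRing

set_option backward.isDefEq.respectTransparency false

namespace Groth.Agent.FibDepth5

theorem hasSk_mono {k l : ℕ} (hlk : l ≤ k) {R : Type u} [CommRing R] {M : Type u} [AddCommGroup M] [Module R M]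
    (h : LocCoh.HasSk k R M) : LocCoh.HasSk l R M := fun p _ =>
  le_trans (min_le_min_right _ (by exact_mod_cast hlk)) (h p)

open FibDim14

variable {X Y : Scheme.{u}} (f : X ⟶ Y)

theorem supportDim_fiberStalk_eq_zero_iff [LocallyOfFiniteType f] (η : X) :
    Module.supportDim (CInt.fiberStalk f η) (CInt.fiberStalk f η) = (0 : ℕ) ↔ IsMaxFib f η := by
  obtain ⟨b, hb, hb'⟩ := CMEquiDim4.exists_stalk_dim (toPt f (f η)) (f.asFiber η)
  rw [← rd_fiberι, f.fiberι_asFiber] at hb'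
  rw [Module.supportDim_self_eq_ringKrullDim, show ringKrullDim (CInt.fiberStalk f η) = _ from hb, Nat.cast_inj]
  have hb'' : FlatMor.fibreDimAt f η = ((rd f η + b : ℕ) : WithBot ℕ∞) := hb'
  constructor
  · intro h0 y hy he
    by_contra hne
    have h1 := rd_le_fibreDimAt f hy he
    rw [hb''] at h1
    have h2 : rd f y ≤ rd f η + b := by exact_mod_cast h1
    have h3 := rd_lt_of_specializes (f := f) hy hne he
    omega
  · intro hmax
    obtain ⟨x', hx', he, hd, -⟩ := exists_fibreDimAt_eq f η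
    rw [hmax x' hx' he, hb''] at hd
    have : rd f η + b = rd f η := by exact_mod_cast hd
    omega

/-- Ring equidimensionality of the stalk of the fibre, on the total space. -/
theorem isEquidim_fiberStalk_iff [LocallyOfFiniteType f] (x : X) :
    EGA4.IsEquidim (CInt.fiberStalk f x) ↔
      ∀ η, η ⤳ x → f η = f x → Module.supportDim (CInt.fiberStalk f η) (CInt.fiberStalk f η) = (0 : ℕ) →
        ∀ η', η' ⤳ x → f η' = f x → rd f η' ≤ rd f η := by
  refine (isEquidim_stalk_iff_sdim (toPt f (f x)) (f.asFiber x)).trans ?_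
  obtain ⟨x₀, hx₀, he₀, hd₀, hall⟩ := exists_fibreDimAt_eq f x
  rw [show FlatMor.localDim (f.fiber (f x)) (f.asFiber x) = _ from hd₀]
  constructor
  · intro h η hη he h0 η' hη' he'
    obtain ⟨t, rfl, ht⟩ := exists_fiber_pt f hη he
    rw [supportDim_fiberStalk_eq_zero_iff, isMaxFib_fiberι] at h0
    have := h t ht h0
    rw [← rd_fiberι, Nat.cast_inj] at this
    exact (hall η' hη' he').trans this.le
  · intro h t ht htmax
    obtain ⟨h1, h2⟩ := fiberι_mem f ht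
    rw [← rd_fiberι, Nat.cast_inj]
    exact le_antisymm (h _ h1 h2 ((supportDim_fiberStalk_eq_zero_iff f _).2 ((isMaxFib_fiberι f _ t).2 htmax))
      x₀ hx₀ he₀) (hall _ h1 h2)

variable [LocallyOfFinitePresentation f]

/-- For a flat morphism. -/
theorem isOpen_ring_equidim_hasSk [Flat f] (k : ℕ) (hk : 1 ≤ k) :
    IsOpen {x : X | EGA4.IsEquidim (CInt.fiberStalk f x) ∧
      LocCoh.HasSk k (CInt.fiberStalk f x) (CInt.fiberStalk f x)} := by
  obtain ⟨h, hsk⟩ := fibData_ring f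
  refine (congrArg IsOpen (Set.ext fun x => ?_)).mp (h.isOpen_equidim_sk hk)
  refine and_congr ?_ (hsk k x).symm
  rw [isEquidim_fiberStalk_iff]
  exact ⟨fun hh η h1 h2 h3 η' h1' h2' => hh trivial η h1 h2 trivial h3 η' h1' h2' trivial,
    fun hh _ η h1 h2 _ h3 η' h1' h2' _ => hh η h1 h2 h3 η' h1' h2'⟩

/-- For a flat morphism the dimension of the fibres is locally constant on this set. -/
theorem exists_nhd_fibreDimAt_const [Flat f] (x : X)
    (hx : EGA4.IsEquidim (CInt.fiberStalk f x) ∧ LocCoh.HasSk 1 (CInt.fiberStalk f x) (CInt.fiberStalk f x)) :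
    ∃ W : X.Opens, x ∈ W ∧ ∀ y ∈ W, FlatMor.fibreDimAt f y = FlatMor.fibreDimAt f x := by
  obtain ⟨h, hsk⟩ := fibData_ring f
  obtain ⟨x₀, hx₀, he₀, hd₀, hall⟩ := exists_fibreDimAt_eq f x
  have hass : ∀ y, IsMaxFib f y → h.Assoc y := fun y hy =>
    h.assoc_of_S_eq_zero trivial ((supportDim_fiberStalk_eq_zero_iff f y).2 hy)
  refine ⟨⟨_, (h.isClosed_assDims {rd f x₀}).isOpen_compl⟩, ?_, fun y hy => ?_⟩
  · rintro ⟨η, hη, he, ha, hr⟩
    have h1 := (hsk 1 x).1 hx.2 η hη he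
    obtain ⟨b, δ, hb, -⟩ := h.dim_rd η trivial
    rw [show LocCoh.depth (CInt.fiberStalk f η) (CInt.fiberStalk f η) = 0 from ha, hb] at h1
    have hb0 : b = 0 := by
      rcases min_le_iff.1 h1 with h1 | h1
      · exact absurd (show (1 : ℕ) ≤ 0 from by exact_mod_cast h1) (by omega)
      · exact Nat.le_zero.1 (by exact_mod_cast h1)
    subst hb0
    exact hr (le_antisymm (hall η hη he) ((isEquidim_fiberStalk_iff f x).1 hx.1 η hη he hb x₀ hx₀ he₀))
  · obtain ⟨y₀, hy₀, hey, hdy, hally⟩ := exists_fibreDimAt_eq f y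
    have hmax : IsMaxFib f y₀ := fun z hz hze => by
      by_contra hne
      have := rd_lt_of_specializes (f := f) hz hne hze
      have := hally z (hz.trans hy₀) (hze.trans hey)
      omega
    rw [hdy, hd₀]
    congr 1
    by_contra hne
    exact hy ⟨y₀, hy₀, hey, hass _ hmax, hne⟩

theorem isOpen_flat_equidim_hasSk (k : ℕ) (hk : 1 ≤ k) :
    IsOpen {x : X | (f.stalkMap x).hom.Flat ∧ EGA4.IsEquidim (CInt.fiberStalk f x) ∧
      LocCoh.HasSk k (CInt.fiberStalk f x) (CInt.fiberStalk f x)} :=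
  isOpen_flatAt_and f (fun R _ _ => EGA4.IsEquidim R ∧ LocCoh.HasSk k R R)
    (fun R R' _ _ _ _ e h => ⟨UCat.isEquidim_congr e h.1, (hasSk_iff_of_ringEquiv e k).1 h.2⟩)
    (fun g _ _ => isOpen_ring_equidim_hasSk g k hk)

theorem exists_nhd_fibreDimAt_const_of_flatAt (x : X) (hflat : (f.stalkMap x).hom.Flat)
    (hx : EGA4.IsEquidim (CInt.fiberStalk f x) ∧ LocCoh.HasSk 1 (CInt.fiberStalk f x) (CInt.fiberStalk f x)) :
    ∃ W : X.Opens, x ∈ W ∧ ∀ y ∈ W, FlatMor.fibreDimAt f y = FlatMor.fibreDimAt f x := by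
  let U : X.Opens := ⟨{x | (f.stalkMap x).hom.Flat}, FlatH4.isOpen_flatLocus f⟩
  haveI : Flat (U.ι ≫ f) := by
    refine (Flat.iff_flat_stalkMap _).2 fun w => ?_
    rw [Scheme.Hom.stalkMap_comp, CommRingCat.hom_comp]
    exact RingHom.Flat.comp w.2 (Flat.stalkMap U.ι w)
  obtain ⟨e⟩ := nonempty_fiberStalk_openImmersion U.ι f ⟨x, hflat⟩
  obtain ⟨W, hW, hW'⟩ := exists_nhd_fibreDimAt_const (U.ι ≫ f) ⟨x, hflat⟩
    ⟨UCat.isEquidim_congr e.symm hx.1, (hasSk_iff_of_ringEquiv e.symm 1).1 hx.2⟩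
  refine ⟨U.ι ''ᵁ W, ⟨⟨x, hflat⟩, hW, rfl⟩, ?_⟩
  rintro _ ⟨w, hw, rfl⟩
  have := hW' w hw
  rwa [fibreDimAt_etale_comp, fibreDimAt_etale_comp] at this

/-- **Openness** of the geometric condition `(R_n)` with equidimensionality and `(S_k)`, `k ≥ 1`. -/
theorem isOpen_flat_geomRk (n k : ℕ) (hk : 1 ≤ k) :
    IsOpen {x : X | ((f.stalkMap x).hom.Flat ∧ EGA4.IsEquidim (CInt.fiberStalk f x) ∧
      LocCoh.HasSk k (CInt.fiberStalk f x) (CInt.fiberStalk f x)) ∧
      ∀ y, y ⤳ x → f y = f x → FlatMor.fibreDimAt f y ≤ ((rd f y + n : ℕ) : WithBot ℕ∞) → y ∉ fibSing f} := by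
  refine isOpen_iff_forall_mem_open.2 fun x ⟨hxG, hxP⟩ => ?_
  have hx1 : LocCoh.HasSk 1 (CInt.fiberStalk f x) (CInt.fiberStalk f x) := hasSk_mono hk hxG.2.2
  obtain ⟨W, hW, hW'⟩ := exists_nhd_fibreDimAt_const_of_flatAt f x hxG.1 ⟨hxG.2.1, hx1⟩
  obtain ⟨x₀, -, -, hd₀, -⟩ := exists_fibreDimAt_eq f x
  have hsing : ∀ y, (f.stalkMap y).hom.Flat → (y ∈ fibSing f ↔ y ∉ f.smoothLocus) := by
    intro y hy
    have h1 := FibreLocus.mem_fibSet_iff_of_field f (𝟙 Y)
      FibreLocus.isPtLocal_smoothPt _ (Y.fromSpecResidueField (f y))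
      (qY := Y.fromSpecResidueField (f y)) (gK := 𝟙 _) IsPullback.of_id_fst.flip
      (IsPullback.of_hasPullback f (Y.fromSpecResidueField (f y))) (f.asFiber y)
    rw [show pullback.fst f (Y.fromSpecResidueField (f y)) (f.asFiber y) = y from f.fiberι_asFiber y] at h1
    rw [← SmoothPt12.smoothPt_iff_mem, SmoothPt12.smoothPt_iff_flat_and_fibSet]
    exact not_congr ((h1.trans (Descend.smooth_nhd_iff_mem_smoothLocus (f.fiberToSpecResidueField (f y)) _)).symm.trans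
      ⟨fun h => ⟨hy, h⟩, fun h => h.2⟩)
  let C := upSet f ((f.smoothLocus : Set X)ᶜ) (rd f x₀ - n)
  let G : Set X := {x : X | (f.stalkMap x).hom.Flat ∧ EGA4.IsEquidim (CInt.fiberStalk f x) ∧
      LocCoh.HasSk k (CInt.fiberStalk f x) (CInt.fiberStalk f x)}
  have hG : IsOpen G := isOpen_flat_equidim_hasSk f k hk
  have hflatgen : ∀ y z, y ⤳ z → (f.stalkMap z).hom.Flat → (f.stalkMap y).hom.Flat := fun y z hyz hz =>
    hyz.mem_open (FlatH4.isOpen_flatLocus f) hz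
  have hiff : ∀ z ∈ G ∩ (W : Set X),
      (∀ y, y ⤳ z → f y = f z → FlatMor.fibreDimAt f y ≤ ((rd f y + n : ℕ) : WithBot ℕ∞) → y ∉ fibSing f) ↔ z ∉ C := by
    rintro z ⟨hz, hzW⟩
    constructor
    · rintro h ⟨y, hy, he, hys, hr⟩
      refine h y hy he ?_ ((hsing y (hflatgen y z hy hz.1)).2 hys)
      rw [hW' y (hy.mem_open W.2 hzW), hd₀]
      exact_mod_cast (by omega : rd f x₀ ≤ rd f y + n)
    · intro h y hy he hd hys
      refine h ⟨y, hy, he, (hsing y (hflatgen y z hy hz.1)).1 hys, ?_⟩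
      rw [hW' y (hy.mem_open W.2 hzW), hd₀] at hd
      have : rd f x₀ ≤ rd f y + n := by exact_mod_cast hd
      omega
  have hC : IsClosed C := isClosed_upSet f f.smoothLocus.2.isClosed_compl _
  refine ⟨(G ∩ W) ∩ Cᶜ, fun z ⟨hz, hzC⟩ => ⟨hz.1, (hiff z hz).2 hzC⟩,
    (hG.inter W.2).inter hC.isOpen_compl, ⟨⟨hxG, hW⟩, (hiff x ⟨hxG, hW⟩).1 hxP⟩⟩

end Groth.Agent.FibDepth5
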