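import Groth.Agent.Lib.FlatSyz.ProjDim
import Groth.Agent.Lib.FlatH4.ModFlatAt
import Groth.Agent.Lib.FlatH4.FibreCritFP
import Groth.Agent.Lib.FlatH4.FlatLocusFP
import Groth.Agent.Lib.RegLoc.PD
import Groth.Prelude.Def_EGA4b

/-!
The locus where the fibre of a flat module has bounded projective dimension is open.
-/

universe u

open TensorProduct CategoryTheory

namespace Groth.Agent.FibDepth5

open RegLoc

variable (A : Type u) {P : Type u} [CommRing A] [CommRing P] [Algebra A P]

section Exact

variable {K F M : Type u} [AddCommGroup K] [Module P K] [AddCommGroup F] [Module P F]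
variable [AddCommGroup M] [Module P M] (q : Ideal P) [q.IsPrime]

/-- The map induced on fibres of localizations. -/
noncomputable def fibMap (i : K →ₗ[P] F) :
    EGA4.FibLocMod A P q K →ₗ[EGA4.FibLocRing A P q] EGA4.FibLocMod A P q F :=
  LinearMap.extendScalarsOfSurjective (Ideal.Quotient.mk_surjective)
    (Submodule.mapQ _ _ (LocalizedModule.map q.primeCompl i) (Submodule.map_le_iff_le_comap.1
      ((Submodule.map_smul'' _ _ _).le.trans (Submodule.smul_mono le_rfl le_top))))

theorem fibMap_mk (i : K →ₗ[P] F) (x : LocalizedModule q.primeCompl K) :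
    fibMap A q i (Submodule.Quotient.mk x) = Submodule.Quotient.mk (LocalizedModule.map q.primeCompl i x) := rfl

theorem fibMap_surjective (π : F →ₗ[P] M) (hπ : Function.Surjective π) :
    Function.Surjective (fibMap A q π) := by
  intro y
  obtain ⟨y, rfl⟩ := Submodule.mkQ_surjective _ y
  obtain ⟨x, rfl⟩ := LocalizedModule.map_surjective q.primeCompl π hπ y
  exact ⟨Submodule.Quotient.mk x, rfl⟩

theorem fibMap_exact (i : K →ₗ[P] F) (π : F →ₗ[P] M) (hex : Function.Exact i π) (hπ : Function.Surjective π) :
    Function.Exact (fibMap A q i) (fibMap A q π) := by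
  let I : Ideal (Localization.AtPrime q) :=
    (q.comap (algebraMap A P)).map (algebraMap A (Localization.AtPrime q))
  have hexq : Function.Exact (LocalizedModule.map q.primeCompl i) (LocalizedModule.map q.primeCompl π) :=
    LocalizedModule.map_exact q.primeCompl i π hex
  intro y
  obtain ⟨y, rfl⟩ := Submodule.mkQ_surjective _ y
  refine ⟨fun hy => ?_, ?_⟩
  · have hy' : LocalizedModule.map q.primeCompl π y ∈
        I • (⊤ : Submodule (Localization.AtPrime q) (LocalizedModule q.primeCompl M)) :=
      (Submodule.Quotient.mk_eq_zero _).1 hy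
    rw [← LinearMap.range_eq_top.2 (LocalizedModule.map_surjective q.primeCompl π hπ),
      LinearMap.range_eq_map, ← Submodule.map_smul'', Submodule.mem_map] at hy'
    obtain ⟨z, hz, hzy⟩ := hy'
    obtain ⟨x, hx⟩ := (hexq (y - z)).1 (by rw [map_sub, hzy, sub_self])
    refine ⟨Submodule.Quotient.mk x, ?_⟩
    rw [fibMap_mk, hx]
    exact ((Submodule.Quotient.eq _).2 (by simpa using hz)).symm
  · rintro ⟨x, hx⟩
    obtain ⟨x, rfl⟩ := Submodule.mkQ_surjective _ x
    rw [← hx]
    show Submodule.Quotient.mk _ = (0 : EGA4.FibLocMod A P q M)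
    rw [hexq.apply_apply_eq_zero, Submodule.Quotient.mk_zero]

theorem fibMap_injective [Module A M] [IsScalarTower A P M] [Module.Flat A M] (i : K →ₗ[P] F)
    (π : F →ₗ[P] M) (hi : Function.Injective i) (hex : Function.Exact i π) (hπ : Function.Surjective π) :
    Function.Injective (fibMap A q i) := by
  let L := Localization.AtPrime q
  let p : Ideal A := q.comap (algebraMap A P)
  haveI := FlatSyz.flat_localizedModule (A := A) (M := M) q.primeCompl
  let Kq := LocalizedModule q.primeCompl K
  let Fq := LocalizedModule q.primeCompl F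
  let Mq := LocalizedModule q.primeCompl M
  letI : Module A Kq := Module.compHom Kq (algebraMap A L)
  letI : Module A Fq := Module.compHom Fq (algebraMap A L)
  haveI : IsScalarTower A L Kq := IsScalarTower.of_algebraMap_smul fun _ _ => rfl
  haveI : IsScalarTower A L Fq := IsScalarTower.of_algebraMap_smul fun _ _ => rfl
  haveI : IsScalarTower A L Mq := IsScalarTower.of_algebraMap_smul fun a x => by
    rw [IsScalarTower.algebraMap_apply A P L, algebraMap_smul, algebraMap_smul]
  let iq := LocalizedModule.map q.primeCompl i
  let πq := LocalizedModule.map q.primeCompl π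
  have h := FlatSyz.lTensor_subtype_injective_of_flat_quotient (iq.restrictScalars A)
    (LocalizedModule.map_injective q.primeCompl i hi) (πq.restrictScalars A)
    (LocalizedModule.map_exact q.primeCompl i π hex) (LocalizedModule.map_surjective q.primeCompl π hπ) (A ⧸ p)
  rw [injective_iff_map_eq_zero]
  intro x hx
  obtain ⟨x, rfl⟩ := Submodule.mkQ_surjective _ x
  refine (Submodule.Quotient.mk_eq_zero _).2 ?_
  have hx' : iq x ∈ p.map (algebraMap A L) • (⊤ : Submodule L Fq) :=
    (Submodule.Quotient.mk_eq_zero _).1 hx
  rw [← Submodule.restrictScalars_mem A, Ideal.smul_restrictScalars, Submodule.restrictScalars_top] at hx'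
  show x ∈ p.map (algebraMap A L) • (⊤ : Submodule L Kq)
  rw [← Submodule.restrictScalars_mem A, Ideal.smul_restrictScalars, Submodule.restrictScalars_top]
  rw [← Submodule.Quotient.mk_eq_zero, ← TensorProduct.quotTensorEquivQuotSMul_mk_one_tmul,
    LinearEquiv.map_eq_zero_iff] at hx' ⊢
  apply h
  rw [map_zero, LinearMap.lTensor_tmul]
  exact hx'

end Exact

/-- The fibre at `q` of `M` has projective dimension at most `j`. -/
def PDLoc (M : Type u) [AddCommGroup M] [Module P M] (j : ℕ) (q : PrimeSpectrum P) : Prop :=
  PD (EGA4.FibLocRing A P q.asIdeal) (EGA4.FibLocMod A P q.asIdeal M) j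

theorem projective_fibLocMod {M : Type u} [AddCommGroup M] [Module P M] (q : Ideal P) [q.IsPrime]
    [Module.Projective (Localization.AtPrime q) (LocalizedModule q.primeCompl M)] :
    Module.Projective (EGA4.FibLocRing A P q) (EGA4.FibLocMod A P q M) := by
  let I : Ideal (Localization.AtPrime q) :=
    (q.comap (algebraMap A P)).map (algebraMap A (Localization.AtPrime q))
  let e := (TensorProduct.quotTensorEquivQuotSMul (LocalizedModule q.primeCompl M) I)
  exact Module.Projective.of_equiv (LinearEquiv.extendScalarsOfSurjective
    (R := Localization.AtPrime q) (S := EGA4.FibLocRing A P q) Ideal.Quotient.mk_surjective e)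

theorem pdLoc_zero_iff [Algebra.FinitePresentation A P] {M : Type u} [AddCommGroup M] [Module A M]
    [Module P M] [IsScalarTower A P M] [Module.FinitePresentation P M] [Module.Flat A M]
    (q : PrimeSpectrum P) :
    PDLoc A M 0 q ↔ Module.Flat P (LocalizedModule q.asIdeal.primeCompl M) := by
  let L := Localization.AtPrime q.asIdeal
  let Mq := LocalizedModule q.asIdeal.primeCompl M
  haveI : Module.FinitePresentation L Mq := inferInstance
  rw [PDLoc, pd_zero_iff]
  constructor
  · intro h
    haveI := FlatSyz.flat_localizedModule (A := A) (M := M) q.asIdeal.primeCompl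
    refine FlatH4.flat_localized_of_fibFlat_fp (A := A) q.asIdeal ?_
    refine FlatH4.fibFlat_of_flat_mod_localized (S' := L) _ q.asIdeal
      (LocalizedModule.mkLinearMap q.asIdeal.primeCompl M) ?_
    rw [Ideal.map_map, ← IsScalarTower.algebraMap_eq]
    exact Module.Flat.of_projective
  · intro h
    haveI : Module.Flat L Mq := (Module.flat_iff_of_isLocalization L q.asIdeal.primeCompl Mq).2 h
    haveI : Module.Projective L Mq := Module.Flat.projective_of_finitePresentation
    exact projective_fibLocMod A q.asIdeal

/-- **Upper semicontinuity** of the projective dimension of the fibres. -/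
theorem isOpen_pdLoc [Algebra.FinitePresentation A P] [Module.Flat A P] (j : ℕ) :
    ∀ (M : Type u) [AddCommGroup M] [Module A M] [Module P M] [IsScalarTower A P M]
      [Module.FinitePresentation P M] [Module.Flat A M], IsOpen {q : PrimeSpectrum P | PDLoc A M j q} := by
  induction j with
  | zero =>
    intro M _ _ _ _ _ _
    simp only [pdLoc_zero_iff]
    exact FlatH4.isOpen_flat_localized (R := P) (S := P) (M := M)
  | succ j ih =>
    classical
    intro M _ _ _ _ _ _
    obtain ⟨k, π, hπ⟩ := Module.Finite.exists_fin' P M
    haveI := FlatSyz.finitePresentation_ker (A := A) π hπ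
    haveI : Module.Flat A (Fin k → P) :=
      haveI : Module.Flat A (Π₀ _ : Fin k, P) := Module.Flat.dfinsupp_iff.2 fun _ => inferInstance
      Module.Flat.of_linearEquiv
        ((Finsupp.linearEquivFunOnFinite A P (Fin k)).symm.trans (finsuppLequivDFinsupp A))
    haveI : Module.Flat A (LinearMap.ker π) :=
      FlatSyz.flat_of_exact ((LinearMap.ker π).subtype.restrictScalars A) (LinearMap.ker π).injective_subtype
        (π.restrictScalars A) (LinearMap.exact_subtype_ker_map π) hπ
    refine (congrArg IsOpen (Set.ext fun q => ?_)).mp (ih (LinearMap.ker π))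
    haveI : Module.Flat (Localization.AtPrime q.asIdeal)
        (LocalizedModule q.asIdeal.primeCompl (Fin k → P)) :=
      Module.Flat.isBaseChange P _ _ _ (IsLocalizedModule.isBaseChange q.asIdeal.primeCompl _
        (LocalizedModule.mkLinearMap q.asIdeal.primeCompl _))
    haveI : Module.Projective (Localization.AtPrime q.asIdeal)
        (LocalizedModule q.asIdeal.primeCompl (Fin k → P)) := Module.Flat.projective_of_finitePresentation
    haveI := projective_fibLocMod A (M := Fin k → P) q.asIdeal
    have hinj := fibMap_injective A q.asIdeal (LinearMap.ker π).subtype π (LinearMap.ker π).injective_subtype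
      (LinearMap.exact_subtype_ker_map π) hπ
    have hex := fibMap_exact A q.asIdeal (LinearMap.ker π).subtype π (LinearMap.exact_subtype_ker_map π) hπ
    rw [Set.mem_setOf_eq, Set.mem_setOf_eq, PDLoc, PDLoc,
      pd_succ_iff _ (fibMap_surjective A q.asIdeal π hπ)]
    exact pd_congr ((LinearEquiv.ofInjective _ hinj).trans (LinearEquiv.ofEq _ _ (LinearMap.exact_iff.1 hex).symm))

end Groth.Agent.FibDepth5
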