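import Groth.Agent.Lib.FibDepth5.Closed
import Groth.Agent.Lib.FibreTop.Strata
import Groth.Agent.Lib.FibDim14.Compact
import Groth.Agent.Lib.GrpdB.Topology
import Groth.Agent.Lib.CMEquiDim4
import Groth.Agent.Lib.AnPtsTop.Global

/-!
Local constructibility of the sets of points having a generization of large residual degree, inside
their fibre, in a given constructible set.
-/

universe u

open CategoryTheory AlgebraicGeometry TopologicalSpace Topology

set_option backward.isDefEq.respectTransparency false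

namespace Groth.Agent.FibDepth5

open FibDim14

variable {X Y : Scheme.{u}}

theorem rd_comp_preimmersion {W : Scheme.{u}} (τ : W ⟶ X) [SurjectiveOnStalks τ] [LocallyOfFiniteType τ]
    (f : X ⟶ Y) [LocallyOfFiniteType f] (w : W) : rd (τ ≫ f) w = rd f (τ w) := by
  rw [rd_comp, rd_of_surjectiveOnStalks (f := τ) w, add_zero]

/-- The upper set of the image of an immersion. -/
theorem upSet_range_eq {W : Scheme.{u}} (τ : W ⟶ X) [IsPreimmersion τ] [LocallyOfFiniteType τ] [QuasiCompact τ]
    (f : X ⟶ Y) [LocallyOfFiniteType f] (n : ℕ) :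
    upSet f (Set.range τ) n =
      FibreTop.fibClosure f (τ '' {w | (n : WithBot ℕ∞) ≤ FlatMor.fibreDimAt (τ ≫ f) w}) := by
  ext x
  constructor
  · rintro ⟨x', hx', he, ⟨w, rfl⟩, hn⟩
    rw [← rd_comp_preimmersion τ f] at hn
    refine closure_mono (Set.singleton_subset_iff.2 ?_) (specializes_iff_mem_closure.1 hx')
    exact ⟨⟨w, le_trans (by exact_mod_cast hn) (rd_le_fibreDimAt (τ ≫ f) specializes_rfl rfl), rfl⟩, he⟩
  · intro hx
    let C : Set W := {w | (n : WithBot ℕ∞) ≤ FlatMor.fibreDimAt (τ ≫ f) w}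
    have hC : IsClosed C := by
      cases n with
      | zero =>
        convert isClosed_univ (X := W)
        ext w
        obtain ⟨w', -, -, hw', -⟩ := exists_fibreDimAt_eq (τ ≫ f) w
        simp only [C, Set.mem_setOf_eq, Set.mem_univ, iff_true, hw']
        exact_mod_cast Nat.zero_le _
      | succ n =>
        convert (isOpen_fibreDimAt_le (τ ≫ f) n).isClosed_compl
        ext w
        obtain ⟨w', -, -, hw', -⟩ := exists_fibreDimAt_eq (τ ≫ f) w
        simp only [C, Set.mem_setOf_eq, Set.mem_compl_iff, hw']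
        constructor
        · intro h1 h2
          have h1' : n + 1 ≤ rd (τ ≫ f) w' := by exact_mod_cast h1
          have h2' : rd (τ ≫ f) w' ≤ n := by exact_mod_cast h2
          omega
        · intro h1
          exact_mod_cast (by
            by_contra hc
            exact h1 (by exact_mod_cast (by omega : rd (τ ≫ f) w' ≤ n)) : n + 1 ≤ rd (τ ≫ f) w')
    let F := fibMap τ f (f x)
    haveI : QuasiCompact F := MorphismProperty.of_isPullback (CMEquiDim4.isPullback_fibMap τ f (f x)) inferInstance
    have hx' : f.asFiber x ∈ closure (F '' ((τ ≫ f).fiberι (f x) ⁻¹' C)) := by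
      rw [(f.fiberι (f x)).isEmbedding.closure_eq_preimage_closure_image, Set.mem_preimage, f.fiberι_asFiber]
      refine closure_mono ?_ (FibreTop.mem_fibClosure.1 hx)
      rintro _ ⟨⟨w, hw, rfl⟩, hwx⟩
      obtain ⟨v, hv⟩ : w ∈ Set.range ((τ ≫ f).fiberι (f x)) := by
        rw [Scheme.Hom.range_fiberι]; exact hwx
      refine ⟨F v, ⟨v, by rw [Set.mem_preimage, hv]; exact hw, rfl⟩, ?_⟩
      rw [fiberι_fibMap, hv]
    obtain ⟨v, hv, hvx⟩ := GrpdB.exists_specializes_of_mem_closure_image F
      (hC.preimage ((τ ≫ f).fiberι (f x)).continuous) hx'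
    obtain ⟨h1, h2⟩ := fiberι_mem f hvx
    rw [fiberι_fibMap] at h1 h2
    set w := (τ ≫ f).fiberι (f x) v
    obtain ⟨w', hw', hew', hdw', -⟩ := exists_fibreDimAt_eq (τ ≫ f) w
    refine ⟨τ w', (hw'.map τ.continuous).trans h1, ?_, ⟨w', rfl⟩, ?_⟩
    · rw [← Scheme.Hom.comp_apply, hew', Scheme.Hom.comp_apply, h2]
    · have hv' : (n : WithBot ℕ∞) ≤ FlatMor.fibreDimAt (τ ≫ f) w := hv
      rw [hdw'] at hv'
      rw [← rd_comp_preimmersion τ f]
      exact_mod_cast hv'

theorem isLocallyConstructible_upSet_range {W : Scheme.{u}} (τ : W ⟶ X) [IsPreimmersion τ]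
    [LocallyOfFinitePresentation τ] [QuasiCompact τ] (f : X ⟶ Y) [LocallyOfFinitePresentation f] (n : ℕ) :
    IsLocallyConstructible (upSet f (Set.range τ) n) := by
  rw [upSet_range_eq]
  refine FibreTop.isLocallyConstructible_fibClosure f (τ.isLocallyConstructible_image ?_)
  cases n with
  | zero =>
    convert IsLocallyConstructible.univ (X := W)
    ext w
    obtain ⟨w', -, -, hw', -⟩ := exists_fibreDimAt_eq (τ ≫ f) w
    simp only [Set.mem_setOf_eq, Set.mem_univ, iff_true, hw']
    exact_mod_cast Nat.zero_le _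
  | succ n =>
    convert AnPtsTop.isLocallyConstructible_compl
      ((isRetrocompact_fibreDimAt_le (τ ≫ f) n).isConstructible (isOpen_fibreDimAt_le (τ ≫ f) n)).isLocallyConstructible
    ext w
    obtain ⟨w', -, -, hw', -⟩ := exists_fibreDimAt_eq (τ ≫ f) w
    simp only [Set.mem_setOf_eq, Set.mem_compl_iff, hw']
    constructor
    · intro h1 h2
      have h1' : n + 1 ≤ rd (τ ≫ f) w' := by exact_mod_cast h1
      have h2' : rd (τ ≫ f) w' ≤ n := by exact_mod_cast h2
      omega
    · intro h1
      exact_mod_cast (by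
        by_contra hc
        exact h1 (by exact_mod_cast (by omega : rd (τ ≫ f) w' ≤ n)) : n + 1 ≤ rd (τ ≫ f) w')

theorem isConstructible_upSet_affine (A : CommRingCat.{u}) (f : Spec A ⟶ Y) [LocallyOfFinitePresentation f]
    {T : Set (Spec A)} (hT : IsConstructible T) (n : ℕ) : IsLocallyConstructible (upSet f T n) := by
  obtain ⟨D, rfl⟩ := PrimeSpectrum.exists_constructibleSetData_iff.2 hT
  rw [show upSet f D.toSet n = ⋃ d ∈ (D : Set (PrimeSpectrum.BasicConstructibleSetData A)), upSet f d.toSet n by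
    ext x
    simp only [upSet, PrimeSpectrum.ConstructibleSetData.toSet, Set.mem_setOf_eq, Set.mem_iUnion, exists_prop,
      SetLike.mem_coe]
    constructor
    · rintro ⟨x', h1, h2, ⟨d, hd, h3⟩, h4⟩
      exact ⟨d, hd, x', h1, h2, h3, h4⟩
    · rintro ⟨d, hd, x', h1, h2, h3, h4⟩
      exact ⟨x', h1, h2, ⟨d, hd, h3⟩, h4⟩]
  refine IsLocallyConstructible.biUnion D.finite_toSet fun d _ => ?_
  obtain ⟨B, τ, hτ, hτf, hr⟩ := FibreTop.exists_immersion_range_eq d
  rw [← hr]
  exact isLocallyConstructible_upSet_range τ f n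

/-- **Local constructibility** of upper sets. -/
theorem isLocallyConstructible_upSet (f : X ⟶ Y) [LocallyOfFinitePresentation f] {T : Set X}
    (hT : IsLocallyConstructible T) (n : ℕ) : IsLocallyConstructible (upSet f T n) := by
  refine .of_isOpenCover X.affineCover.isOpenCover_opensRange fun i => ?_
  let j := X.affineCover.f i
  have h := isConstructible_upSet_affine _ (j ≫ f) (T := j ⁻¹' T)
    (hT.preimage_of_isOpenEmbedding j.isOpenEmbedding).isConstructible n
  have hpre : j ⁻¹' upSet f T n = upSet (j ≫ f) (j ⁻¹' T) n := by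
    ext x
    constructor
    · rintro ⟨x', h1, h2, h3, h4⟩
      obtain ⟨w, rfl⟩ : x' ∈ Set.range j := h1.mem_open j.isOpenEmbedding.isOpen_range ⟨x, rfl⟩
      exact ⟨w, j.isOpenEmbedding.isInducing.specializes_iff.1 h1, h2, h3, by rwa [rd_comp_preimmersion]⟩
    · rintro ⟨w, h1, h2, h3, h4⟩
      exact ⟨j w, h1.map j.continuous, h2, h3, by rwa [rd_comp_preimmersion] at h4⟩
  rw [← hpre] at h
  let e := j.isoOpensRange
  refine (congrArg IsLocallyConstructible (Set.ext fun u => ?_)).mp
    (h.preimage_of_isOpenEmbedding e.inv.isOpenEmbedding)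
  show j (e.inv u) ∈ upSet f T n ↔ u.1 ∈ upSet f T n
  rw [← Scheme.Hom.comp_apply, Scheme.Hom.isoOpensRange_inv_comp]
  rfl

end Groth.Agent.FibDepth5
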